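import Mathlib

/-!
# Chevalley-Warning, with values in a subfield (helper530, for S4158)

* `exists_zero` : polynomials `f i` without constant term over a finite field `K`, `f i (x) ^ e i ∈ {0, 1}`,
  `∑ e i * deg f i < (|K| - 1) n` have a common non-trivial zero;
* `exists_quad` : `k` quadratic and `l` linear forms in `n > 2 k + l` variables;
* `exists_herm` : `k` forms `∑ A i j x i x j ^ q` with values in the subfield `{a | a ^ q = a}`, `|K| = q ^ 2`, in
  `n > k` variables.
-/

set_option autoImplicit false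
set_option linter.unusedSectionVars false

namespace Cfsg.Agent.H530.CW

open MvPolynomial Finset

variable {K σ : Type*} [Field K] [Fintype K] [Fintype σ] [DecidableEq σ]

theorem exists_zero {ι : Type*} [Fintype ι] (f : ι → MvPolynomial σ K) (e : ι → ℕ) (he : ∀ i, 0 < e i)
    (h1 : ∀ i x, eval x (f i) ≠ 0 → eval x (f i) ^ e i = 1) (h0 : ∀ i, eval 0 (f i) = 0)
    (hd : ∑ i, e i * (f i).totalDegree < (Fintype.card K - 1) * Fintype.card σ) :
    ∃ x : σ → K, x ≠ 0 ∧ ∀ i, eval x (f i) = 0 := by
  classical
  by_contra hno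
  push Not at hno
  let G : MvPolynomial σ K := ∏ i, (1 - f i ^ e i)
  have hG : ∀ x, eval x G = if x = 0 then 1 else 0 := by
    intro x
    have h2 : eval x G = ∏ i, (1 - eval x (f i) ^ e i) := by
      rw [show G = ∏ i, (1 - f i ^ e i) from rfl, eval_prod]
      exact Finset.prod_congr rfl fun i _ => by rw [map_sub, map_pow, map_one]
    rw [h2]
    split_ifs with hx
    · subst hx
      refine Finset.prod_eq_one fun i _ => ?_
      rw [h0, zero_pow (he i).ne', sub_zero]
    · obtain ⟨i, hi⟩ := hno x hx
      refine Finset.prod_eq_zero (Finset.mem_univ i) ?_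
      rw [h1 i x hi, sub_self]
  have h2 : ∑ x, eval x G = 1 := by
    rw [Finset.sum_congr rfl fun x _ => hG x, Finset.sum_ite_eq' Finset.univ (0 : σ → K) fun _ => (1 : K)]
    simp
  have h3 : ∑ x, eval x G = 0 := by
    refine MvPolynomial.sum_eval_eq_zero G (lt_of_le_of_lt ?_ hd)
    calc G.totalDegree ≤ ∑ i, (1 - f i ^ e i).totalDegree := totalDegree_finsetProd _ _
      _ ≤ ∑ i, e i * (f i).totalDegree := Finset.sum_le_sum fun i _ => ?_
    calc (1 - f i ^ e i).totalDegree ≤ max (1 : MvPolynomial σ K).totalDegree (f i ^ e i).totalDegree :=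
          totalDegree_sub _ _
      _ ≤ (f i ^ e i).totalDegree := by simp
      _ ≤ e i * (f i).totalDegree := totalDegree_pow _ _
  exact one_ne_zero (h2.symm.trans h3)

/-- the polynomial of a quadratic form -/
noncomputable def quad (A : Matrix σ σ K) : MvPolynomial σ K := ∑ i, ∑ j, C (A i j) * (X i * X j)

theorem eval_quad (A : Matrix σ σ K) (x : σ → K) : eval x (quad A) = dotProduct x (A.mulVec x) := by
  unfold quad dotProduct Matrix.mulVec dotProduct
  rw [map_sum]
  refine Finset.sum_congr rfl fun i _ => ?_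
  rw [map_sum, Finset.mul_sum]
  refine Finset.sum_congr rfl fun j _ => ?_
  rw [map_mul, map_mul, eval_C, eval_X, eval_X]
  ring

theorem totalDegree_quad (A : Matrix σ σ K) : (quad A).totalDegree ≤ 2 := by
  unfold quad
  refine totalDegree_finsetSum_le fun i _ => totalDegree_finsetSum_le fun j _ => ?_
  refine (totalDegree_mul _ _).trans ?_
  rw [totalDegree_C, zero_add]
  refine (totalDegree_mul _ _).trans ?_
  rw [totalDegree_X, totalDegree_X]

/-- the polynomial of a linear form -/
noncomputable def lin (g : σ → K) : MvPolynomial σ K := ∑ i, C (g i) * X i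

theorem eval_lin (g : σ → K) (x : σ → K) : eval x (lin g) = dotProduct g x := by
  unfold lin dotProduct
  rw [map_sum]
  refine Finset.sum_congr rfl fun i _ => ?_
  rw [map_mul, eval_C, eval_X]

theorem totalDegree_lin (g : σ → K) : (lin g).totalDegree ≤ 1 := by
  unfold lin
  refine totalDegree_finsetSum_le fun i _ => ?_
  refine (totalDegree_mul _ _).trans ?_
  rw [totalDegree_C, zero_add, totalDegree_X]

/-- **Common zeros of quadratic and linear forms.** -/
theorem exists_quad {k l : ℕ} (A : Fin k → Matrix σ σ K) (g : Fin l → σ → K) (h : 2 * k + l < Fintype.card σ) :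
    ∃ x : σ → K, x ≠ 0 ∧ (∀ i, dotProduct x ((A i).mulVec x) = 0) ∧ ∀ j, dotProduct (g j) x = 0 := by
  have hK : 0 < Fintype.card K - 1 := by
    have := Fintype.one_lt_card (α := K)
    omega
  have key := exists_zero (K := K) (σ := σ) (ι := Fin k ⊕ Fin l)
    (Sum.elim (fun i => quad (A i)) fun j => lin (g j)) (fun _ => Fintype.card K - 1) (fun _ => hK)
    (fun i x h => FiniteField.pow_card_sub_one_eq_one _ h)
    (by
      rintro (i | j)
      · rw [Sum.elim_inl, eval_quad, zero_dotProduct]
      · rw [Sum.elim_inr, eval_lin, dotProduct_zero])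
    (by
      rw [← Finset.mul_sum]
      refine Nat.mul_lt_mul_of_pos_left ?_ hK
      rw [Fintype.sum_sum_type]
      refine lt_of_le_of_lt (Nat.add_le_add (Finset.sum_le_card_nsmul _ _ 2 fun i _ => totalDegree_quad (A i))
        (Finset.sum_le_card_nsmul _ _ 1 fun j _ => totalDegree_lin (g j))) ?_
      simpa [mul_comm] using h)
  obtain ⟨x, hx, hx'⟩ := key
  refine ⟨x, hx, fun i => ?_, fun j => ?_⟩
  · rw [← eval_quad]; exact hx' (Sum.inl i)
  · rw [← eval_lin]; exact hx' (Sum.inr j)

/-- the polynomial `∑ A i j x i x j ^ q` -/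
noncomputable def herm (q : ℕ) (A : Matrix σ σ K) : MvPolynomial σ K := ∑ i, ∑ j, C (A i j) * (X i * X j ^ q)

theorem eval_herm (q : ℕ) (A : Matrix σ σ K) (x : σ → K) :
    eval x (herm q A) = dotProduct x (A.mulVec fun j => x j ^ q) := by
  unfold herm dotProduct Matrix.mulVec dotProduct
  rw [map_sum]
  refine Finset.sum_congr rfl fun i _ => ?_
  rw [map_sum, Finset.mul_sum]
  refine Finset.sum_congr rfl fun j _ => ?_
  rw [map_mul, map_mul, map_pow, eval_C, eval_X, eval_X]
  ring

theorem totalDegree_herm (q : ℕ) (A : Matrix σ σ K) : (herm q A).totalDegree ≤ q + 1 := by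
  unfold herm
  refine totalDegree_finsetSum_le fun i _ => totalDegree_finsetSum_le fun j _ => ?_
  refine (totalDegree_mul _ _).trans ?_
  rw [totalDegree_C, zero_add]
  refine (totalDegree_mul _ _).trans ?_
  refine (Nat.add_le_add_left (totalDegree_pow _ _) _).trans ?_
  rw [totalDegree_X, totalDegree_X, mul_one, add_comm]

/-- **Common zeros of hermitian forms.** -/
theorem exists_herm {q k : ℕ} (hq : Fintype.card K = q ^ 2) (A : Fin k → Matrix σ σ K)
    (hA : ∀ i (x : σ → K), dotProduct x ((A i).mulVec fun j => x j ^ q) ^ q = dotProduct x ((A i).mulVec fun j => x j ^ q))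
    (h : k < Fintype.card σ) :
    ∃ x : σ → K, x ≠ 0 ∧ ∀ i, dotProduct x ((A i).mulVec fun j => x j ^ q) = 0 := by
  have hq2 : 2 ≤ q := by
    have h1 := Fintype.one_lt_card (α := K)
    rw [hq] at h1
    by_contra h2
    have h3 : q ≤ 1 := by omega
    interval_cases q <;> omega
  suffices key : ∃ x : σ → K, x ≠ 0 ∧ ∀ i, eval x (herm q (A i)) = 0 by
    obtain ⟨x, hx, hx'⟩ := key
    exact ⟨x, hx, fun i => by rw [← eval_herm]; exact hx' i⟩
  refine exists_zero (K := K) (σ := σ) (fun i => herm q (A i)) (fun _ => q - 1) (fun _ => by omega) ?_ ?_ ?_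
  · intro i x hne
    rw [eval_herm] at hne ⊢
    have h1 := hA i x
    have h2 : q = (q - 1) + 1 := by omega
    rw [h2, pow_succ] at h1
    rw [← h2] at h1
    exact mul_right_cancel₀ hne (h1.trans (one_mul _).symm)
  · intro i
    rw [eval_herm, zero_dotProduct]
  · rw [← Finset.mul_sum]
    calc (q - 1) * ∑ i, (herm q (A i)).totalDegree ≤ (q - 1) * (k * (q + 1)) := by
          refine Nat.mul_le_mul_left _ ?_
          refine (Finset.sum_le_card_nsmul _ _ (q + 1) fun i _ => totalDegree_herm q (A i)).trans ?_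
          simp
      _ < (Fintype.card K - 1) * Fintype.card σ := by
          have h1 : Fintype.card K - 1 = (q - 1) * (q + 1) := by
            obtain ⟨m, rfl⟩ : ∃ m, q = m + 1 := ⟨q - 1, by omega⟩
            rw [hq, Nat.add_sub_cancel]
            have : (m + 1) ^ 2 = m * (m + 1 + 1) + 1 := by ring
            omega
          rw [h1, mul_assoc, mul_comm k]
          exact Nat.mul_lt_mul_of_pos_left (Nat.mul_lt_mul_of_pos_left h (by omega)) (by omega)

end Cfsg.Agent.H530.CW
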