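import Cfsg.Agent.H530.Flag
import Cfsg.Agent.H530.CW

/-!
# Unipotent subgroups of chains of subspaces (helper530, for S4158)

`UC φ S` : the `u ∈ K` with `(φ u - 1) S i ≤ S (i + 1)` for all `i`, `S` an antitone chain of subspaces with `S k = 0`.
-/

set_option autoImplicit false
set_option linter.unusedSectionVars false

namespace Cfsg.Agent.H530.Chain

open Matrix Subgroup Cfsg.Agent.H530.Cop Cfsg.Agent.H530.LinTools Cfsg.Agent.H530.Flag

variable {F : Type*} [Field F] {ι : Type*} [Fintype ι] [DecidableEq ι] {K : Type*} [Group K] (φ : K →* Matrix ι ι F)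

/-- a chain of subspaces ending in `0` -/
structure Ch (F ι : Type*) [Field F] where
  /-- the subspaces -/
  S : ℕ → Submodule F (ι → F)
  anti : ∀ i, S (i + 1) ≤ S i
  /-- the length -/
  k : ℕ
  bot : ∀ i, k ≤ i → S i = ⊥
  top : S 0 = ⊤

/-- the unipotent subgroup of a chain -/
def UC (c : Ch F ι) : Subgroup K where
  carrier := {u | ∀ i, ∀ w ∈ c.S i, φ u *ᵥ w - w ∈ c.S (i + 1)}
  one_mem' := fun i w _ => by
    rw [one_mulVec', sub_self]
    exact zero_mem _
  mul_mem' := by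
    intro a b ha hb i w hw
    have h1 := hb i w hw
    have h2 := ha i (φ b *ᵥ w) (by
      have : φ b *ᵥ w = (φ b *ᵥ w - w) + w := by abel
      rw [this]
      exact add_mem (c.anti i h1) hw)
    rw [mul_mulVec, show φ a *ᵥ (φ b *ᵥ w) - w = (φ a *ᵥ (φ b *ᵥ w) - φ b *ᵥ w) + (φ b *ᵥ w - w) by abel]
    exact add_mem h2 h1
  inv_mem' := by
    intro a ha
    have hpres : ∀ j i, c.k ≤ i + j → ∀ w ∈ c.S i, φ a⁻¹ *ᵥ w ∈ c.S i := by
      intro j
      induction j with
      | zero =>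
        intro i hi w hw
        rw [c.bot i hi] at hw
        rw [(Submodule.mem_bot F).1 hw, mulVec_zero]
        exact zero_mem _
      | succ j ih =>
        intro i hi w hw
        have h1 := c.anti i (ih (i + 1) (by omega) _ (ha i w hw))
        have h2 : φ a⁻¹ *ᵥ w = w - φ a⁻¹ *ᵥ (φ a *ᵥ w - w) := by
          rw [mulVec_sub, inv_mulVec]
          abel
        rw [h2]
        exact sub_mem hw h1
    intro i w hw
    have h2 : φ a⁻¹ *ᵥ w - w = -(φ a⁻¹ *ᵥ (φ a *ᵥ w - w)) := by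
      rw [mulVec_sub, inv_mulVec]
      abel
    rw [h2]
    exact neg_mem (hpres c.k (i + 1) (by omega) _ (ha i w hw))

variable {φ}

theorem mem_UC {c : Ch F ι} {u : K} : u ∈ UC φ c ↔ ∀ i, ∀ w ∈ c.S i, φ u *ᵥ w - w ∈ c.S (i + 1) := Iff.rfl

/-- unipotent matrices in characteristic `p` -/
theorem pow_of_nilp {p k j : ℕ} [Fact p.Prime] [CharP F p] {u : Matrix ι ι F} (h : (u - 1) ^ k = 0)
    (hk : k ≤ p ^ j) : u ^ p ^ j = 1 := by
  rcases isEmpty_or_nonempty ι with he | hne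
  · exact Subsingleton.elim _ _
  have h2 : (u - 1) ^ p ^ j = 0 := by
    obtain ⟨m, hm⟩ := Nat.exists_eq_add_of_le hk
    rw [hm, pow_add, h, zero_mul]
  have h3 := sub_pow_char_pow_of_commute (p := p) (n := j) (Commute.one_right u)
  rw [h2, one_pow] at h3
  exact (sub_eq_zero.1 h3.symm)

theorem pow_eq_one {p : ℕ} [Fact p.Prime] [CharP F p] (hφ : Function.Injective φ) {c : Ch F ι} {u : K}
    (hu : u ∈ UC φ c) : u ^ p ^ c.k = 1 := by
  apply hφ
  rw [map_pow, map_one]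
  have key : ∀ i w, ((φ u - 1) ^ i) *ᵥ w ∈ c.S i := by
    intro i
    induction i with
    | zero => intro w; rw [c.top]; exact Submodule.mem_top
    | succ i ih =>
      intro w
      rw [pow_succ', ← mulVec_mulVec, sub_mulVec, one_mulVec]
      exact hu i _ (ih w)
  refine pow_of_nilp (k := c.k) (ext_mulVec fun w => ?_) ?_
  · have h1 := key c.k w
    rw [c.bot c.k le_rfl, Submodule.mem_bot] at h1
    rw [h1, zero_mulVec]
  · exact (Nat.lt_pow_self (Fact.out : p.Prime).one_lt).le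

/-- the image of `UC` in `K ⧸ center K` is a `p`-group -/
theorem isPGroup_map {p : ℕ} [Fact p.Prime] [CharP F p] (hφ : Function.Injective φ) (c : Ch F ι) :
    IsPGroup p ((UC φ c).map (QuotientGroup.mk' (center K))) := by
  rintro ⟨a, ha⟩
  obtain ⟨u, hu, rfl⟩ := mem_map.1 ha
  refine ⟨c.k, Subtype.ext ?_⟩
  change (QuotientGroup.mk' (center K) u) ^ p ^ c.k = 1
  rw [← map_pow, pow_eq_one hφ hu, map_one]

/-- the chain `V ≥ A ≥ B ≥ C ≥ D ≥ 0` -/
def five (A B C D : Submodule F (ι → F)) (h1 : B ≤ A) (h2 : C ≤ B) (h3 : D ≤ C) : Ch F ι where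
  S := fun i => match i with
    | 0 => ⊤
    | 1 => A
    | 2 => B
    | 3 => C
    | 4 => D
    | _ + 5 => ⊥
  anti := fun i => match i with
    | 0 => le_top
    | 1 => h1
    | 2 => h2
    | 3 => h3
    | 4 => bot_le
    | _ + 5 => le_rfl
  k := 5
  bot := fun i hi => by
    obtain ⟨j, rfl⟩ := Nat.exists_eq_add_of_le hi
    rw [add_comm]
  top := rfl

theorem mem_five {A B C D : Submodule F (ι → F)} {h1 : B ≤ A} {h2 : C ≤ B} {h3 : D ≤ C} {u : K}
    (e0 : ∀ w, φ u *ᵥ w - w ∈ A) (e1 : ∀ w ∈ A, φ u *ᵥ w - w ∈ B) (e2 : ∀ w ∈ B, φ u *ᵥ w - w ∈ C)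
    (e3 : ∀ w ∈ C, φ u *ᵥ w - w ∈ D) (e4 : ∀ w ∈ D, φ u *ᵥ w = w) : u ∈ UC φ (five A B C D h1 h2 h3) := by
  rw [mem_UC]
  intro i w hw
  match i with
  | 0 => exact e0 w
  | 1 => exact e1 w hw
  | 2 => exact e2 w hw
  | 3 => exact e3 w hw
  | 4 =>
    change φ u *ᵥ w - w ∈ (⊥ : Submodule F (ι → F))
    rw [e4 w hw, sub_self]
    exact zero_mem _
  | j + 5 =>
    have h : w = 0 := (Submodule.mem_bot F).1 hw
    rw [h, mulVec_zero, sub_zero]
    exact zero_mem _

end Cfsg.Agent.H530.Chain
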