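import Cfsg.Agent.H129.UntwT
import Cfsg.Agent.H129.TwT
import Cfsg.Agent.H129.PhiE

/-!
# The cyclic tori of the untwisted groups with non-trivial centre of the simply connected group: orders (helper530)
-/

set_option autoImplicit false
set_option linter.unusedSectionVars false

namespace Cfsg.Agent.H530.ExcHalf

open CoxeterSystem Cfsg Cfsg.Lie Cfsg.Lie.ChevalleyDatum
open Cfsg.Agent.ChevalleyStructure Cfsg.Agent.ChevalleyStructure.Elts Cfsg.Agent.ChevalleyStructure.CoxeterGeom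
  Cfsg.Agent.ChevalleyStructure.CoxeterGeomTypes Cfsg.Agent.ChevalleyStructure.NPerm
open Cfsg.Agent.Tits.Roots Cfsg.Agent.Tits.Core Cfsg.Agent.Nodes Cfsg.Agent.Nodes.Reps Cfsg.Agent.Nodes.BNOf
  Cfsg.Agent.Nodes.RGDChev Cfsg.Agent.Nodes.Bruhat Cfsg.Agent.Nodes.SubComb Cfsg.Agent.Nodes.Coroot
open Cfsg.Agent.KFacts.RgdField Cfsg.Agent.KFacts.RgdChevCoord Cfsg.Agent.BpExc.TorCent Cfsg.Agent.BpExc.TorChev
open Cfsg.Agent.GpExc.Field Cfsg.Agent.BpExc.Tow Cfsg.Agent.BpExc.TowChev Cfsg.Agent.BpExc.Fr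
  Cfsg.Agent.BpExc.LangFr Cfsg.Agent.LangThm Cfsg.Agent.BpExc Cfsg.Agent.H129.TorusChar Cfsg.Agent.H129.TorusCent
  Cfsg.Agent.H129.TorusTw Cfsg.Agent.H129.TorusMain Cfsg.Agent.H129.TorusUntw Cfsg.Agent.H129.TorAct
  Cfsg.Agent.H129.WData Cfsg.Agent.H129.UntwTwo Cfsg.Agent.H129.StCover
open Cfsg.Agent.ChevalleyStructure.StTorus (eval_eq_one)

universe u

variable {D : ChevalleyDatum} {l : ℕ} {M : CoxeterMatrix (Fin l)} (hp : IsType D l M)
  {W : Type*} [Group W] (cs : CoxeterSystem M W)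

include hp cs in
/-- **The orders of the cyclic tori.** -/
theorem untw_exact [Finite W] (hl : 0 < l) {F : Type u} [Field F] [Fintype F] {q : ℕ} (hq : Fintype.card F = q)
    {d : ℕ} (hdp : d.Prime) {B' : Fin l → Fin l → ℤ} (hB : InvC D l d B') (hdq : d ∣ q - 1)
    (hPhi : ∃ Φ : (Fin D.rank → (AlgebraicClosure F)ˣ) →* D.SteinbergGroup (AlgebraicClosure F), IsPhi Φ)
    {kv : Fin D.rank → ℤ} {i0 : Fin D.rank} (hk0 : kv i0 = 1)
    (hkv : ∀ s < D.nroots, (d : ℤ) ∣ ∑ i : Fin D.rank, kv i * D.cartan i s)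
    {Bc : Fin D.rank → Fin D.rank → ℤ}
    (hBc : ∀ i m : Fin D.rank, ∑ j : Fin D.rank, D.cartan i (D.simple j) * Bc j m = if i = m then (d : ℤ) else 0)
    {A : Mat l} (hA : ∀ i j, A i j = cartanOf D l i j) {L : List (Fin l × Mat l)} (hL : ChainOK A L)
    {V B : Mat l} {c : Fin l → ℤ} (hcyc : CycOK l (hd L) V B c) {m : ℕ} {R : Fin m → Fin l → ℤ} {prv dep : ℕ → ℕ}
    (hR : RootOK D l (hd L) R prv dep) {N : ℕ} (hfN : fN c (q : ℤ) = N) (hqN : q.Coprime N) :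
    ∃ T : Subgroup ↥(D.group F), IsCyclic ↥T ∧ d * Nat.card ↥T = N ∧
      (∀ r : ℕ, r.Prime → ¬ r ∣ Nat.card W → (∀ s, ¬ (r : ℤ) ∣ Gq B (q : ℤ) (R s)) → ∀ y ∈ T, orderOf y = r →
        Subgroup.centralizer {y} ≤ T) := by
  have hlin := lin_refl hp cs hA hL
  have hc := cyc_of hlin hcyc
  obtain ⟨p, e, hpF, hpc, hpk, he, rfl, hk⟩ := exists_closure hq
  obtain ⟨Φ, hΦ⟩ := hPhi
  have hpN : ¬ p ∣ N := fun h1 => by
    have h2 : p ∣ Nat.gcd (p ^ e) N := Nat.dvd_gcd (dvd_pow_self p he.ne') h1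
    rw [hqN] at h2
    exact hpF.out.one_lt.ne' (Nat.dvd_one.1 h2)
  have hN0 : N ≠ 0 := fun h0 => hpN (by rw [h0]; exact dvd_zero p)
  have hpd : ¬ p ∣ d := fun h1 => by
    have h2 : p = d := (Nat.prime_dvd_prime_iff_eq hpF.out hdp).1 h1
    subst h2
    have h3 : p ∣ p ^ e := dvd_pow_self p he.ne'
    have h4 : 0 < p ^ e := Nat.pow_pos hpF.out.pos
    have h5 : p ∣ 1 := by
      have h6 := Nat.dvd_sub h3 hdq
      have h7 : p ^ e - (p ^ e - 1) = 1 := by omega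
      rwa [h7] at h6
    exact hpF.out.one_lt.ne' (Nat.dvd_one.1 h5)
  -- the centre
  have hdk : ((d : ℕ) : AlgebraicClosure F) ≠ 0 := by
    rw [Ne, CharP.cast_eq_zero_iff (AlgebraicClosure F) p]
    exact hpd
  have : NeZero ((d : ℕ) : AlgebraicClosure F) := ⟨hdk⟩
  have : NeZero d := ⟨hdp.ne_zero⟩
  obtain ⟨ζ, hζ⟩ := HasEnoughRootsOfUnity.exists_primitiveRoot (AlgebraicClosure F) d
  have hζ0 : ζ ≠ 0 := hζ.ne_zero hdp.ne_zero
  set ω : (AlgebraicClosure F)ˣ := Units.mk0 ζ hζ0 with hω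
  have hωd : ω ^ d = 1 := Units.ext (by rw [Units.val_pow_eq_pow_val]; exact hζ.pow_eq_one)
  have hcc : ∀ s < D.nroots, ∏ i : Fin D.rank, (ω ^ kv i) ^ D.cartan i s = 1 := by
    intro s hs
    obtain ⟨a, ha⟩ := hkv s hs
    rw [Finset.prod_congr rfl fun i _ => (zpow_mul ω (kv i) (D.cartan i s)).symm, prod_zpow_sum, ha, zpow_mul,
      zpow_natCast, hωd, one_zpow]
  have hc1 : (fun i => ω ^ kv i : Fin D.rank → (AlgebraicClosure F)ˣ) ≠ 1 := by
    intro h1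
    have h2 := congrFun h1 i0
    simp only [hk0, zpow_one, Pi.one_apply] at h2
    have h3 : ζ = 1 := congrArg Units.val h2
    rw [h3] at hζ
    exact hdp.one_lt.ne' (hζ.eq_orderOf.trans orderOf_one)
  have hfix : ∀ b : Fin D.rank → (AlgebraicClosure F)ˣ, (∀ s < D.nroots, ∏ i : Fin D.rank, b i ^ D.cartan i s = 1) →
      ∀ i, b i ^ p ^ e = b i := by
    intro b hb i
    have h1 := eval_eq_one (fun i j : Fin D.rank => D.cartan i (D.simple j)) (fun j => Bc j i)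
      (fun m => if m = i then (d : ℤ) else 0) (fun m => hBc m i) b
      (fun j => hb (D.simple j) (simple_lt hp.inList j.2))
    rw [Finset.prod_eq_single i] at h1
    · rw [if_pos rfl, zpow_natCast] at h1
      obtain ⟨a, ha⟩ := hdq
      have h2 : p ^ e = d * a + 1 := by
        have : 0 < p ^ e := Nat.pow_pos hpF.out.pos
        omega
      rw [h2, pow_succ, pow_mul, h1, one_pow, one_mul]
    · intro j _ hj; rw [if_neg hj, zpow_zero]
    · intro hi; exact absurd (Finset.mem_univ _) hi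
  have hnsys := nsys_of_locFin hp cs hk p
  set f := algebraMap F (AlgebraicClosure F) with hf
  set w := cs.wordProd (L.map Prod.fst) with hw
  obtain ⟨n, z, t, u, X⟩ := TD.exists_of (hp := hp) (cs := cs) (k := AlgebraicClosure F) (hN := hnsys) (w := w) hl hk he
    isFrob_phi (fr_phi hp cs) hB hdp.ne_zero hc hfN hpN
  have hord : orderOf (z * t * z⁻¹) = N := by
    have h3 : z * t * z⁻¹ = MulAut.conj z t := rfl
    rw [h3, ← X.htN]
    exact orderOf_injective (MulAut.conj z).toMonoidHom (MulAut.conj z).injective t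
  have hσz : phi D (AlgebraicClosure F) p e z = z * n := by rw [X.hz]; group
  have hσa : phi D (AlgebraicClosure F) p e (z * t * z⁻¹) = z * t * z⁻¹ := by
    rw [map_mul, map_mul, map_inv, hσz]
    calc z * n * phi D (AlgebraicClosure F) p e t * (z * n)⁻¹ =
        z * (n * phi D (AlgebraicClosure F) p e t * n⁻¹) * z⁻¹ := by group
      _ = z * t * z⁻¹ := by rw [X.hτ]
  have hae : z * t * z⁻¹ ∉ (emb hp.inList f).range :=
    not_mem_range hp cs hΦ f hq hcc hc1 hfix X.hn X.hz X.hgen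
  have he0 := emb_injective hp.inList f
  have hgood : ∀ r : ℕ, r.Prime → r ∣ N → (∀ s, ¬ (r : ℤ) ∣ Gq B ((p ^ e : ℕ) : ℤ) (R s)) →
      ∀ a, IsRoot cs hp.isCartan a → ¬ (r : ℤ) ∣ Gq B ((p ^ e : ℕ) : ℤ) a := fun r hr hrN hG a ha =>
    not_dvd_G hp cs hlin hc hR hfN hr hrN hqN hG ha
  have h2 := card_T0_dvd (a := z * t * z⁻¹) he0
  rw [hord] at h2
  refine ⟨T0 (emb hp.inList f) (z * t * z⁻¹), isCyclic_T0 he0, ?_, ?_⟩
  · have h1 := dvd_card_T0 he0 (fix_pow_range hp cs f hq hB hdp.ne_zero hσa)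
    have h3 := card_T0_ne he0 hae (by rw [hord]; exact hN0)
    rw [hord] at h1 h3
    obtain ⟨m1, hm1⟩ := h2
    obtain ⟨m2, hm2⟩ := h1
    have h4 : Nat.card ↥(T0 (emb hp.inList f) (z * t * z⁻¹)) ≠ 0 := fun h0 => hN0 (by rw [hm1, h0, zero_mul])
    have h5 : m1 * m2 = d := by
      have h6 : Nat.card ↥(T0 (emb hp.inList f) (z * t * z⁻¹)) * (m1 * m2) =
          Nat.card ↥(T0 (emb hp.inList f) (z * t * z⁻¹)) * d := by
        rw [← mul_assoc, ← hm1, ← hm2, mul_comm]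
      exact Nat.eq_of_mul_eq_mul_left (Nat.pos_of_ne_zero h4) h6
    have h6 : m1 ∣ d := ⟨m2, h5.symm⟩
    rcases (Nat.dvd_prime hdp).1 h6 with h7 | h7
    · exfalso
      rw [h7, mul_one] at hm1
      exact h3 hm1.symm
    · rw [hm1, h7, mul_comm]
  · intro r hr hrW hG y hy hyr
    have hrN : r ∣ N := by
      rw [← hyr]
      refine dvd_trans ?_ h2
      have := orderOf_dvd_natCard (⟨y, hy⟩ : ↥(T0 (emb hp.inList f) (z * t * z⁻¹)))
      rwa [Subgroup.orderOf_mk] at this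
    exact X.centralizer_le hk p hN0 he0 (phi_emb hp _ hq) hr hrW (hgood r hr hrN hG) hy hyr

end Cfsg.Agent.H530.ExcHalf
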