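import Cfsg.Agent.H530.ExcUntw
import Cfsg.Agent.H530.ExcHalf
import Cfsg.Agent.H129.DataE6n
import Cfsg.Prelude.Def_LieTypeChar

/-!
# No coprime class sizes: `E₆(q)` (helper530, for S4158)
-/

set_option autoImplicit false

namespace Cfsg.Agent.H530.ExcE6

open Cfsg Cfsg.Agent.H129 Cfsg.Agent.Nodes.RGDChev Cfsg.Agent.H129.TorusTw Cfsg.Agent.H129.RealT
open Cfsg.Agent.H530.Cop Cfsg.Agent.H530.ExcTor Cfsg.Agent.H530.ExcUntw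

theorem coprime_bezp {N N' a a' p : ℕ} (hp : p.Prime) {u v : ℤ} (h : u * N + v * N' = p) (ha : a ∣ N) (ha' : a' ∣ N')
    (h2 : ¬ p ∣ a ∨ ¬ p ∣ a') : a.Coprime a' := by
  have hd : a.gcd a' ∣ p := by
    have h1 : ((a.gcd a' : ℕ) : ℤ) ∣ p := by
      rw [← h]
      exact dvd_add ((Int.natCast_dvd_natCast.2 ((Nat.gcd_dvd_left _ _).trans ha)).mul_left _)
        ((Int.natCast_dvd_natCast.2 ((Nat.gcd_dvd_right _ _).trans ha')).mul_left _)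
    exact_mod_cast h1
  rcases (Nat.dvd_prime hp).1 hd with h1 | h1
  · exact h1
  · exfalso
    rcases h2 with h2 | h2
    · exact h2 (h1 ▸ Nat.gcd_dvd_left _ _)
    · exact h2 (h1 ▸ Nat.gcd_dvd_right _ _)

universe u

theorem cardW_E6 : Nat.card CoxeterMatrix.E₆.Group = 51840 :=
  Cfsg.Agent.S1093.result (⟨6, CoxeterMatrix.E₆⟩, 51840) (by simp)

theorem not_dvd_W6 {r : ℕ} (hr : r.Prime) (h2 : r ≠ 2) (h3 : r ≠ 3) (h5 : r ≠ 5) (h7 : r ≠ 7) :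
    ¬ r ∣ Nat.card CoxeterMatrix.E₆.Group := by
  rw [cardW_E6, show (51840 : ℕ) = 2 ^ 7 * 3 ^ 4 * 5 ^ 1 * 7 ^ 0 by norm_num]
  exact not_dvd_of hr h2 h3 h5 h7

section

variable {F : Type u} [Field F] [Fintype F]

theorem tor_E6 {q : ℕ} (hF : Fintype.card F = q) : ∃ (r : ℕ) (T : Subgroup ↥(Cfsg.Lie.chevE6.group F)),
    TorAt r T ∧ Nat.card ↥T ∣ (q ^ 4 - q ^ 2 + 1) * (q ^ 2 + q + 1) := by
  have hq2 : 2 ≤ q := by rw [← hF]; exact Fintype.one_lt_card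
  have hp : IsType Cfsg.Lie.chevE6 6 CoxeterMatrix.E₆ := by simp
  have : Finite CoxeterMatrix.E₆.Group := Nat.finite_of_card_ne_zero (by rw [cardW_E6]; norm_num)
  have h0 : q ^ 2 ≤ q ^ 4 := Nat.pow_le_pow_right (by omega) (by norm_num)
  have hN : (((q ^ 4 - q ^ 2 + 1) * (q ^ 2 + q + 1) : ℕ) : ℤ) =
      1 + (q : ℤ) - (q : ℤ) ^ 3 + (q : ℤ) ^ 5 + (q : ℤ) ^ 6 := by
    push_cast [Nat.cast_sub h0]; ring
  obtain ⟨r, hr, hrq, hr2, hr3, hr5, hr7⟩ := S2373.exists_prime hq2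
  have hr12 : r ∣ q ^ 4 - q ^ 2 + 1 := by
    have hN : ((q ^ 4 - q ^ 2 + 1 : ℕ) : ℤ) = 1 - (q : ℤ) ^ 2 + (q : ℤ) ^ 4 := by
      push_cast [Nat.cast_sub h0]; ring
    have h1 := hrq
    rw [← hN] at h1
    exact Int.natCast_dvd_natCast.1 h1
  have hrW := not_dvd_W6 hr hr2 hr3 hr5 hr7
  have hG : ∀ s, ¬ (r : ℤ) ∣ Gq DataE6.B (q : ℤ) (DataE6.R s) := by
    intro s hs
    rcases DataE6.dvd_of_G hrq s hs with h1 | h1
    · exact one_of hr h1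
    · exact hr2 (eq_of hr Nat.prime_two h1)
  obtain ⟨T, h1, h3, h4, h5, h6⟩ := UntwT.untw_T hp CoxeterMatrix.E₆.toCoxeterSystem (by norm_num) hF
    TorusChar.invC_E6 (by norm_num) DataE6.hA DataE6.chainOK DataE6.cycOK DataE6.rootOK
    (N := (q ^ 4 - q ^ 2 + 1) * (q ^ 2 + q + 1))
    (by rw [DataE6.fN_eq, hN]) (UntwData.coprime_of_eq (a := 1 - (q : ℤ) ^ 2 + (q : ℤ) ^ 4 + (q : ℤ) ^ 5)
      (by rw [hN]; ring)) (d := 3) (Or.inl rfl)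
  exact ⟨r, T, ⟨hr, dvd_of_dvd_mul hr (hr12.mul_right _)
    (fun h => hr3 ((Nat.prime_dvd_prime_iff_eq hr Nat.prime_three).1 h)) h4, h5 r hr hrW hG⟩, h3⟩

theorem tor_E6n {q : ℕ} (hF : Fintype.card F = q) : ∃ (r : ℕ) (T : Subgroup ↥(Cfsg.Lie.chevE6.group F)),
    TorAt r T ∧ Nat.card ↥T ∣ q ^ 6 + q ^ 3 + 1 ∧ ¬ 3 ∣ Nat.card ↥T := by
  have hq2 : 2 ≤ q := by rw [← hF]; exact Fintype.one_lt_card
  have hp : IsType Cfsg.Lie.chevE6 6 CoxeterMatrix.E₆ := by simp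
  have : Finite CoxeterMatrix.E₆.Group := Nat.finite_of_card_ne_zero (by rw [cardW_E6]; norm_num)
  have hN : ((q ^ 6 + q ^ 3 + 1 : ℕ) : ℤ) = 1 + (q : ℤ) ^ 3 + (q : ℤ) ^ 6 := by
    push_cast; ring
  have hqN : q.Coprime (q ^ 6 + q ^ 3 + 1) :=
    UntwData.coprime_of_eq (a := (q : ℤ) ^ 2 + (q : ℤ) ^ 5) (by rw [hN]; ring)
  obtain ⟨r, hr, hrN, hrq, hr2, hr3, hr5, hr7⟩ := exists_prime9 hq2
  have hrW := not_dvd_W6 hr hr2 hr3 hr5 hr7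
  have hG : ∀ s, ¬ (r : ℤ) ∣ Gq DataE6n.B (q : ℤ) (DataE6n.R s) := by
    intro s hs
    rcases DataE6n.dvd_of_G hrq s hs with h1 | h1
    · exact one_of hr h1
    · exact hr3 (eq_of hr Nat.prime_three h1)
  have hz : ∀ n : ℕ, n ∣ q ^ 6 + q ^ 3 + 1 → (1 + (q : ZMod n) ^ 3 + (q : ZMod n) ^ 6 = 0) := by
    intro n h
    have := zmod_of_dvd hN h
    push_cast at this
    exact this
  by_cases hd : 3 ∣ q - 1
  · obtain ⟨T, h1, h3, h5⟩ := ExcHalf.untw_exact hp CoxeterMatrix.E₆.toCoxeterSystem (by norm_num) hF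
      Nat.prime_three TorusChar.invC_E6 hd (PhiE.isPhi_E6 _) (kv := ![1, 0, 2, 0, 1, 2]) (i0 := ⟨0, by decide⟩) rfl
      (by decide +kernel)
      (Bc := ![![4, 3, 5, 6, 4, 2], ![3, 6, 6, 9, 6, 3], ![5, 6, 10, 12, 8, 4],
        ![6, 9, 12, 18, 12, 6], ![4, 6, 8, 12, 10, 5], ![2, 3, 4, 6, 5, 4]]) (by decide +kernel)
      DataE6n.hA DataE6n.chainOK DataE6n.cycOK DataE6n.rootOK (N := q ^ 6 + q ^ 3 + 1)
      (by rw [DataE6n.fN_eq, hN]) hqN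
    refine ⟨r, T, ⟨hr, dvd_of_dvd_mul hr hrN (d := 3)
      (fun h => hr3 ((Nat.prime_dvd_prime_iff_eq hr Nat.prime_three).1 h)) (by rw [h3]), h5 r hr hrW hG⟩,
      by rw [← h3]; exact dvd_mul_left _ _, fun h => ?_⟩
    have h9 : 9 ∣ q ^ 6 + q ^ 3 + 1 := by
      rw [← h3]
      exact mul_dvd_mul (dvd_refl 3) h
    have h3 := hz 9 h9
    generalize (q : ZMod 9) = x at h3; revert h3; revert x; decide
  · obtain ⟨T, h1, h3, h4, h5, h6⟩ := UntwT.untw_T hp CoxeterMatrix.E₆.toCoxeterSystem (by norm_num) hF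
      TorusChar.invC_E6 (by norm_num) DataE6n.hA DataE6n.chainOK DataE6n.cycOK DataE6n.rootOK
      (N := q ^ 6 + q ^ 3 + 1) (by rw [DataE6n.fN_eq, hN]) hqN (d := 3) (Or.inl rfl)
    refine ⟨r, T, ⟨hr, dvd_of_dvd_mul hr hrN
      (fun h => hr3 ((Nat.prime_dvd_prime_iff_eq hr Nat.prime_three).1 h)) h4, h5 r hr hrW hG⟩, h3, fun h => ?_⟩
    have h7 := hz 3 (h.trans h3)
    apply hd
    have h8 : (q : ZMod 3) = 1 := by
      generalize (q : ZMod 3) = x at h7; revert h7; revert x; decide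
    have h9 : ((q - 1 : ℕ) : ZMod 3) = 0 := by
      rw [Nat.cast_sub (by omega), h8, Nat.cast_one, sub_self]
    exact (ZMod.natCast_eq_zero_iff _ _).1 h9

end

variable {F : Type} [Field F] [Fintype F]

/-- `E₆(q)` -/
theorem noCop_E6 [IsSimpleGroup ↥(Cfsg.Lie.chevE6.group F)]
    (hna : ¬ IsMulCommutative ↥(Cfsg.Lie.chevE6.group F)) : NoCop ↥(Cfsg.Lie.chevE6.group F) := by
  obtain ⟨q, hF⟩ : ∃ q, Fintype.card F = q := ⟨_, rfl⟩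
  have hq2 : 2 ≤ q := by rw [← hF]; exact Fintype.one_lt_card
  obtain ⟨p, hpc⟩ := CharP.exists F
  have hpp : Fact p.Prime := ⟨CharP.char_is_prime F p⟩
  have hp : IsLieTypeChar p ↥(Cfsg.Lie.chevE6.group F) :=
    Or.inr (Or.inr (Or.inr (Or.inr (Or.inr (Or.inr (Or.inl
      ⟨F, inferInstance, inferInstance, hpc, Or.inr (Or.inr (Or.inl ⟨MulEquiv.refl _⟩))⟩))))))
  obtain ⟨r, T, hT, hTN⟩ := tor_E6 hF
  obtain ⟨r', T', hT', hTN', h3⟩ := tor_E6n hF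
  have h0 : q ^ 2 ≤ q ^ 4 := Nat.pow_le_pow_right (by omega) (by norm_num)
  have hN : (((q ^ 4 - q ^ 2 + 1) * (q ^ 2 + q + 1) : ℕ) : ℤ) =
      1 + (q : ℤ) - (q : ℤ) ^ 3 + (q : ℤ) ^ 5 + (q : ℤ) ^ 6 := by
    push_cast [Nat.cast_sub h0]; ring
  have hN' : ((q ^ 6 + q ^ 3 + 1 : ℕ) : ℤ) = 1 + (q : ℤ) ^ 3 + (q : ℤ) ^ 6 := by
    push_cast; ring
  have hc : (Nat.card ↥T).Coprime (Nat.card ↥T') :=
    coprime_bezp Nat.prime_three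
      (u := 3 - (q : ℤ) + (q : ℤ) ^ 2 + 3 * (q : ℤ) ^ 3 - 2 * (q : ℤ) ^ 4 + 2 * (q : ℤ) ^ 5)
      (v := -2 * (q : ℤ) - (q : ℤ) ^ 3 - 2 * (q : ℤ) ^ 5) (by rw [hN, hN']; push_cast; ring) hTN hTN' (Or.inr h3)
  exact noCop_of_two hna hp hT hT'
    (not_dvd_of_coprime hF (UntwData.coprime_of_eq (a := 1 - (q : ℤ) ^ 2 + (q : ℤ) ^ 4 + (q : ℤ) ^ 5)
      (by rw [hN]; ring)) hTN)
    (not_dvd_of_coprime hF (UntwData.coprime_of_eq (a := (q : ℤ) ^ 2 + (q : ℤ) ^ 5) (by rw [hN']; ring)) hTN') hc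

end Cfsg.Agent.H530.ExcE6
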