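import Cfsg.Agent.H530.ExcE6
import Cfsg.Agent.H129.CycRow
import Cfsg.Agent.H129.RealTw

/-!
# No coprime class sizes: `²E₆(q)` (helper530, for S4158)
-/

set_option autoImplicit false

namespace Cfsg.Agent.H530.ExcTE6

open Cfsg Cfsg.Lie Cfsg.Agent.H129 Cfsg.Agent.Nodes.RGDChev Cfsg.Agent.H129.TorusTw Cfsg.Agent.H129.RealT
open Cfsg.Agent.H129.CycT
open Cfsg.Agent.H530.Cop Cfsg.Agent.H530.ExcTor Cfsg.Agent.H530.ExcUntw Cfsg.Agent.H530.ExcE6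

universe u

section

variable {K : Type u} [Field K] [Fintype K] {q : ℕ}

theorem tor_TE6 (hq : IsPrimePow q) (hK : Fintype.card K = q ^ 2) : ∃ (r : ℕ) (T : Subgroup ↥(twistedE6 K q)),
    TorAt r T ∧ Nat.card ↥T ∣ (q ^ 4 - q ^ 2 + 1) * (q ^ 2 - q + 1) := by
  have hq2 : 2 ≤ q := hq.two_le
  have h0 : q ^ 2 ≤ q ^ 4 := Nat.pow_le_pow_right (by omega) (by norm_num)
  have hle : q ≤ q ^ 2 := by nlinarith
  have hN : (((q ^ 4 - q ^ 2 + 1) * (q ^ 2 - q + 1) : ℕ) : ℤ) =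
      1 - (q : ℤ) + (q : ℤ) ^ 3 - (q : ℤ) ^ 5 + (q : ℤ) ^ 6 := by
    push_cast [Nat.cast_sub h0, Nat.cast_sub hle]; ring
  obtain ⟨r, hr, hrq, hr2, hr3, hr5, hr7⟩ := S2373.exists_prime hq2
  have hr12 : r ∣ q ^ 4 - q ^ 2 + 1 := by
    have hN : ((q ^ 4 - q ^ 2 + 1 : ℕ) : ℤ) = 1 - (q : ℤ) ^ 2 + (q : ℤ) ^ 4 := by
      push_cast [Nat.cast_sub h0]; ring
    have h1 := hrq
    rw [← hN] at h1
    exact Int.natCast_dvd_natCast.1 h1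
  have hrW := not_dvd_W6 hr hr2 hr3 hr5 hr7
  have hG : ∀ s, ¬ (r : ℤ) ∣ Gq DataTE6c.B (q : ℤ) (DataTE6c.R s) := by
    intro s hs
    rcases DataTE6c.dvd_of_G hrq s hs with h1 | h1
    · exact one_of hr h1
    · exact hr2 (eq_of hr Nat.prime_two h1)
  obtain ⟨T, h1, h3, h4, h5, h6⟩ := TwT.flip_T hq hK DataTE6c.hA DataTE6c.chainOK DataTE6c.hd_pi DataTE6c.cycOK
    DataTE6c.rootOK DataTE6c.chain2OK DataTE6c.hd2_eq (N := (q ^ 4 - q ^ 2 + 1) * (q ^ 2 - q + 1))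
    (by rw [DataTE6c.fN_eq, hN]) (UntwData.coprime_of_eq (a := -1 + (q : ℤ) ^ 2 - (q : ℤ) ^ 4 + (q : ℤ) ^ 5)
      (by rw [hN]; ring))
  have hrd : ¬ r ∣ Nat.gcd 3 (q + 1) := fun h =>
    hr3 ((Nat.prime_dvd_prime_iff_eq hr Nat.prime_three).1 (h.trans (Nat.gcd_dvd_left _ _)))
  exact ⟨r, T, ⟨hr, dvd_of_dvd_mul hr (hr12.mul_right _) hrd h4, h5 r hr hrW hG⟩, h3⟩

theorem tor_TE6n (hq : IsPrimePow q) (hK : Fintype.card K = q ^ 2) : ∃ (r : ℕ) (T : Subgroup ↥(twistedE6 K q)),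
    TorAt r T ∧ Nat.card ↥T ∣ q ^ 6 - q ^ 3 + 1 ∧ ¬ 3 ∣ Nat.card ↥T := by
  have hq2 : 2 ≤ q := hq.two_le
  have h0 : q ^ 3 ≤ q ^ 6 := Nat.pow_le_pow_right (by omega) (by norm_num)
  have hN : ((q ^ 6 - q ^ 3 + 1 : ℕ) : ℤ) = 1 - (q : ℤ) ^ 3 + (q : ℤ) ^ 6 := by
    push_cast [Nat.cast_sub h0]; ring
  obtain ⟨r, hr, hrN, hrq, hr2, hr3, hr5, hr7⟩ := exists_prime18 hq2
  obtain ⟨T, h1, h2, h3⟩ := exact_tE6_18 hq hK hN
  have hz : ∀ n : ℕ, n ∣ q ^ 6 - q ^ 3 + 1 → (1 - (q : ZMod n) ^ 3 + (q : ZMod n) ^ 6 = 0) := by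
    intro n h
    have := zmod_of_dvd hN h
    push_cast at this
    exact this
  have hgN : Nat.gcd 3 (q + 1) ∣ q ^ 6 - q ^ 3 + 1 := by
    rcases (Nat.dvd_prime Nat.prime_three).1 (Nat.gcd_dvd_left 3 (q + 1)) with h | h
    · rw [h]; exact one_dvd _
    · rw [h]
      have hd : 3 ∣ q + 1 := h ▸ Nat.gcd_dvd_right 3 (q + 1)
      have hq3 : (q : ZMod 3) = 2 := by
        have h7 := (ZMod.natCast_eq_zero_iff (q + 1) 3).2 hd
        push_cast at h7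
        rw [eq_neg_of_add_eq_zero_left h7]
        decide
      rw [← ZMod.natCast_eq_zero_iff]
      have h7 : (((q ^ 6 - q ^ 3 + 1 : ℕ) : ℤ) : ZMod 3) = 0 := by
        rw [hN]
        push_cast
        rw [hq3]
        decide
      exact_mod_cast h7
  refine ⟨r, T, ⟨hr, ?_, fun y hy hyr => (h3 y hy ?_).le⟩, by rw [h2]; exact Nat.div_dvd_of_dvd hgN, ?_⟩
  · rw [h2]
    refine dvd_of_dvd_mul hr hrN (d := Nat.gcd 3 (q + 1)) (fun h =>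
      hr3 ((Nat.prime_dvd_prime_iff_eq hr Nat.prime_three).1 (h.trans (Nat.gcd_dvd_left _ _)))) ?_
    rw [Nat.mul_div_cancel' hgN]
  · rintro rfl
    rw [orderOf_one] at hyr
    exact hr.one_lt.ne hyr
  · rw [h2]
    intro h
    rcases (Nat.dvd_prime Nat.prime_three).1 (Nat.gcd_dvd_left 3 (q + 1)) with hg | hg
    · rw [hg, Nat.div_one] at h
      have h7 := hz 3 h
      have hne : ¬ 3 ∣ q + 1 := by
        intro hd
        rw [Nat.gcd_eq_left hd] at hg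
        norm_num at hg
      apply hne
      have h8 : (q : ZMod 3) = 2 := by
        generalize (q : ZMod 3) = x at h7; revert h7; revert x; decide
      have h9 : ((q + 1 : ℕ) : ZMod 3) = 0 := by
        rw [Nat.cast_add, h8, Nat.cast_one]
        decide
      exact (ZMod.natCast_eq_zero_iff _ _).1 h9
    · rw [hg] at h hgN
      have h9 : 9 ∣ q ^ 6 - q ^ 3 + 1 := by
        obtain ⟨m, hm⟩ := h
        refine ⟨m, ?_⟩
        rw [← Nat.mul_div_cancel' hgN, hm]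
        ring
      have h3 := hz 9 h9
      generalize (q : ZMod 9) = x at h3; revert h3; revert x; decide

end

variable {K : Type} [Field K] [Fintype K] {q : ℕ}

/-- `²E₆(q)` -/
theorem noCop_TE6 (hq : IsPrimePow q) (hK : Fintype.card K = q ^ 2) [IsSimpleGroup ↥(twistedE6 K q)]
    (hna : ¬ IsMulCommutative ↥(twistedE6 K q)) : NoCop ↥(twistedE6 K q) := by
  have hq2 : 2 ≤ q := hq.two_le
  obtain ⟨p, hpc⟩ := CharP.exists K
  have hpp : Fact p.Prime := ⟨CharP.char_is_prime K p⟩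
  have hp : IsLieTypeChar p ↥(twistedE6 K q) :=
    Or.inr (Or.inr (Or.inr (Or.inr (Or.inr (Or.inr (Or.inr (Or.inl
      ⟨K, inferInstance, inferInstance, hpc, q, hq, Or.inl ⟨hK, ⟨MulEquiv.refl _⟩⟩⟩)))))))
  obtain ⟨r, T, hT, hTN⟩ := tor_TE6 hq hK
  obtain ⟨r', T', hT', hTN', h3⟩ := tor_TE6n hq hK
  have h0 : q ^ 2 ≤ q ^ 4 := Nat.pow_le_pow_right (by omega) (by norm_num)
  have h1 : q ^ 3 ≤ q ^ 6 := Nat.pow_le_pow_right (by omega) (by norm_num)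
  have hle : q ≤ q ^ 2 := by nlinarith
  have hN : (((q ^ 4 - q ^ 2 + 1) * (q ^ 2 - q + 1) : ℕ) : ℤ) =
      1 - (q : ℤ) + (q : ℤ) ^ 3 - (q : ℤ) ^ 5 + (q : ℤ) ^ 6 := by
    push_cast [Nat.cast_sub h0, Nat.cast_sub hle]; ring
  have hN' : ((q ^ 6 - q ^ 3 + 1 : ℕ) : ℤ) = 1 - (q : ℤ) ^ 3 + (q : ℤ) ^ 6 := by
    push_cast [Nat.cast_sub h1]; ring
  have hc : (Nat.card ↥T).Coprime (Nat.card ↥T') :=
    coprime_bezp Nat.prime_three
      (u := 3 + (q : ℤ) + (q : ℤ) ^ 2 - 3 * (q : ℤ) ^ 3 - 2 * (q : ℤ) ^ 4 - 2 * (q : ℤ) ^ 5)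
      (v := 2 * (q : ℤ) + (q : ℤ) ^ 3 + 2 * (q : ℤ) ^ 5) (by rw [hN, hN']; push_cast; ring) hTN hTN' (Or.inr h3)
  exact noCop_of_two hna hp hT hT'
    (not_dvd_of_coprime hK (Nat.Coprime.pow_left 2 (UntwData.coprime_of_eq
      (a := -1 + (q : ℤ) ^ 2 - (q : ℤ) ^ 4 + (q : ℤ) ^ 5) (by rw [hN]; ring))) hTN)
    (not_dvd_of_coprime hK (Nat.Coprime.pow_left 2 (UntwData.coprime_of_eq
      (a := -(q : ℤ) ^ 2 + (q : ℤ) ^ 5) (by rw [hN']; ring))) hTN') hc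

end Cfsg.Agent.H530.ExcTE6
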