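import Cfsg.Agent.H530.ExcTor
import Cfsg.Agent.H129.RealE7
import Cfsg.Agent.H378.TwRowsF
import Cfsg.Agent.S2369
import Cfsg.Agent.S1068

/-!
# No coprime class sizes: `²F₄(q)` (helper530, for S4158)

Three pairwise apart primes: 2, a prime divisor of `q⁴ - q² + 1`, a prime divisor `≠ 3` of `q² - q + 1`.
-/

set_option autoImplicit false

namespace Cfsg.Agent.H530.ExcTF4

open Subgroup Cfsg Cfsg.Lie Cfsg.Agent.H129 Cfsg.Agent.H129.RealT
open Cfsg.Agent.H530.Cop Cfsg.Agent.H530.ExcTor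

/-- `2` and `r` are apart, if no involution commutes with an element of order `r`. -/
theorem apart_two {G : Type*} [Group G] [Finite G] [IsSimpleGroup G] (hna : ¬ IsMulCommutative G)
    (hp : IsLieTypeChar 2 G) {r : ℕ} (hr : r.Prime) (hrG : r ∣ Nat.card G)
    (h : ∀ a b : G, orderOf a = 2 → orderOf b = r → Commute a b → False) : Apart G 2 r := by
  intro g hg
  by_contra hn
  push Not at hn
  have h2f : Fact (Nat.Prime 2) := ⟨Nat.prime_two⟩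
  have hrf : Fact r.Prime := ⟨hr⟩
  obtain ⟨n, hgn⟩ := isPGroup_of_char hna hp hn.1
  -- the involution
  obtain ⟨k, hk⟩ : ∃ k : ℕ, orderOf (g ^ k) = 2 := by
    have h1 : orderOf g ∣ 2 ^ n := orderOf_dvd_of_pow_eq_one hgn
    have h2 : orderOf g ≠ 1 := fun h => hg (orderOf_eq_one_iff.1 h)
    obtain ⟨l, hl, hl2⟩ := (Nat.dvd_prime_pow Nat.prime_two).1 h1
    have h3 : 2 ∣ orderOf g := by
      rw [hl2]
      refine dvd_pow_self 2 ?_
      rintro rfl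
      exact h2 (by rw [hl2, pow_zero])
    obtain ⟨c, hc⟩ := h3
    refine ⟨c, ?_⟩
    have hc0 : c ≠ 0 := by
      rintro rfl
      have := orderOf_pos g
      omega
    rw [orderOf_pow_of_dvd hc0 ⟨2, by rw [hc]; ring⟩, hc, Nat.mul_div_cancel _ (Nat.pos_of_ne_zero hc0)]
  -- the element of order `r`
  obtain ⟨z, hz⟩ := exists_prime_orderOf_dvd_card' (G := G) r hrG
  have hU : IsPGroup r (zpowers z) := by
    refine IsPGroup.of_card (n := 1) ?_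
    rw [Nat.card_zpowers, hz, pow_one]
  obtain ⟨a, ha⟩ := exists_conj_le hr hn.2 hU
  have h3 : Commute (a * g * a⁻¹) z := (ha z (mem_zpowers z)).symm
  refine h (a * g ^ k * a⁻¹) z ?_ hz ?_
  · have h2 : orderOf (a * g ^ k * a⁻¹) = orderOf (g ^ k) := orderOf_injective (MulAut.conj a).toMonoidHom
      (MulAut.conj a).injective (g ^ k)
    rw [h2, hk]
  · rw [← conj_pow]
    exact h3.pow_left k

variable {K : Type} [Field K] [Fintype K] {m : ℕ}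

/-- `²F₄(q)` -/
theorem noCop_TF4 (hm : 1 ≤ m) (hK : Fintype.card K = 2 ^ (2 * m + 1)) [IsSimpleGroup ↥(twistedF4 K (2 ^ m))]
    (hna : ¬ IsMulCommutative ↥(twistedF4 K (2 ^ m))) : NoCop ↥(twistedF4 K (2 ^ m)) := by
  have hp : IsLieTypeChar 2 ↥(twistedF4 K (2 ^ m)) :=
    Or.inr (Or.inr (Or.inr (Or.inr (Or.inr (Or.inr (Or.inr (Or.inr (Or.inr (Or.inl
      ⟨rfl, K, inferInstance, inferInstance, m, hm, hK, ⟨MulEquiv.refl _⟩⟩)))))))))
  obtain ⟨q, hq⟩ : ∃ q, 2 ^ (2 * m + 1) = q := ⟨_, rfl⟩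
  have hq8 : 8 ≤ q := by
    rw [← hq]
    calc 8 = 2 ^ 3 := by norm_num
      _ ≤ 2 ^ (2 * m + 1) := Nat.pow_le_pow_right (by norm_num) (by omega)
  have hKq : Nat.card K = q := by rw [Nat.card_eq_fintype_card, hK, hq]
  have hcard := S1068.result hK
  rw [hq] at hcard
  have h24 : q ^ 2 ≤ q ^ 4 := Nat.pow_le_pow_right (by omega) (by norm_num)
  have h12 : q ≤ q ^ 2 := by nlinarith
  have h04 : 1 ≤ q ^ 4 := Nat.one_le_pow _ _ (by omega)
  -- the primes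
  obtain ⟨r, hr, hrq, hr2, hr3, hr5, hr7⟩ := S2373.exists_prime (q := q) (by omega)
  have hN12 : ((q ^ 4 - q ^ 2 + 1 : ℕ) : ℤ) = 1 - (q : ℤ) ^ 2 + (q : ℤ) ^ 4 := by
    push_cast [Nat.cast_sub h24]; ring
  have hr12 : r ∣ q ^ 4 - q ^ 2 + 1 := by
    have h1 := hrq
    rw [← hN12] at h1
    exact Int.natCast_dvd_natCast.1 h1
  obtain ⟨s, hs, hs6, hs2, hs3⟩ := exists_prime6 (q := q) (by omega)
  have hN6 : ((q ^ 2 - q + 1 : ℕ) : ℤ) = (q : ℤ) ^ 2 - q + 1 := by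
    push_cast [Nat.cast_sub h12]; ring
  have hsq : (s : ℤ) ∣ (q : ℤ) ^ 2 - q + 1 := by rw [← hN6]; exact Int.natCast_dvd_natCast.2 hs6
  have e6 : (q ^ 2 + 1) * (q ^ 4 - q ^ 2 + 1) = q ^ 6 + 1 := by
    have : (((q ^ 2 + 1) * (q ^ 4 - q ^ 2 + 1) : ℕ) : ℤ) = ((q ^ 6 + 1 : ℕ) : ℤ) := by
      push_cast [Nat.cast_sub h24]; ring
    exact_mod_cast this
  have e3 : (q + 1) * (q ^ 2 - q + 1) = q ^ 3 + 1 := by
    have : (((q + 1) * (q ^ 2 - q + 1) : ℕ) : ℤ) = ((q ^ 3 + 1 : ℕ) : ℤ) := by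
      push_cast [Nat.cast_sub h12]; ring
    exact_mod_cast this
  have hrG : r ∣ Nat.card ↥(twistedF4 K (2 ^ m)) := by
    rw [hcard, ← e6]
    exact Dvd.dvd.mul_left (Dvd.dvd.mul_left hr12 _) _
  have hsG : s ∣ Nat.card ↥(twistedF4 K (2 ^ m)) := by
    rw [hcard, ← e3]
    exact Dvd.dvd.mul_right (Dvd.dvd.mul_right (Dvd.dvd.mul_left (Dvd.dvd.mul_left hs6 _) _) _) _
  -- non-divisibility
  have hc4 : ((q ^ 4 - 1 : ℕ) : ℤ) = (q : ℤ) ^ 4 - 1 := by push_cast [Nat.cast_sub h04]; ring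
  have key : ∀ t : ℕ, t.Prime → t ≠ 2 → t ≠ 3 → ((t : ℤ) ∣ 1 - (q : ℤ) ^ 2 + (q : ℤ) ^ 4 ∨
      (t : ℤ) ∣ (q : ℤ) ^ 2 - q + 1) → ¬ t ∣ q * (q ^ 4 - 1) := by
    intro t ht h2 h3 h4 h5
    have h5' : (t : ℤ) ∣ (q : ℤ) * ((q : ℤ) ^ 4 - 1) := by
      have := Int.natCast_dvd_natCast.2 h5
      rwa [Nat.cast_mul, hc4] at this
    rcases h4 with h4 | h4
    · have h6 : (t : ℤ) ∣ 3 := by
        have e : (3 : ℤ) = (-2 * (q : ℤ) + (q : ℤ) ^ 3) * ((q : ℤ) * ((q : ℤ) ^ 4 - 1)) +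
            (3 + (q : ℤ) ^ 2 - (q : ℤ) ^ 4) * (1 - (q : ℤ) ^ 2 + (q : ℤ) ^ 4) := by ring
        rw [e]
        exact dvd_add (h5'.mul_left _) (h4.mul_left _)
      exact h3 ((Nat.prime_dvd_prime_iff_eq ht Nat.prime_three).1 (by exact_mod_cast h6))
    · have h6 : (t : ℤ) ∣ 3 := by
        have e : (3 : ℤ) = (-1 + 2 * (q : ℤ)) * ((q : ℤ) * ((q : ℤ) ^ 4 - 1)) +
            (3 + 2 * (q : ℤ) + (q : ℤ) ^ 2 - (q : ℤ) ^ 3 - 2 * (q : ℤ) ^ 4) * ((q : ℤ) ^ 2 - q + 1) := by ring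
        rw [e]
        exact dvd_add (h5'.mul_left _) (h4.mul_left _)
      exact h3 ((Nat.prime_dvd_prime_iff_eq ht Nat.prime_three).1 (by exact_mod_cast h6))
  have hno : ∀ t : ℕ, t.Prime → ¬ t ∣ q * (q ^ 4 - 1) → ∀ a b : ↥(twistedF4 K (2 ^ m)), orderOf a = 2 →
      orderOf b = t → Commute a b → False := by
    intro t ht hnt a b ha hb hab
    have h1 := S2369.result m hm hK a b ha hab
    rw [hb, hq] at h1
    apply hnt
    have h2 : t ∈ (q * (q ^ 4 - 1)).primeFactors := h1 (by rw [ht.primeFactors]; exact Finset.mem_singleton_self t)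
    exact Nat.dvd_of_mem_primeFactors h2
  refine noCop_of_apart Nat.prime_two hr hs (apart_two hna hp hr hrG (hno r hr (key r hr hr2 hr3 (Or.inl hrq))))
    ?_ (apart_two hna hp hs hsG (hno s hs (key s hs hs2 hs3 (Or.inr hsq))))
  -- `r` and `s`
  have hcent : ∀ {t : ℕ} {x w : ↥(twistedF4 K (2 ^ m))}, t.Prime → orderOf x = t →
      (t : ℤ) ∣ 1 - (q : ℤ) ^ 2 + (q : ℤ) ^ 4 → w * x = x * w → (orderOf w : ℤ) ∣ 1 - (q : ℤ) ^ 2 + (q : ℤ) ^ 4 := by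
    intro t x w ht hx htq hw
    have hod : H378.ExcAdj.od (Nat.card K) t = 12 := by
      rw [hKq]
      refine H378.TwRows.od_of_c12 ht ?_
      rw [H493.PGCyc.pv_c12]
      have e : (q : ℤ) ^ 4 - (q : ℤ) ^ 2 + 1 = 1 - (q : ℤ) ^ 2 + (q : ℤ) ^ 4 := by ring
      rw [e]
      exact htq
    have h1 := (H378.TwRowsF.cent_2F4 hK ht hx hod).2
    rw [hKq, H378.TwRows.eval_cyc12] at h1
    have h2 : w ∈ centralizer {x} := mem_centralizer_singleton_iff.2 hw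
    have h3 : orderOf w ∣ Nat.card ↥(centralizer {x}) := by
      rw [← Subgroup.orderOf_mk w h2]
      exact orderOf_dvd_natCard _
    have h4 := Int.natCast_dvd.2 (h3.trans h1)
    have e : (q : ℤ) ^ 4 - (q : ℤ) ^ 2 + 1 = 1 - (q : ℤ) ^ 2 + (q : ℤ) ^ 4 := by ring
    rwa [e] at h4
  refine apart_of hr hs hrG hsG ?_
  intro g z w hg hz hw hgz hgw
  have h1 := hcent hr hz hrq hgz
  -- a power of prime order
  obtain ⟨k, hk⟩ := exists_pow_prime hg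
  have h2 : ((orderOf (g ^ k) : ℕ) : ℤ) ∣ 1 - (q : ℤ) ^ 2 + (q : ℤ) ^ 4 :=
    (Int.natCast_dvd_natCast.2 (orderOf_pow_dvd k)).trans h1
  have h3 : w * g ^ k = g ^ k * w := by
    have : Commute w g := hgw.symm
    exact (this.pow_right k)
  have h4 := hcent hk rfl h2 h3
  rw [hw] at h4
  have h5 : (s : ℤ) ∣ 2 := by
    have e : (2 : ℤ) = (q : ℤ) * (1 - (q : ℤ) ^ 2 + (q : ℤ) ^ 4) +
        (2 + (q : ℤ) - (q : ℤ) ^ 2 - (q : ℤ) ^ 3) * ((q : ℤ) ^ 2 - q + 1) := by ring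
    rw [e]
    exact dvd_add (h4.mul_left _) (hsq.mul_left _)
  exact hs2 ((Nat.prime_dvd_prime_iff_eq hs Nat.prime_two).1 (by exact_mod_cast h5))

end Cfsg.Agent.H530.ExcTF4
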