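import Cfsg.Agent.H530.Chain

/-!
# Lifting the transitivity to the linear group (helper530, for S4158)
-/

set_option autoImplicit false
set_option linter.unusedSectionVars false

namespace Cfsg.Agent.H530.Setup

open Matrix Subgroup Cfsg.Agent.H530.Cop Cfsg.Agent.H530.LinTools Cfsg.Agent.H530.Flag

variable {F : Type*} [Field F] {ι : Type*} [Fintype ι] [DecidableEq ι] [Nonempty ι] {K : Type*} [Group K]
  {φ : K →* Matrix ι ι F}

theorem scalar_ne_zero {z : K} {c : F} (hc : φ z = scalar ι c) : c ≠ 0 := by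
  rintro rfl
  have h1 : φ z * φ z⁻¹ = 1 := by rw [← map_mul, mul_inv_cancel, map_one]
  rw [hc, map_zero, zero_mul] at h1
  exact zero_ne_one h1

theorem mem_center_of_scalar (hφ : Function.Injective φ) {z : K} {c : F} (hz : φ z = scalar ι c) :
    z ∈ center K := by
  rw [mem_center_iff]
  intro g
  apply hφ
  rw [map_mul, map_mul, hz]
  exact ((scalar_commute c (fun r => Commute.all c r) (φ g)).eq).symm

theorem exists_lift {p : ℕ} [Fact p.Prime] [CharP F p] (hφ : Function.Injective φ)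
    (hcen : ∀ z ∈ center K, ∃ c : F, φ z = scalar ι c) [Finite (K ⧸ center K)] {X Y : K}
    (hc : (ci (X : K ⧸ center K)).Coprime (ci (Y : K ⧸ center K))) (hpx : ¬ p ∣ ci (X : K ⧸ center K))
    (hx1 : (X : K ⧸ center K) ≠ 1) {O : Type*} (W : O → Subgroup K) (k : ℕ) (hW : ∀ o, ∀ u ∈ W o, u ^ p ^ k = 1)
    (o o' : O) :
    ∃ (Z C : K) (ζ : F), ζ ≠ 0 ∧ Z ∉ center K ∧ C * Z * C⁻¹ ∉ center K ∧ (∀ u ∈ W o, u * Z = Z * u) ∧
      (∀ u ∈ W o', u * (C * Z * C⁻¹) = C * Z * C⁻¹ * u) ∧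
      (∀ w, φ C *ᵥ (φ Y *ᵥ w) = ζ • (φ Y *ᵥ (φ C *ᵥ w))) ∧
      ∃ (G : K) (s : F), s ≠ 0 ∧ ∀ w, φ Z *ᵥ w = s • (φ G *ᵥ (φ X *ᵥ (φ G⁻¹ *ᵥ w))) := by
  have hpp : p.Prime := Fact.out
  let V : O → Subgroup (K ⧸ center K) := fun o => (W o).map (QuotientGroup.mk' _)
  have hV : ∀ o, IsPGroup p (V o) := by
    rintro o ⟨a, ha⟩
    obtain ⟨u, hu, rfl⟩ := mem_map.1 ha
    refine ⟨k, Subtype.ext ?_⟩
    change (QuotientGroup.mk' (center K) u) ^ p ^ k = 1
    rw [← map_pow, hW o u hu, map_one]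
  have hZ : ∀ z ∈ center K, ∀ k : ℕ, z ^ p ^ k = 1 → z = 1 := by
    intro z hz k hk
    obtain ⟨c, hc⟩ := hcen z hz
    exact torsion_free hφ hc hk
  obtain ⟨z, c, hcy, ⟨g, hzg⟩, hz, hz'⟩ := exists_pair hpp hc hpx V hV o o'
  obtain ⟨Z, rfl⟩ := QuotientGroup.mk_surjective z
  obtain ⟨C, rfl⟩ := QuotientGroup.mk_surjective c
  obtain ⟨G, rfl⟩ := QuotientGroup.mk_surjective g
  have hz1 : (Z : K ⧸ center K) ≠ 1 := by
    rw [hzg]
    intro h
    apply hx1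
    have : (X : K ⧸ center K) = (G : K ⧸ center K)⁻¹ * (G * X * (G : K ⧸ center K)⁻¹) * G := by group
    rw [this, h]; group
  have hz1' : ((C * Z * C⁻¹ : K) : K ⧸ center K) ≠ 1 := by
    intro h
    apply hz1
    have h2 : (C : K ⧸ center K) * Z * (C : K ⧸ center K)⁻¹ = 1 := h
    rw [mul_inv_eq_one] at h2
    exact mul_eq_left.1 h2
  obtain ⟨ζ, hζ, hζ'⟩ := exists_zeta hcy
  obtain ⟨r, hr⟩ := hcen _ hζ
  have h3 : (Z : K ⧸ center K) = ((G * X * G⁻¹ : K) : K ⧸ center K) := hzg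
  have h4 : (G * X * G⁻¹)⁻¹ * Z ∈ center K := by
    rw [← QuotientGroup.eq]
    exact h3.symm
  obtain ⟨s, hs⟩ := hcen _ h4
  refine ⟨Z, C, r, scalar_ne_zero hr, fun h => hz1 ((QuotientGroup.eq_one_iff Z).2 h),
    fun h => hz1' ((QuotientGroup.eq_one_iff _).2 h), ?_, ?_, ?_, G, s, scalar_ne_zero hs, ?_⟩
  · intro u hu
    exact comm_of_comm hZ (hW o u hu) (hz _ (mem_map_of_mem _ hu))
  · intro u hu
    exact comm_of_comm hZ (hW o' u hu) (hz' _ (mem_map_of_mem _ hu))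
  · intro w
    rw [← mul_mulVec, hζ', mul_mulVec, hr, mul_mulVec, scalar_mulVec]
  · intro w
    have h5 : Z = (G * X * G⁻¹) * ((G * X * G⁻¹)⁻¹ * Z) := by group
    rw [h5, mul_mulVec, hs, scalar_mulVec, mulVec_smul, mul_mulVec, mul_mulVec]

theorem noCop_of_scalar {p : ℕ} (hp : p.Prime) (hφ : Function.Injective φ) [Finite (K ⧸ center K)]
    [IsSimpleGroup (K ⧸ center K)] (hna : ¬ IsMulCommutative (K ⧸ center K))
    (H : ∀ X Y : K, (ci (X : K ⧸ center K)).Coprime (ci (Y : K ⧸ center K)) → ¬ p ∣ ci (X : K ⧸ center K) →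
      (X : K ⧸ center K) ≠ 1 → ∃ c : F, φ Y = scalar ι c) : NoCop (K ⧸ center K) := by
  refine noCop_of_char hna hp ⊥ IsPGroup.of_bot ?_
  intro x y hx hy _ hc hpx _
  obtain ⟨X, rfl⟩ := QuotientGroup.mk_surjective x
  obtain ⟨Y, rfl⟩ := QuotientGroup.mk_surjective y
  have hx1 : (X : K ⧸ center K) ≠ 1 := fun h => by rw [h, orderOf_one] at hx; exact Nat.not_prime_one hx
  have hy1 : (Y : K ⧸ center K) ≠ 1 := fun h => by rw [h, orderOf_one] at hy; exact Nat.not_prime_one hy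
  obtain ⟨c, hc⟩ := H X Y hc hpx hx1
  exact hy1 ((QuotientGroup.eq_one_iff Y).2 (mem_center_of_scalar hφ hc))

end Cfsg.Agent.H530.Setup
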