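import Cfsg.Agent.H530.Line
import Cfsg.Agent.H530.Setup
import Cfsg.Prelude.Def_Classical

/-!
# No coprime class sizes in `PΩ(Q)`, dimension at least 7 (helper530, for S4158)

`OD Q A` : `Q v = v ⬝ᵥ A v`, `bf (A + Aᵀ)` non-degenerate. Siegel elements `sie e u` lie in `Ω(Q)`.
-/

set_option autoImplicit false
set_option linter.unusedSectionVars false

namespace Cfsg.Agent.H530.Om

open Matrix Subgroup Cfsg.Agent.H530.Cop Cfsg.Agent.H530.LinTools Cfsg.Agent.H530.Flag Cfsg.Agent.H530.Form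
  Cfsg.Agent.H530.Line Cfsg.Agent.H530.Setup Cfsg.Agent.H530.Chain

open scoped commutatorElement

variable {F : Type*} [Field F] {ι : Type} [Fintype ι] [DecidableEq ι]

/-- quadratic forms -/
structure OD (Q : (ι → F) → F) (A : Matrix ι ι F) : Prop where
  eq : ∀ v, Q v = v ⬝ᵥ (A *ᵥ v)
  nd : ND (A + Aᵀ)

variable {Q : (ι → F) → F} {A : Matrix ι ι F}

/-- the matrices -/
def mt (Q : (ι → F) → F) : Cfsg.Omega F Q →* Matrix ι ι F :=
  (Units.coeHom (Matrix ι ι F)).comp ((Cfsg.isometryGroup F Q).subtype.comp (Cfsg.Omega F Q).subtype)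

theorem mt_injective : Function.Injective (mt Q) := fun _ _ h =>
  Subtype.ext (Subtype.ext (Units.ext h))

/-- the matrices of the isometries -/
def it (Q : (ι → F) → F) : Cfsg.isometryGroup F Q →* Matrix ι ι F :=
  (Units.coeHom (Matrix ι ι F)).comp (Cfsg.isometryGroup F Q).subtype

theorem it_injective : Function.Injective (it Q) := fun _ _ h => Subtype.ext (Units.ext h)

theorem Q_it (g : Cfsg.isometryGroup F Q) (v : ι → F) : Q (it Q g *ᵥ v) = Q v := g.2 v v

theorem Q_mt (g : Cfsg.Omega F Q) (v : ι → F) : Q (mt Q g *ᵥ v) = Q v := Q_it g.1 v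

namespace OD

variable (h : OD Q A)

include h

theorem comm (u v : ι → F) : bf (A + Aᵀ) u v = bf (A + Aᵀ) v u := by
  unfold bf
  rw [dotProduct_mulVec, ← mulVec_transpose, transpose_add, transpose_transpose, add_comm Aᵀ A, dotProduct_comm]

theorem Qadd (u v : ι → F) : Q (u + v) = Q u + Q v + bf (A + Aᵀ) u v := by
  rw [h.eq, h.eq, h.eq]
  unfold bf
  rw [mulVec_add, add_mulVec, add_dotProduct, dotProduct_add, dotProduct_add, dotProduct_add,
    show u ⬝ᵥ (Aᵀ *ᵥ v) = v ⬝ᵥ (A *ᵥ u) by rw [dotProduct_mulVec, vecMul_transpose, dotProduct_comm]]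
  ring

theorem Qsmul (c : F) (v : ι → F) : Q (c • v) = c ^ 2 * Q v := by
  rw [h.eq, h.eq, mulVec_smul, smul_dotProduct, dotProduct_smul, smul_eq_mul, smul_eq_mul]
  ring

theorem Qzero : Q 0 = 0 := by rw [h.eq, zero_dotProduct]

theorem Qneg (v : ι → F) : Q (-v) = Q v := by
  rw [← neg_one_smul F v, h.Qsmul]; ring

theorem self (v : ι → F) : bf (A + Aᵀ) v v = 2 * Q v := by
  have h1 := h.Qadd v v
  rw [← two_smul F v, h.Qsmul] at h1
  linear_combination -h1

theorem bf_it (g : Cfsg.isometryGroup F Q) (u v : ι → F) :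
    bf (A + Aᵀ) (it Q g *ᵥ u) (it Q g *ᵥ v) = bf (A + Aᵀ) u v := by
  have h1 := h.Qadd u v
  have h2 := h.Qadd (it Q g *ᵥ u) (it Q g *ᵥ v)
  rw [← mulVec_add, Q_it g, Q_it g, Q_it g] at h2
  linear_combination h1 - h2

theorem ld : LD (mt Q) (A + Aᵀ) Q 1 where
  iso := fun g u v => h.bf_it g.1 u v
  nd := h.nd
  refl := fun u v h0 => by rw [h.comm, h0]
  self := fun v hv => by rw [h.self, hv, mul_zero]
  Qadd := fun u v => by rw [h.Qadd, one_mul]
  Qsmul := h.Qsmul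
  Qiso := fun g v => Q_mt g v
  hκ := Or.inl one_ne_zero

/-- isometries are invertible -/
theorem isUnit_of {M : Matrix ι ι F} (hM : ∀ v, Q (M *ᵥ v) = Q v) : IsUnit M := by
  rw [← mulVec_injective_iff_isUnit]
  intro u v huv
  have h1 : M *ᵥ (u - v) = 0 := by
    have : M *ᵥ u = M *ᵥ v := huv
    rw [mulVec_sub, this, sub_self]
  refine sub_eq_zero.1 (h.nd _ fun w => ?_)
  have h2 := h.Qadd w (u - v)
  have h3 := h.Qadd (M *ᵥ w) (M *ᵥ (u - v))
  rw [← mulVec_add, hM, hM, hM] at h3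
  rw [h1, zero_right, add_zero] at h3
  linear_combination h3 - h2

/-- the isometry of a matrix -/
noncomputable def el (M : Matrix ι ι F) (hM : ∀ v, Q (M *ᵥ v) = Q v) : Cfsg.isometryGroup F Q :=
  ⟨(h.isUnit_of hM).unit, fun u _ => by
    change Q (((h.isUnit_of hM).unit : Matrix ι ι F) *ᵥ u) = Q u
    rw [IsUnit.unit_spec, hM]⟩

theorem it_el (M : Matrix ι ι F) (hM : ∀ v, Q (M *ᵥ v) = Q v) : it Q (h.el M hM) = M :=
  IsUnit.unit_spec (h.isUnit_of hM)

/-- the Siegel element -/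
noncomputable def si (e u : ι → F) (he : Q e = 0) (hu : bf (A + Aᵀ) e u = 0) : Cfsg.isometryGroup F Q :=
  h.el (two (u - Q u • e) (e ᵥ* (A + Aᵀ)) (-e) (u ᵥ* (A + Aᵀ))) (by
    intro w
    rw [two_mulVec, vecMul_eq, vecMul_eq, add_assoc, h.Qadd, h.Qadd, h.Qsmul, h.Qsmul, h.Qneg, he,
      sub_eq_add_neg, h.Qadd, h.Qneg, h.Qsmul, he]
    simp only [add_left, add_right, smul_left, smul_right, neg_left, neg_right, h.comm u e, hu, h.self, he,
      h.comm w e, h.comm w u]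
    ring)

theorem si_mulVec (e u : ι → F) (he : Q e = 0) (hu : bf (A + Aᵀ) e u = 0) (w : ι → F) :
    it Q (h.si e u he hu) *ᵥ w = w + bf (A + Aᵀ) e w • (u - Q u • e) + bf (A + Aᵀ) u w • (-e) := by
  unfold si
  rw [it_el, two_mulVec, vecMul_eq, vecMul_eq]

/-- the reflection -/
noncomputable def re (a : ι → F) (ha : Q a ≠ 0) : Cfsg.isometryGroup F Q :=
  h.el (two ((-(Q a)⁻¹) • a) (a ᵥ* (A + Aᵀ)) 0 0) (by
    intro w
    rw [two_mulVec, vecMul_eq, smul_zero, add_zero, smul_smul, h.Qadd, h.Qsmul, smul_right, h.comm w a]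
    field_simp
    ring)

theorem re_mulVec (a : ι → F) (ha : Q a ≠ 0) (w : ι → F) :
    it Q (h.re a ha) *ᵥ w = w + (-(bf (A + Aᵀ) a w * (Q a)⁻¹)) • a := by
  unfold re
  rw [it_el, two_mulVec, vecMul_eq, smul_zero, add_zero, smul_smul, mul_neg]

theorem ext_it {g g' : Cfsg.isometryGroup F Q} (h1 : ∀ w, it Q g *ᵥ w = it Q g' *ᵥ w) : g = g' :=
  it_injective (ext_mulVec h1)

theorem si_conj (g : Cfsg.isometryGroup F Q) (e u : ι → F) (he : Q e = 0) (hu : bf (A + Aᵀ) e u = 0) :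
    g * h.si e u he hu = h.si (it Q g *ᵥ e) (it Q g *ᵥ u) (by rw [Q_it g, he]) (by rw [h.bf_it, hu]) * g := by
  refine h.ext_it fun w => ?_
  rw [mul_mulVec, mul_mulVec, si_mulVec, si_mulVec, h.bf_it, h.bf_it, Q_it g, mulVec_add, mulVec_add, mulVec_smul,
    mulVec_smul, mulVec_sub, mulVec_smul, mulVec_neg]

theorem si_add (e u v : ι → F) (he : Q e = 0) (hu : bf (A + Aᵀ) e u = 0) (hv : bf (A + Aᵀ) e v = 0) :
    h.si e u he hu * h.si e v he hv = h.si e (u + v) he (by rw [add_right, hu, hv, add_zero]) := by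
  refine h.ext_it fun w => ?_
  have hee : bf (A + Aᵀ) e e = 0 := by rw [h.self, he, mul_zero]
  rw [mul_mulVec, si_mulVec, si_mulVec, si_mulVec]
  simp only [add_left, add_right, sub_right, smul_right, neg_right, hv, hee, h.comm u e, hu, h.Qadd, smul_sub,
    smul_add, smul_smul, add_smul, smul_neg, mul_zero, sub_zero, neg_zero, add_zero]
  abel

theorem si_congr {e e' u u' : ι → F} (he : Q e = 0) (hu : bf (A + Aᵀ) e u = 0) (h1 : e' = e) (h2 : u' = u) :
    h.si e u he hu = h.si e' u' (by rw [h1, he]) (by rw [h1, h2, hu]) := by subst h1 h2; rfl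

omit h in
/-- a vector orthogonal to `e`, `u`, not in their span -/
theorem exists_out (J : Matrix ι ι F) (hn : 4 < Fintype.card ι) (e u : ι → F) :
    ∃ w, bf J e w = 0 ∧ bf J u w = 0 ∧ w ∉ Submodule.span F {e, u} := by
  by_contra hno
  push Not at hno
  let T : (ι → F) →ₗ[F] (F × F) :=
    { toFun := fun x => (bf J e x, bf J u x)
      map_add' := fun x y => by rw [add_right, add_right]; rfl
      map_smul' := fun c x => by rw [smul_right, smul_right]; rfl }
  have hle : LinearMap.ker T ≤ Submodule.span F {e, u} := by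
    intro w hw
    have h1 : (bf J e w, bf J u w) = (0, 0) := hw
    rw [Prod.mk.injEq] at h1
    exact hno w h1.1 h1.2
  have h1 := LinearMap.finrank_range_add_finrank_ker T
  have h2 := Submodule.finrank_le (LinearMap.range T)
  have h3 := Submodule.finrank_mono hle
  have h4 : Module.finrank F (Submodule.span F ({e, u} : Set (ι → F))) ≤ 2 := by
    classical
    have h5 := finrank_span_finset_le_card (R := F) ({e, u} : Finset (ι → F))
    rw [Finset.coe_pair] at h5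
    exact h5.trans Finset.card_le_two
  rw [Module.finrank_fintype_fun_eq_card] at h1
  rw [Module.finrank_prod, Module.finrank_self] at h2
  omega

/-- a non-singular vector orthogonal to `e`, `u` -/
theorem exists_ns (hn : 4 < Fintype.card ι) (e u : ι → F) :
    ∃ a, Q a ≠ 0 ∧ bf (A + Aᵀ) e a = 0 ∧ bf (A + Aᵀ) u a = 0 := by
  by_contra hno
  push Not at hno
  obtain ⟨w, hw1, hw2, hw3⟩ := exists_out (A + Aᵀ) hn e u
  have hQ : ∀ a, bf (A + Aᵀ) e a = 0 → bf (A + Aᵀ) u a = 0 → Q a = 0 := by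
    intro a ha hb
    by_contra h0
    exact hno a h0 ha hb
  obtain ⟨a, b, hab⟩ := eq_comb_of_bf h.nd (e := e) (f := u) (r := w) fun v hv1 hv2 => by
    rw [h.comm] at hv1 hv2
    have h1 := h.Qadd v w
    rw [hQ v hv1 hv2, hQ w hw1 hw2, hQ (v + w) (by rw [add_right, hv1, hw1, add_zero])
      (by rw [add_right, hv2, hw2, add_zero])] at h1
    linear_combination -h1
  exact hw3 (Submodule.mem_span_pair.2 ⟨a, b, hab.symm⟩)

theorem si_mem_one {e a : ι → F} (he : Q e = 0) (ha : Q a ≠ 0) (hea : bf (A + Aᵀ) e a = 0) :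
    h.si e a he hea ∈ Cfsg.Omega F Q := by
  obtain ⟨v0, hv1, hv2⟩ : ∃ v, bf (A + Aᵀ) e v = 0 ∧ bf (A + Aᵀ) a v ≠ 0 := by
    by_contra hno
    push Not at hno
    obtain ⟨c, hc⟩ := eq_smul_of_bf h.nd (v := e) (r := a) fun w hw => by
      rw [h.comm, hno w (by rw [h.comm, hw])]
    apply ha
    rw [hc, h.Qsmul, he, mul_zero]
  obtain ⟨v, hv, hav⟩ : ∃ v, bf (A + Aᵀ) e v = 0 ∧ bf (A + Aᵀ) a v = -Q a := by
    refine ⟨(-Q a * (bf (A + Aᵀ) a v0)⁻¹) • v0, by rw [smul_right, hv1, mul_zero], ?_⟩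
    rw [smul_right, mul_assoc, inv_mul_cancel₀ hv2, mul_one]
  have h1 : it Q (h.re a ha) *ᵥ e = e := by
    rw [h.re_mulVec, h.comm a e, hea, zero_mul, neg_zero, zero_smul, add_zero]
  have h2 : it Q (h.re a ha) *ᵥ v = a + v := by
    rw [h.re_mulVec, hav, neg_mul, neg_neg, mul_inv_cancel₀ ha, one_smul, add_comm]
  have h3 := h.si_conj (h.re a ha) e v he hv
  have h4 : h.si (it Q (h.re a ha) *ᵥ e) (it Q (h.re a ha) *ᵥ v) (by rw [Q_it (h.re a ha), he])
      (by rw [h.bf_it, hv]) = h.si e (a + v) he (by rw [add_right, hea, hv, add_zero]) := by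
    refine h.si_congr _ _ h1.symm h2.symm
  rw [h4, ← h.si_add e a v he hea hv] at h3
  have h5 : h.si e a he hea = ⁅h.re a ha, h.si e v he hv⁆ := by
    rw [commutatorElement_def, h3]
    group
  rw [h5]
  exact Subgroup.commutator_mem_commutator (mem_top _) (mem_top _)

theorem si_mem (hn : 4 < Fintype.card ι) {e u : ι → F} (he : Q e = 0)
    (hu : bf (A + Aᵀ) e u = 0) : h.si e u he hu ∈ Cfsg.Omega F Q := by
  by_cases hQ : Q u = 0
  · obtain ⟨a, ha, hea, hua⟩ := h.exists_ns hn e u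
    have h1 : bf (A + Aᵀ) e (u + a) = 0 := by rw [add_right, hu, hea, add_zero]
    have h2 : bf (A + Aᵀ) e (-a) = 0 := by rw [neg_right, hea, neg_zero]
    have h3 := h.si_add e (u + a) (-a) he h1 h2
    have h4 : h.si e (u + a + -a) he (by rw [add_right, h1, h2, add_zero]) = h.si e u he hu :=
      (h.si_congr he hu rfl (by abel)).symm
    rw [← h4, ← h3]
    refine mul_mem (h.si_mem_one he ?_ h1) (h.si_mem_one he ?_ h2)
    · rw [h.Qadd, hQ, hua, zero_add, add_zero]; exact ha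
    · rw [h.Qneg]; exact ha
  · exact h.si_mem_one he hQ hu

/-- the Siegel elements of `Ω` -/
noncomputable def sie (hn : 4 < Fintype.card ι) (e u : ι → F) (he : Q e = 0) (_ : e ≠ 0)
    (hu : bf (A + Aᵀ) e u = 0) : Cfsg.Omega F Q := ⟨h.si e u he hu, h.si_mem hn he hu⟩

theorem sie_mulVec (hn : 4 < Fintype.card ι) (e u : ι → F) (he : Q e = 0) (he0 : e ≠ 0)
    (hu : bf (A + Aᵀ) e u = 0) (w : ι → F) :
    mt Q (h.sie hn e u he he0 hu) *ᵥ w = w + bf (A + Aᵀ) e w • (u - Q u • e) + bf (A + Aᵀ) u w • (-e) :=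
  h.si_mulVec e u he hu w

omit h in
theorem smul_left_cancel' {e : ι → F} (he : e ≠ 0) {a b : F} (h : a • e = b • e) : a = b := by
  have h1 : (a - b) • e = 0 := by rw [sub_smul, h, sub_self]
  exact sub_eq_zero.1 ((smul_eq_zero.1 h1).resolve_right he)

omit h in
/-- coefficients outside a span -/
theorem coeff_of_not_mem {e f u : ι → F} (hu : u ∉ Submodule.span F {e, f}) {a b c : F}
    (h : c • u = a • e + b • f) : c = 0 := by
  by_contra hc
  apply hu
  rw [Submodule.mem_span_pair]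
  refine ⟨c⁻¹ * a, c⁻¹ * b, ?_⟩
  rw [← smul_smul, ← smul_smul, ← smul_add, ← h, smul_smul, inv_mul_cancel₀ hc, one_smul]

/-- **The elements commuting with the radical of a point stabilizer.** -/
theorem form_point (hn : 4 < Fintype.card ι) {e : ι → F} (he : Q e = 0) (he0 : e ≠ 0) {z : Cfsg.Omega F Q}
    (hz : ∀ u (hu : bf (A + Aᵀ) e u = 0), h.sie hn e u he he0 hu * z = z * h.sie hn e u he he0 hu) :
    ∃ (l c : F) (r : ι → F), l * l = 1 ∧ bf (A + Aᵀ) e r = 0 ∧ mt Q z *ᵥ e = l • e ∧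
      ∀ w, mt Q z *ᵥ w = l • w - bf (A + Aᵀ) e w • r + (bf (A + Aᵀ) w r + c * bf (A + Aᵀ) e w) • e := by
  have hee : bf (A + Aᵀ) e e = 0 := by rw [h.self, he, mul_zero]
  have hiso := h.ld.iso
  -- the commutation
  have hcomm : ∀ u, bf (A + Aᵀ) e u = 0 → ∀ w,
      bf (A + Aᵀ) e (mt Q z *ᵥ w) • (u - Q u • e) + bf (A + Aᵀ) u (mt Q z *ᵥ w) • (-e) =
      bf (A + Aᵀ) e w • (mt Q z *ᵥ u - Q u • (mt Q z *ᵥ e)) + bf (A + Aᵀ) u w • (-(mt Q z *ᵥ e)) := by
    intro u hu w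
    have h2 := congrArg (fun a : Cfsg.Omega F Q => mt Q a *ᵥ w) (hz u hu)
    simp only [mul_mulVec] at h2
    rw [sie_mulVec, sie_mulVec, mulVec_add, mulVec_add, mulVec_smul, mulVec_smul, mulVec_sub, mulVec_smul, mulVec_neg,
      add_assoc, add_assoc] at h2
    exact add_left_cancel h2
  obtain ⟨x, hx1, -, hx3⟩ := exists_out (A + Aᵀ) hn e e
  -- `z e = l e`
  have hBe : bf (A + Aᵀ) e (mt Q z *ᵥ e) = 0 := by
    have h3 := hcomm x hx1 e
    rw [hee, h.comm x e, hx1, zero_smul, zero_smul, zero_add] at h3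
    refine coeff_of_not_mem hx3 (a := bf (A + Aᵀ) e (mt Q z *ᵥ e) * Q x) (b := bf (A + Aᵀ) x (mt Q z *ᵥ e)) ?_
    have h4 : bf (A + Aᵀ) e (mt Q z *ᵥ e) • x - ((bf (A + Aᵀ) e (mt Q z *ᵥ e) * Q x) • e +
        bf (A + Aᵀ) x (mt Q z *ᵥ e) • e) = 0 := by
      rw [← h3, smul_sub, smul_smul, smul_neg]; abel
    exact sub_eq_zero.1 h4
  obtain ⟨l, hl⟩ : ∃ l : F, mt Q z *ᵥ e = l • e := by
    refine eq_smul_of_bf h.nd fun w hw => ?_
    rw [h.comm] at hw
    have h3 := hcomm w hw e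
    rw [hBe, hee, h.comm w e, hw, zero_smul, zero_smul, zero_smul, zero_add, zero_add, smul_neg, neg_eq_zero,
      smul_eq_zero] at h3
    exact h3.resolve_right he0
  have hl0 : l ≠ 0 := by
    rintro rfl
    rw [zero_smul] at hl
    apply he0
    rw [← inv_mulVec (mt Q) z e, hl, mulVec_zero]
  have hB1 : ∀ w, bf (A + Aᵀ) e (mt Q z *ᵥ w) = l⁻¹ * bf (A + Aᵀ) e w := by
    intro w
    have h3 := hiso z e w
    rw [hl, smul_left] at h3
    rw [← h3, ← mul_assoc, inv_mul_cancel₀ hl0, one_mul]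
  have hB2 : ∀ u, bf (A + Aᵀ) e u = 0 → ∀ w, bf (A + Aᵀ) e w = 0 →
      bf (A + Aᵀ) u (mt Q z *ᵥ w) = l * bf (A + Aᵀ) u w := by
    intro u hu w hw
    have h3 := hcomm u hu w
    rw [hB1, hw, mul_zero, zero_smul, zero_smul, zero_add, zero_add, hl, smul_neg, smul_neg, neg_inj, smul_smul] at h3
    rw [smul_left_cancel' he0 h3, mul_comm]
  obtain ⟨w0, hw0⟩ : ∃ w, bf (A + Aᵀ) e w = 1 := by
    obtain ⟨w, hw⟩ := exists_eq_one h.nd he0
    exact ⟨w, by rw [h.comm, hw]⟩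
  have hzu : ∀ u, bf (A + Aᵀ) e u = 0 → mt Q z *ᵥ u = l⁻¹ • u +
      (bf (A + Aᵀ) u w0 * l + Q u * l - bf (A + Aᵀ) u (mt Q z *ᵥ w0) - Q u * l⁻¹) • e := by
    intro u hu
    have h3 := hcomm u hu w0
    rw [hB1, hw0, mul_one, one_smul, hl] at h3
    have h4 : mt Q z *ᵥ u = (mt Q z *ᵥ u - Q u • l • e + bf (A + Aᵀ) u w0 • (-(l • e))) +
        (Q u • l • e + bf (A + Aᵀ) u w0 • (l • e)) := by rw [smul_neg]; abel
    rw [h4, ← h3]
    simp only [smul_sub, smul_smul, smul_neg, sub_smul, add_smul, mul_comm l⁻¹ (Q u)]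
    abel
  have hll : l * l = 1 := by
    -- two vectors in `e^⊥` which are not orthogonal
    obtain ⟨v, hv1, hv2⟩ : ∃ v, bf (A + Aᵀ) e v = 0 ∧ bf (A + Aᵀ) v x ≠ 0 := by
      by_contra hno
      push Not at hno
      obtain ⟨c, hc⟩ := eq_smul_of_bf h.nd (v := e) (r := x) fun w hw => hno w (by rw [h.comm, hw])
      exact hx3 (by rw [hc]; exact Submodule.smul_mem _ _ (Submodule.subset_span (by simp)))
    have h3 := hB2 v hv1 x hx1
    rw [hzu x hx1, add_right, smul_right, smul_right, h.comm v e, hv1, mul_zero, add_zero] at h3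
    have h4 := mul_right_cancel₀ hv2 h3
    rw [← h4, h4]
    nth_rewrite 1 [← h4]
    exact inv_mul_cancel₀ hl0
  have hinv : l⁻¹ = l := by
    rw [inv_eq_iff_eq_inv]
    exact eq_inv_of_mul_eq_one_left hll
  set r := l • w0 - mt Q z *ᵥ w0 with hr
  have her : bf (A + Aᵀ) e r = 0 := by
    rw [hr, sub_right, smul_right, hB1, hw0, hinv]; ring
  have hzu' : ∀ u, bf (A + Aᵀ) e u = 0 → mt Q z *ᵥ u = l • u + bf (A + Aᵀ) u r • e := by
    intro u hu
    rw [hzu u hu, hinv, hr, sub_right, smul_right]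
    congr 2
    ring
  refine ⟨l, -bf (A + Aᵀ) w0 r, r, hll, her, hl, fun w => ?_⟩
  have hzw0 : mt Q z *ᵥ w0 = l • w0 - r := by rw [hr]; abel
  have h4 := hzu' (w - bf (A + Aᵀ) e w • w0) (by rw [sub_right, smul_right, hw0]; ring)
  rw [mulVec_sub, mulVec_smul, hzw0, sub_left, smul_left] at h4
  have h5 : mt Q z *ᵥ w = (mt Q z *ᵥ w - bf (A + Aᵀ) e w • (l • w0 - r)) + bf (A + Aᵀ) e w • (l • w0 - r) := by
    abel
  rw [h5, h4, smul_sub, smul_sub, smul_smul, smul_smul, mul_comm l (bf (A + Aᵀ) e w),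
    show bf (A + Aᵀ) w r - bf (A + Aᵀ) e w * bf (A + Aᵀ) w0 r =
      bf (A + Aᵀ) w r + -bf (A + Aᵀ) w0 r * bf (A + Aᵀ) e w by ring]
  abel

/-- **The elements commuting with the radicals of a flag.** -/
theorem form_line (hn : 4 < Fintype.card ι) {e f : ι → F} (he : Q e = 0) (hf : Q f = 0)
    (hef : Ind e f) (hB : bf (A + Aᵀ) e f = 0) {z : Cfsg.Omega F Q}
    (hz : ∀ u (hu : bf (A + Aᵀ) e u = 0), h.sie hn e u he hef.left_ne hu * z = z * h.sie hn e u he hef.left_ne hu)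
    (hz' : ∀ u (hu : bf (A + Aᵀ) f u = 0), bf (A + Aᵀ) e u = 0 →
      h.sie hn f u hf hef.right_ne hu * z = z * h.sie hn f u hf hef.right_ne hu) :
    ∃ l c : F, l ≠ 0 ∧ ∀ w, mt Q z *ᵥ w = l • w + (l * c) • (bf (A + Aᵀ) e w • f - bf (A + Aᵀ) f w • e) := by
  obtain ⟨l, c0, r, hll, her, hze, hform⟩ := h.form_point hn he hef.left_ne hz
  have hl0 : l ≠ 0 := by rintro rfl; simp at hll
  have hee : bf (A + Aᵀ) e e = 0 := by rw [h.self, he, mul_zero]
  have hff : bf (A + Aᵀ) f f = 0 := by rw [h.self, hf, mul_zero]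
  have hfe : bf (A + Aᵀ) f e = 0 := by rw [h.comm, hB]
  obtain ⟨w1, hw1, hw1'⟩ := h.ld.exists_dual hef
  have hzf : mt Q z *ᵥ f = l • f + bf (A + Aᵀ) f r • e := by
    rw [hform, hB, zero_smul, sub_zero, mul_zero, add_zero]
  -- the commutation, evaluated in `w1`
  have hcomm : ∀ u, bf (A + Aᵀ) f u = 0 → bf (A + Aᵀ) e u = 0 →
      (-bf (A + Aᵀ) f r) • u = (-(bf (A + Aᵀ) u w1 * bf (A + Aᵀ) f r)) • e +
        (-(bf (A + Aᵀ) f r * Q u) - bf (A + Aᵀ) u r) • f := by
    intro u hu hue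
    have h2 := congrArg (fun a : Cfsg.Omega F Q => mt Q a *ᵥ w1) (hz' u hu hue)
    simp only [mul_mulVec] at h2
    rw [sie_mulVec, sie_mulVec, mulVec_add, mulVec_add, mulVec_smul, mulVec_smul, mulVec_neg,
      add_assoc, add_assoc] at h2
    have h3 := add_left_cancel h2
    have e1 : bf (A + Aᵀ) f (mt Q z *ᵥ w1) = -bf (A + Aᵀ) f r := by
      rw [hform, hw1, add_right, sub_right, smul_right, smul_right, smul_right, hw1', hfe]; ring
    have e2 : bf (A + Aᵀ) u (mt Q z *ᵥ w1) = l * bf (A + Aᵀ) u w1 - bf (A + Aᵀ) u r := by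
      rw [hform, hw1, add_right, sub_right, smul_right, smul_right, smul_right, h.comm u e, hue]; ring
    rw [e1, e2, hw1', zero_smul, zero_add, hzf] at h3
    have h4 : (-bf (A + Aᵀ) f r) • u - ((-(bf (A + Aᵀ) u w1 * bf (A + Aᵀ) f r)) • e +
        (-(bf (A + Aᵀ) f r * Q u) - bf (A + Aᵀ) u r) • f) =
        (-bf (A + Aᵀ) f r) • (u - Q u • f) + (l * bf (A + Aᵀ) u w1 - bf (A + Aᵀ) u r) • (-f) -
        bf (A + Aᵀ) u w1 • (-(l • f + bf (A + Aᵀ) f r • e)) := by
      simp only [smul_sub, smul_smul, smul_neg, sub_smul, neg_smul, smul_add, neg_mul,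
        mul_comm (bf (A + Aᵀ) u w1) l]
      abel
    rw [h3, sub_self] at h4
    exact sub_eq_zero.1 h4
  have hfr : bf (A + Aᵀ) f r = 0 := by
    obtain ⟨u, hu1, hu2, hu3⟩ := exists_out (A + Aᵀ) hn e f
    exact neg_eq_zero.1 (coeff_of_not_mem hu3 (hcomm u hu2 hu1))
  obtain ⟨a, b, hab⟩ := eq_comb_of_bf h.nd (e := e) (f := f) (r := r) fun u hue huf => by
    rw [h.comm] at hue huf
    have h3 := hcomm u huf hue
    rw [hfr, neg_zero, zero_smul, mul_zero, neg_zero, zero_smul, zero_add, zero_mul, neg_zero, zero_sub] at h3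
    exact neg_eq_zero.1 ((smul_eq_zero.1 h3.symm).resolve_right hef.right_ne)
  have hform' : ∀ w, mt Q z *ᵥ w = l • w + (-b) • (bf (A + Aᵀ) e w • f - bf (A + Aᵀ) f w • e) +
      (c0 * bf (A + Aᵀ) e w) • e := by
    intro w
    rw [hform, hab, add_right, smul_right, smul_right, h.comm w e, h.comm w f]
    simp only [smul_sub, smul_smul, add_smul, neg_smul, neg_mul, smul_add, mul_comm a, mul_comm b]
    abel
  have hc0 : c0 = 0 := by
    have h3 := Q_mt z w1
    rw [hform', hw1, hw1', zero_smul, sub_zero, one_smul, mul_one, h.Qadd, h.Qadd, h.Qsmul, h.Qsmul, h.Qsmul, he, hf,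
      add_left] at h3
    simp only [smul_left, smul_right, h.comm w1 f, hw1', h.comm w1 e, hw1, hfe] at h3
    have h4 : l * c0 = 0 := by linear_combination h3 - Q w1 * hll
    exact (mul_eq_zero.1 h4).resolve_left hl0
  refine ⟨l, -(l * b), hl0, fun w => ?_⟩
  rw [hform', hc0, zero_mul, zero_smul, add_zero, show l * -(l * b) = -b by linear_combination (-b) * hll]

theorem center_scalar (hn : 4 < Fintype.card ι)
    (H3 : ∀ u g : ι → F, ∃ v, v ≠ 0 ∧ Q v = 0 ∧ bf (A + Aᵀ) u v = 0 ∧ g ⬝ᵥ v = 0)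
    {z : Cfsg.Omega F Q} (hz : z ∈ center (Cfsg.Omega F Q)) : ∃ c : F, mt Q z = scalar ι c := by
  refine h.ld.scalar_of_eigen z H3 fun v hv hQv => ?_
  obtain ⟨l, -, -, -, -, h1, -⟩ := h.form_point hn hQv hv (z := z) fun u hu => mem_center_iff.1 hz _
  exact ⟨l, h1⟩

omit h in
/-- the chain of a totally singular flag -/
def ch {e f : ι → F} (hee : bf (A + Aᵀ) e e = 0) (hff : bf (A + Aᵀ) f f = 0) (hef : bf (A + Aᵀ) e f = 0)
    (hfe : bf (A + Aᵀ) f e = 0) : Chain.Ch F ι :=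
  Chain.five (perp (A + Aᵀ) e) (perp (A + Aᵀ) e ⊓ perp (A + Aᵀ) f) (Submodule.span F {e, f})
    (Submodule.span F {e}) inf_le_left
    (by
      rw [Submodule.span_le]
      rintro x (rfl | rfl)
      · exact ⟨hee, hfe⟩
      · exact ⟨hef, hff⟩)
    (Submodule.span_mono (by simp))

omit h in
theorem mem_perp_of_span {e f w : ι → F} (hee : bf (A + Aᵀ) e e = 0) (hff : bf (A + Aᵀ) f f = 0)
    (hef : bf (A + Aᵀ) e f = 0) (hfe : bf (A + Aᵀ) f e = 0)
    (hw : w ∈ Submodule.span F {e, f}) : bf (A + Aᵀ) e w = 0 ∧ bf (A + Aᵀ) f w = 0 := by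
  obtain ⟨a, b, rfl⟩ := Submodule.mem_span_pair.1 hw
  constructor
  · rw [add_right, smul_right, smul_right, hee, hef]; ring
  · rw [add_right, smul_right, smul_right, hff, hfe]; ring

theorem sie_mem_left (hn : 4 < Fintype.card ι) {e f : ι → F} (he : Q e = 0) (he0 : e ≠ 0)
    (hee : bf (A + Aᵀ) e e = 0) (hff : bf (A + Aᵀ) f f = 0) (hef : bf (A + Aᵀ) e f = 0)
    (hfe : bf (A + Aᵀ) f e = 0) (u : ι → F) (hu : bf (A + Aᵀ) e u = 0) :
    h.sie hn e u he he0 hu ∈ Chain.UC (mt Q) (ch hee hff hef hfe) := by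
  have he1 : e ∈ perp (A + Aᵀ) e ⊓ perp (A + Aᵀ) f := ⟨hee, hfe⟩
  refine Chain.mem_five (fun w => ?_) (fun w hw => ?_) (fun w hw => ?_) (fun w hw => ?_) (fun w hw => ?_)
  · rw [sie_mulVec, add_assoc, add_sub_cancel_left]
    exact add_mem (Submodule.smul_mem _ _ (sub_mem hu (Submodule.smul_mem _ _ hee)))
      (Submodule.smul_mem _ _ (neg_mem (show e ∈ perp (A + Aᵀ) e from hee)))
  · rw [sie_mulVec, add_assoc, add_sub_cancel_left, mem_perp.1 hw, zero_smul, zero_add]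
    exact Submodule.smul_mem _ _ (neg_mem he1)
  · rw [sie_mulVec, add_assoc, add_sub_cancel_left, mem_perp.1 hw.1, zero_smul, zero_add]
    exact Submodule.smul_mem _ _ (neg_mem (Submodule.subset_span (by simp)))
  · rw [sie_mulVec, add_assoc, add_sub_cancel_left, (mem_perp_of_span hee hff hef hfe hw).1, zero_smul, zero_add]
    exact Submodule.smul_mem _ _ (neg_mem (Submodule.mem_span_singleton_self e))
  · obtain ⟨a, rfl⟩ := Submodule.mem_span_singleton.1 hw
    rw [sie_mulVec, smul_right, smul_right, hee, h.comm u e, hu, mul_zero, zero_smul, zero_smul, add_zero,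
      add_zero]

theorem sie_mem_right (hn : 4 < Fintype.card ι) {e f : ι → F} (hf : Q f = 0) (hf0 : f ≠ 0)
    (hee : bf (A + Aᵀ) e e = 0) (hff : bf (A + Aᵀ) f f = 0) (hef : bf (A + Aᵀ) e f = 0)
    (hfe : bf (A + Aᵀ) f e = 0) (u : ι → F) (hu : bf (A + Aᵀ) f u = 0) (hu' : bf (A + Aᵀ) e u = 0) :
    h.sie hn f u hf hf0 hu ∈ Chain.UC (mt Q) (ch hee hff hef hfe) := by
  have hf1 : f ∈ perp (A + Aᵀ) e ⊓ perp (A + Aᵀ) f := ⟨hef, hff⟩
  refine Chain.mem_five (fun w => ?_) (fun w hw => ?_) (fun w hw => ?_) (fun w hw => ?_) (fun w hw => ?_)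
  · rw [sie_mulVec, add_assoc, add_sub_cancel_left]
    exact add_mem (Submodule.smul_mem _ _ (sub_mem hu' (Submodule.smul_mem _ _ hef)))
      (Submodule.smul_mem _ _ (neg_mem (show f ∈ perp (A + Aᵀ) e from hef)))
  · rw [sie_mulVec, add_assoc, add_sub_cancel_left]
    exact add_mem (Submodule.smul_mem _ _ (sub_mem ⟨hu', hu⟩ (Submodule.smul_mem _ _ hf1)))
      (Submodule.smul_mem _ _ (neg_mem hf1))
  · rw [sie_mulVec, add_assoc, add_sub_cancel_left, mem_perp.1 hw.2, zero_smul, zero_add]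
    exact Submodule.smul_mem _ _ (neg_mem (Submodule.subset_span (by simp)))
  · rw [sie_mulVec, add_assoc, add_sub_cancel_left, (mem_perp_of_span hee hff hef hfe hw).2, zero_smul, zero_add]
    obtain ⟨a, b, rfl⟩ := Submodule.mem_span_pair.1 hw
    rw [add_right, smul_right, smul_right, h.comm u e, hu', h.comm u f, hu]
    simp
  · obtain ⟨a, rfl⟩ := Submodule.mem_span_singleton.1 hw
    rw [sie_mulVec, smul_right, smul_right, hfe, h.comm u e, hu', mul_zero, zero_smul, zero_smul, add_zero,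
      add_zero]

/-- **No coprime class sizes in the orthogonal groups.** -/
theorem noCop [Fintype F] (hn : 6 < Fintype.card ι) [IsSimpleGroup (Cfsg.POmega F Q)]
    (hna : ¬ IsMulCommutative (Cfsg.POmega F Q)) : NoCop (Cfsg.POmega F Q) := by
  obtain ⟨p, hp⟩ := CharP.exists F
  have hpp : Fact p.Prime := ⟨CharP.char_is_prime F p⟩
  have hn4 : 4 < Fintype.card ι := by omega
  have hfin : Finite (Cfsg.POmega F Q) := Quotient.finite _
  have hne : Nonempty ι := Fintype.card_pos_iff.1 (by omega)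
  -- Chevalley-Warning
  have H1 : ∀ Y : Cfsg.Omega F Q, ∃ u, u ≠ 0 ∧ Q u = 0 ∧ bf (A + Aᵀ) u (mt Q Y *ᵥ u) = 0 ∧
      bf (A + Aᵀ) u (mt Q Y *ᵥ (mt Q Y *ᵥ u)) = 0 := by
    intro Y
    obtain ⟨x, hx, h1, -⟩ := CW.exists_quad (K := F) (σ := ι) (k := 3) (l := 0)
      ![A, (A + Aᵀ) * mt Q Y, (A + Aᵀ) * mt Q Y * mt Q Y] (fun i => i.elim0) (by omega)
    refine ⟨x, hx, ?_, ?_, ?_⟩
    · rw [h.eq]; exact h1 0
    · have := h1 1
      change x ⬝ᵥ (((A + Aᵀ) * mt Q Y) *ᵥ x) = 0 at this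
      rw [← mulVec_mulVec] at this
      exact this
    · have := h1 2
      change x ⬝ᵥ (((A + Aᵀ) * mt Q Y * mt Q Y) *ᵥ x) = 0 at this
      rw [← mulVec_mulVec, ← mulVec_mulVec] at this
      exact this
  have H2 : ∀ (Y : Cfsg.Omega F Q) (u g : ι → F), ∃ v, v ≠ 0 ∧ Q v = 0 ∧ bf (A + Aᵀ) v (mt Q Y *ᵥ v) = 0 ∧
      bf (A + Aᵀ) u v = 0 ∧ g ⬝ᵥ v = 0 := by
    intro Y u g
    obtain ⟨x, hx, h1, h3⟩ := CW.exists_quad (K := F) (σ := ι) (k := 2) (l := 2)
      ![A, (A + Aᵀ) * mt Q Y] ![u ᵥ* (A + Aᵀ), g] (by omega)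
    refine ⟨x, hx, ?_, ?_, ?_, h3 1⟩
    · rw [h.eq]; exact h1 0
    · have := h1 1
      change x ⬝ᵥ (((A + Aᵀ) * mt Q Y) *ᵥ x) = 0 at this
      rw [← mulVec_mulVec] at this
      exact this
    · have := h3 0
      simp only [cons_val_zero] at this
      rwa [vecMul_eq] at this
  have H3 : ∀ u g : ι → F, ∃ v, v ≠ 0 ∧ Q v = 0 ∧ bf (A + Aᵀ) u v = 0 ∧ g ⬝ᵥ v = 0 := by
    intro u g
    obtain ⟨v, h1, h2, -, h3, h4⟩ := H2 1 u g
    exact ⟨v, h1, h2, h3, h4⟩
  refine noCop_of_scalar (φ := mt Q) (Fact.out : p.Prime) mt_injective hna ?_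
  intro X Y hc hpx hx1
  refine h.ld.scalar_of_trans Y ?_ (H1 Y) (H2 Y)
  intro e f e' f' hi he hf hB hi' he' hf' hB'
  have hself : ∀ v, Q v = 0 → bf (A + Aᵀ) v v = 0 := fun v hv => by rw [h.self, hv, mul_zero]
  let O := {o : (ι → F) × (ι → F) // Q o.1 = 0 ∧ Q o.2 = 0 ∧ bf (A + Aᵀ) o.1 o.2 = 0}
  obtain ⟨Z, C, ζ, hζ, hZ, hZ', hcz, hcz', hCY, -⟩ := exists_lift (φ := mt Q) (p := p) mt_injective
    (fun z hz => h.center_scalar hn4 H3 hz) hc hpx hx1 (O := O)
    (fun o => Chain.UC (mt Q) (ch (hself _ o.2.1) (hself _ o.2.2.1) o.2.2.2 (by rw [h.comm]; exact o.2.2.2))) 5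
    (fun o u hu => Chain.pow_eq_one (c := ch (hself _ o.2.1) (hself _ o.2.2.1) o.2.2.2
      (by rw [h.comm]; exact o.2.2.2)) mt_injective hu) ⟨(e, f), he, hf, hB⟩ ⟨(e', f'), he', hf', hB'⟩
  obtain ⟨l, c, hl, h3⟩ := h.form_line hn4 he hf hi hB
    (fun u hu => hcz _ (h.sie_mem_left hn4 he hi.left_ne _ _ _ _ u hu))
    (fun u hu hu' => hcz _ (h.sie_mem_right hn4 hf hi.right_ne _ _ _ _ u hu hu'))
  obtain ⟨l', c', hl', h4⟩ := h.form_line hn4 he' hf' hi' hB'
    (fun u hu => hcz' _ (h.sie_mem_left hn4 he' hi'.left_ne _ _ _ _ u hu))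
    (fun u hu hu' => hcz' _ (h.sie_mem_right hn4 hf' hi'.right_ne _ _ _ _ u hu hu'))
  have hc' : c' ≠ 0 := by
    rintro rfl
    apply hZ'
    obtain ⟨d, hd⟩ := exists_scalar (A := mt Q (C * Z * C⁻¹)) fun v => ⟨l', by
      rw [h4, mul_zero, zero_smul, add_zero]⟩
    exact mem_center_of_scalar mt_injective hd
  have h5 : ∀ w, l • (mt Q C *ᵥ w) + (l * c) • (bf (A + Aᵀ) e w • (mt Q C *ᵥ f) - bf (A + Aᵀ) f w • (mt Q C *ᵥ e)) =
      l' • (mt Q C *ᵥ w) + (l' * c') • (bf (A + Aᵀ) e' (mt Q C *ᵥ w) • f' - bf (A + Aᵀ) f' (mt Q C *ᵥ w) • e') := by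
    intro w
    have h6 := h4 (mt Q C *ᵥ w)
    rw [mul_mulVec, mul_mulVec, inv_mulVec, h3, mulVec_add, mulVec_smul, mulVec_smul, mulVec_sub, mulVec_smul,
      mulVec_smul] at h6
    exact h6
  have hll : l = l' := by
    obtain ⟨x, hx, hx'⟩ := exists_perp (A + Aᵀ) ![e, f, mt Q C⁻¹ *ᵥ e', mt Q C⁻¹ *ᵥ f'] (by omega)
    have e1 : bf (A + Aᵀ) e x = 0 := hx' 0
    have e2 : bf (A + Aᵀ) f x = 0 := hx' 1
    have e3 : bf (A + Aᵀ) e' (mt Q C *ᵥ x) = 0 := by
      have h6 := h.ld.iso C (mt Q C⁻¹ *ᵥ e') x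
      rw [mulVec_inv] at h6
      rw [h6]; exact hx' 2
    have e4 : bf (A + Aᵀ) f' (mt Q C *ᵥ x) = 0 := by
      have h6 := h.ld.iso C (mt Q C⁻¹ *ᵥ f') x
      rw [mulVec_inv] at h6
      rw [h6]; exact hx' 3
    have h6 := h5 x
    rw [e1, e2, e3, e4] at h6
    simp only [zero_smul, sub_zero, smul_zero, add_zero] at h6
    refine smul_left_cancel' (fun h0 => hx ?_) h6
    rw [← inv_mulVec (mt Q) C x, h0, mulVec_zero]
  exact ⟨C, ζ, hζ, hCY, h.ld.line_of_form (C := C) hi' hc' hl' h5 hll⟩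

end OD

/-! ### the three families -/

theorem nd_of {A : Matrix ι ι F} (hA : ∀ u : ι → F, (A + Aᵀ) *ᵥ u = 0 → u = 0) : ND (A + Aᵀ) := by
  intro u hu
  refine hA u (funext fun i => ?_)
  have := hu (Pi.single i 1)
  unfold bf at this
  rwa [single_one_dotProduct] at this

/-- the matrix of `∑ x_i y_i` -/
def hyp (m : ℕ) (F : Type*) [Field F] : Matrix (Fin m ⊕ Fin m) (Fin m ⊕ Fin m) F := fromBlocks 0 1 0 0

theorem hyp_eq (m : ℕ) (v : Fin m ⊕ Fin m → F) : v ⬝ᵥ (hyp m F *ᵥ v) = ∑ i, v (.inl i) * v (.inr i) := by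
  unfold hyp
  rw [dotProduct, Fintype.sum_sum_type]
  simp [fromBlocks_mulVec]

theorem od_plus (m : ℕ) : OD (Cfsg.quadFormPlus m F) (hyp m F) where
  eq := fun v => (hyp_eq m v).symm
  nd := nd_of fun u hu => by
    unfold hyp at hu
    rw [fromBlocks_transpose, fromBlocks_add, fromBlocks_mulVec] at hu
    funext i
    rcases i with i | i
    · have := congrFun hu (.inr i)
      simpa using this
    · have := congrFun hu (.inl i)
      simpa using this

theorem od_odd (m : ℕ) (h2 : (2 : F) ≠ 0) :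
    OD (Cfsg.quadFormOdd m F) (fromBlocks (1 : Matrix Unit Unit F) 0 0 (hyp m F)) where
  eq := fun v => by
    have h1 := hyp_eq m (fun i => v (.inr i))
    rw [dotProduct, Fintype.sum_sum_type]
    simp only [fromBlocks_mulVec]
    unfold Cfsg.quadFormOdd
    simp only [Sum.elim_inl, Sum.elim_inr, zero_mulVec, one_mulVec, add_zero, zero_add, Function.comp_apply,
      Finset.univ_unique, PUnit.default_eq_unit, Finset.sum_singleton]
    rw [← h1, dotProduct, sq]
    rfl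
  nd := nd_of fun u hu => by
    unfold hyp at hu
    simp only [fromBlocks_transpose, fromBlocks_add, fromBlocks_mulVec] at hu
    funext i
    rcases i with i | i | i
    · have := congrFun hu (.inl i)
      simp only [Sum.elim_inl, Pi.zero_apply, Pi.add_apply, transpose_one, transpose_zero, add_zero, zero_mulVec,
        add_mulVec, one_mulVec, Function.comp_apply] at this
      rw [← two_mul] at this
      exact (mul_eq_zero.1 this).resolve_left h2
    · have := congrFun hu (.inr (.inr i))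
      simpa [fromBlocks_mulVec, add_mulVec] using this
    · have := congrFun hu (.inr (.inl i))
      simpa [fromBlocks_mulVec, add_mulVec] using this

theorem od_minus [Fintype F] (m : ℕ) {a b : F}
    (hab : ∀ z₁ z₂ : F, z₁ ^ 2 + a * z₁ * z₂ + b * z₂ ^ 2 = 0 → z₁ = 0 ∧ z₂ = 0) :
    OD (Cfsg.quadFormMinus m F a b) (fromBlocks (hyp m F) 0 0 !![1, a; 0, b]) where
  eq := fun v => by
    have h1 := hyp_eq m (fun i => v (.inl i))
    rw [dotProduct, Fintype.sum_sum_type]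
    simp only [fromBlocks_mulVec]
    unfold Cfsg.quadFormMinus
    simp only [Sum.elim_inl, Sum.elim_inr, zero_mulVec, add_zero, zero_add, Function.comp_apply]
    rw [← h1, dotProduct, Fin.sum_univ_two]
    congr 1
    simp [mulVec, dotProduct, Fin.sum_univ_two]
    ring
  nd := nd_of fun u hu => by
    unfold hyp at hu
    simp only [fromBlocks_transpose, fromBlocks_add, fromBlocks_mulVec] at hu
    have h0 := congrFun hu (.inr 0)
    have h1 := congrFun hu (.inr 1)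
    simp at h0 h1
    have hz : u (.inr 0) = 0 ∧ u (.inr 1) = 0 := by
      by_cases h2 : (2 : F) = 0
      · have ha : a ≠ 0 := by
          intro ha
          have hchar : ringChar F = 2 := by
            have h3 : CharP F (ringChar F) := inferInstance
            have h4 : ringChar F ∣ 2 := (CharP.cast_eq_zero_iff F (ringChar F) 2).1 (by exact_mod_cast h2)
            exact (Nat.dvd_prime Nat.prime_two).1 h4 |>.resolve_left (CharP.ringChar_ne_one)
          obtain ⟨c, hc⟩ := FiniteField.isSquare_of_char_two hchar b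
          have := (hab c 1 (by rw [ha, hc]; linear_combination (c ^ 2) * h2)).2
          exact one_ne_zero this
        constructor
        · have : a * u (.inr 0) = 0 := by linear_combination h1 - (b * u (.inr 1)) * h2
          exact (mul_eq_zero.1 this).resolve_left ha
        · have : a * u (.inr 1) = 0 := by linear_combination h0 - (u (.inr 0)) * h2
          exact (mul_eq_zero.1 this).resolve_left ha
      · refine hab _ _ ?_
        have h3 : (2 : F) * (u (.inr 0) ^ 2 + a * u (.inr 0) * u (.inr 1) + b * u (.inr 1) ^ 2) = 0 := by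
          linear_combination (u (.inr 0)) * h0 + (u (.inr 1)) * h1
        exact (mul_eq_zero.1 h3).resolve_left h2
    funext i
    rcases i with (i | i) | i
    · have := congrFun hu (.inl (.inr i))
      simpa [fromBlocks_mulVec, add_mulVec] using this
    · have := congrFun hu (.inl (.inl i))
      simpa [fromBlocks_mulVec, add_mulVec] using this
    · fin_cases i
      · exact hz.1
      · exact hz.2

theorem noCop_plus [Fintype F] {m : ℕ} (hm : 4 ≤ m) [IsSimpleGroup (Cfsg.POmega F (Cfsg.quadFormPlus m F))]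
    (hna : ¬ IsMulCommutative (Cfsg.POmega F (Cfsg.quadFormPlus m F))) :
    NoCop (Cfsg.POmega F (Cfsg.quadFormPlus m F)) :=
  (od_plus m).noCop (by rw [Fintype.card_sum, Fintype.card_fin]; omega) hna

theorem noCop_odd [Fintype F] {m : ℕ} (hm : 3 ≤ m) (hF : Odd (Fintype.card F))
    [IsSimpleGroup (Cfsg.POmega F (Cfsg.quadFormOdd m F))]
    (hna : ¬ IsMulCommutative (Cfsg.POmega F (Cfsg.quadFormOdd m F))) :
    NoCop (Cfsg.POmega F (Cfsg.quadFormOdd m F)) := by
  have h2 : (2 : F) ≠ 0 := by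
    intro h2
    have h3 : CharP F (ringChar F) := inferInstance
    have h4 : ringChar F ∣ 2 := (CharP.cast_eq_zero_iff F (ringChar F) 2).1 (by exact_mod_cast h2)
    have hchar : ringChar F = 2 := (Nat.dvd_prime Nat.prime_two).1 h4 |>.resolve_left (CharP.ringChar_ne_one)
    have h5 := FiniteField.even_card_of_char_two hchar
    rw [Nat.odd_iff] at hF
    omega
  exact (od_odd m h2).noCop (by
    rw [Fintype.card_sum, Fintype.card_sum, Fintype.card_fin, Fintype.card_unit]; omega) hna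

theorem noCop_minus [Fintype F] {m : ℕ} {a b : F} (hm : 4 ≤ m)
    (hab : ∀ z₁ z₂ : F, z₁ ^ 2 + a * z₁ * z₂ + b * z₂ ^ 2 = 0 → z₁ = 0 ∧ z₂ = 0)
    [IsSimpleGroup (Cfsg.POmega F (Cfsg.quadFormMinus (m - 1) F a b))]
    (hna : ¬ IsMulCommutative (Cfsg.POmega F (Cfsg.quadFormMinus (m - 1) F a b))) :
    NoCop (Cfsg.POmega F (Cfsg.quadFormMinus (m - 1) F a b)) :=
  (od_minus (m - 1) hab).noCop (by
    rw [Fintype.card_sum, Fintype.card_sum, Fintype.card_fin, Fintype.card_fin]; omega) hna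

end Cfsg.Agent.H530.Om
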