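import Cfsg.Agent.H530.Point
import Cfsg.Agent.H530.Setup
import Cfsg.Prelude.Def_Classical

/-!
# No coprime class sizes in `PSp_2m(F)`, `m ≥ 2` (helper530, for S4158)
-/

set_option autoImplicit false
set_option linter.unusedSectionVars false

namespace Cfsg.Agent.H530.Sp

open Matrix Subgroup Cfsg.Agent.H530.Cop Cfsg.Agent.H530.LinTools Cfsg.Agent.H530.Flag Cfsg.Agent.H530.Form
  Cfsg.Agent.H530.Line Cfsg.Agent.H530.Setup Cfsg.Agent.H530.Chain

variable {F : Type*} [Field F] {m : ℕ}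

/-- the form -/
abbrev JJ (m : ℕ) (F : Type*) [Field F] : Matrix (Fin m ⊕ Fin m) (Fin m ⊕ Fin m) F := Matrix.J (Fin m) F

/-- the matrices -/
abbrev mt (m : ℕ) (F : Type*) [Field F] : symplecticGroup (Fin m) F →* Matrix (Fin m ⊕ Fin m) (Fin m ⊕ Fin m) F :=
  (symplecticGroup (Fin m) F).subtype

theorem mt_injective : Function.Injective (mt m F) := Subtype.val_injective

theorem bf_eq (u v : Fin m ⊕ Fin m → F) :
    bf (JJ m F) u v = ∑ i, (u (.inr i) * v (.inl i) - u (.inl i) * v (.inr i)) := by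
  unfold bf JJ Matrix.J
  rw [dotProduct, Fintype.sum_sum_type, Finset.sum_sub_distrib]
  simp only [fromBlocks_mulVec, Sum.elim_inl, Sum.elim_inr, zero_mulVec, one_mulVec, neg_mulVec,
    Pi.neg_apply, Function.comp_apply, zero_add, add_zero, mul_neg, Finset.sum_neg_distrib]
  ring

theorem bf_self (v : Fin m ⊕ Fin m → F) : bf (JJ m F) v v = 0 := by
  rw [bf_eq]
  exact Finset.sum_eq_zero fun i _ => by ring

theorem bf_comm (u v : Fin m ⊕ Fin m → F) : bf (JJ m F) v u = -bf (JJ m F) u v := by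
  rw [bf_eq, bf_eq, ← Finset.sum_neg_distrib]
  exact Finset.sum_congr rfl fun i _ => by ring

theorem nd : ND (JJ m F) := by
  intro u hu
  have h1 : JJ m F *ᵥ u = 0 := by
    funext i
    have := hu (Pi.single i 1)
    unfold bf at this
    rwa [single_one_dotProduct] at this
  have h2 : JJ m F *ᵥ (JJ m F *ᵥ u) = -u := by
    rw [mulVec_mulVec, Matrix.J_squared, neg_mulVec, one_mulVec]
  rw [h1, mulVec_zero] at h2
  exact neg_eq_zero.1 h2.symm

theorem bf_mulVec (A B : Matrix (Fin m ⊕ Fin m) (Fin m ⊕ Fin m) F) (u v : Fin m ⊕ Fin m → F) :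
    bf (JJ m F) (A *ᵥ u) (B *ᵥ v) = u ⬝ᵥ ((Aᵀ * JJ m F * B) *ᵥ v) := by
  unfold bf
  rw [mulVec_mulVec, ← mulVec_mulVec, ← mulVec_mulVec, ← mulVec_mulVec, dotProduct_mulVec u, vecMul_transpose]

theorem iso (g : symplecticGroup (Fin m) F) (u v : Fin m ⊕ Fin m → F) :
    bf (JJ m F) (mt m F g *ᵥ u) (mt m F g *ᵥ v) = bf (JJ m F) u v := by
  rw [bf_mulVec]
  change u ⬝ᵥ ((((g : Matrix (Fin m ⊕ Fin m) (Fin m ⊕ Fin m) F))ᵀ * JJ m F *
    (g : Matrix (Fin m ⊕ Fin m) (Fin m ⊕ Fin m) F)) *ᵥ v) = _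
  rw [SymplecticGroup.mem_iff'.1 g.2]
  rfl

/-- isometries are symplectic -/
def el (A : Matrix (Fin m ⊕ Fin m) (Fin m ⊕ Fin m) F) (h : ∀ u v, bf (JJ m F) (A *ᵥ u) (A *ᵥ v) = bf (JJ m F) u v) :
    symplecticGroup (Fin m) F :=
  ⟨A, by
    rw [SymplecticGroup.mem_iff']
    ext i j
    have h1 := h (Pi.single i 1) (Pi.single j 1)
    rw [bf_mulVec] at h1
    unfold bf at h1
    rw [single_one_dotProduct, single_one_dotProduct, mulVec_single_one, mulVec_single_one] at h1
    exact h1⟩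

theorem mt_el (A : Matrix (Fin m ⊕ Fin m) (Fin m ⊕ Fin m) F)
    (h : ∀ u v, bf (JJ m F) (A *ᵥ u) (A *ᵥ v) = bf (JJ m F) u v) : mt m F (el A h) = A := rfl

/-- the transvection `w ↦ w + B(e, w) e` -/
def tv (e : Fin m ⊕ Fin m → F) : symplecticGroup (Fin m) F :=
  el (two e (e ᵥ* JJ m F) 0 0) (by
    intro u v
    simp only [two_mulVec, vecMul_eq, add_left, add_right, smul_left, smul_right, zero_left, zero_right, bf_self,
      bf_comm e u, zero_dotProduct, zero_smul]
    ring)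

theorem tv_mulVec (e w : Fin m ⊕ Fin m → F) : mt m F (tv e) *ᵥ w = w + bf (JJ m F) e w • e := by
  unfold tv
  rw [mt_el, two_mulVec, vecMul_eq, smul_zero, add_zero]

/-- `w ↦ w + B(e, w) u + B(u, w) e` -/
def sg (e u : Fin m ⊕ Fin m → F) (h : bf (JJ m F) e u = 0) : symplecticGroup (Fin m) F :=
  el (two u (e ᵥ* JJ m F) e (u ᵥ* JJ m F)) (by
    intro a b
    simp only [two_mulVec, vecMul_eq, add_left, add_right, smul_left, smul_right, bf_self, h, bf_comm e u,
      bf_comm e a, bf_comm u a]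
    ring)

theorem sg_mulVec (e u : Fin m ⊕ Fin m → F) (h : bf (JJ m F) e u = 0) (w : Fin m ⊕ Fin m → F) :
    mt m F (sg e u h) *ᵥ w = w + bf (JJ m F) e w • u + bf (JJ m F) u w • e := by
  unfold sg
  rw [mt_el, two_mulVec, vecMul_eq, vecMul_eq]

/-- the linear data -/
theorem ld : LD (mt m F) (JJ m F) (fun _ => 0) 0 where
  iso := iso
  nd := nd
  refl := fun u v h => by rw [bf_comm, h, neg_zero]
  self := fun v _ => bf_self v
  Qadd := fun _ _ => by ring
  Qsmul := fun _ _ => by ring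
  Qiso := fun _ _ => rfl
  hκ := Or.inr fun _ => rfl

theorem smul_left_cancel' {e : Fin m ⊕ Fin m → F} (he : e ≠ 0) {a b : F} (h : a • e = b • e) : a = b := by
  have h1 : (a - b) • e = 0 := by rw [sub_smul, h, sub_self]
  exact sub_eq_zero.1 ((smul_eq_zero.1 h1).resolve_right he)

/-- **The shape of the elements commuting with the radical of a point stabilizer.** -/
theorem form {e : Fin m ⊕ Fin m → F} (he : e ≠ 0) {z : symplecticGroup (Fin m) F}
    (hz1 : tv e * z = z * tv e) (hz2 : ∀ u (h : bf (JJ m F) e u = 0), sg e u h * z = z * sg e u h) :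
    ∃ (l c : F) (r : Fin m ⊕ Fin m → F), l * l = 1 ∧ bf (JJ m F) e r = 0 ∧ mt m F z *ᵥ e = l • e ∧
      (∀ u, bf (JJ m F) e u = 0 → 2 * l * bf (JJ m F) u r = 0) ∧
      ∀ w, mt m F z *ᵥ w = l • w + bf (JJ m F) e w • r + (bf (JJ m F) w r + c * bf (JJ m F) e w) • e := by
  obtain ⟨w0, hw0⟩ : ∃ w0, bf (JJ m F) e w0 = 1 := by
    obtain ⟨w, hw⟩ := exists_eq_one nd he
    exact ⟨-w, by rw [bf_comm, neg_left, hw, neg_neg]⟩
  have h1 : ∀ w, bf (JJ m F) e (mt m F z *ᵥ w) • e = bf (JJ m F) e w • (mt m F z *ᵥ e) := by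
    intro w
    have h2 := congrArg (fun a : symplecticGroup (Fin m) F => mt m F a *ᵥ w) hz1
    simp only [mul_mulVec] at h2
    rw [tv_mulVec, tv_mulVec, mulVec_add, mulVec_smul] at h2
    exact add_left_cancel h2
  set l := bf (JJ m F) e (mt m F z *ᵥ w0) with hl
  have hze : mt m F z *ᵥ e = l • e := by
    have := h1 w0
    rw [hw0, one_smul] at this
    exact this.symm
  have h2 : ∀ w, bf (JJ m F) e (mt m F z *ᵥ w) = l * bf (JJ m F) e w := by
    intro w
    have := h1 w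
    rw [hze, smul_smul] at this
    rw [smul_left_cancel' he this, mul_comm]
  have hll : l * l = 1 := by
    have := iso z e w0
    rwa [hze, smul_left, h2, hw0, mul_one] at this
  set r := mt m F z *ᵥ w0 - l • w0 with hr
  have her : bf (JJ m F) e r = 0 := by
    rw [hr, sub_right, smul_right, h2, hw0]; ring
  have hzw0 : mt m F z *ᵥ w0 = l • w0 + r := by rw [hr]; abel
  have h3 : ∀ u, bf (JJ m F) e u = 0 → mt m F z *ᵥ u = l • u + bf (JJ m F) u r • e := by
    intro u hu
    have h4 := congrArg (fun a : symplecticGroup (Fin m) F => mt m F a *ᵥ w0) (hz2 u hu)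
    simp only [mul_mulVec] at h4
    rw [sg_mulVec, sg_mulVec, mulVec_add, mulVec_add, mulVec_smul, mulVec_smul, hw0, one_smul, hze, h2, hw0,
      mul_one, hzw0, add_right, smul_right] at h4
    have h5 : mt m F z *ᵥ u = (l • w0 + r + mt m F z *ᵥ u + bf (JJ m F) u w0 • l • e) -
        (l • w0 + r + bf (JJ m F) u w0 • l • e) := by abel
    rw [h5, ← h4, smul_smul, add_smul, mul_comm l (bf (JJ m F) u w0)]
    abel
  refine ⟨l, -bf (JJ m F) w0 r, r, hll, her, hze, ?_, ?_⟩
  · intro u hu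
    have h4 := iso z u w0
    rw [h3 u hu, hzw0, add_left, smul_left, smul_left, add_right, smul_right, add_right, smul_right, her, hw0] at h4
    linear_combination h4 - bf (JJ m F) u w0 * hll
  · intro w
    have h4 := h3 (w - bf (JJ m F) e w • w0) (by rw [sub_right, smul_right, hw0]; ring)
    rw [mulVec_sub, mulVec_smul, hzw0, sub_left, smul_left] at h4
    have h5 : mt m F z *ᵥ w = (mt m F z *ᵥ w - bf (JJ m F) e w • (l • w0 + r)) + bf (JJ m F) e w • (l • w0 + r) := by
      abel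
    rw [h5, h4, smul_sub, smul_add, smul_smul, smul_smul, mul_comm l (bf (JJ m F) e w),
      show bf (JJ m F) w r - bf (JJ m F) e w * bf (JJ m F) w0 r =
        bf (JJ m F) w r + -bf (JJ m F) w0 r * bf (JJ m F) e w by ring]
    abel

/-- `p ≠ 2` -/
theorem form_odd (h2 : (2 : F) ≠ 0) {e : Fin m ⊕ Fin m → F} (he : e ≠ 0) {z : symplecticGroup (Fin m) F}
    (hz1 : tv e * z = z * tv e) (hz2 : ∀ u (h : bf (JJ m F) e u = 0), sg e u h * z = z * sg e u h) :
    ∃ l b : F, ∀ w, mt m F z *ᵥ w = l • w + (b * bf (JJ m F) e w) • e := by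
  obtain ⟨l, c, r, hll, her, hze, h3, h4⟩ := form he hz1 hz2
  have hl0 : l ≠ 0 := by rintro rfl; simp at hll
  obtain ⟨s, hs⟩ := ld.eq_smul (v := e) (r := r) fun w hw => by
    have := h3 w hw
    exact (mul_eq_zero.1 this).resolve_left (mul_ne_zero h2 hl0)
  refine ⟨l, c, fun w => ?_⟩
  rw [h4, hs, smul_right, bf_comm e w, smul_smul, add_assoc, ← add_smul]
  congr 2
  ring

/-- `p = 2` -/
theorem form_even (h2 : (2 : F) = 0) {e f : Fin m ⊕ Fin m → F} (hef : Ind e f) (hB : bf (JJ m F) e f = 0)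
    {z : symplecticGroup (Fin m) F}
    (hz1 : tv e * z = z * tv e) (hz2 : ∀ u (h : bf (JJ m F) e u = 0), sg e u h * z = z * sg e u h)
    (hz3 : tv f * z = z * tv f)
    (hz4 : ∀ u (h : bf (JJ m F) f u = 0), bf (JJ m F) e u = 0 → sg f u h * z = z * sg f u h) :
    ∃ b c : F, ∀ w, mt m F z *ᵥ w = w + (b * bf (JJ m F) e w) • e +
      c • (bf (JJ m F) e w • f - bf (JJ m F) f w • e) := by
  obtain ⟨l, c, r, hll, her, hze, h3, h4⟩ := form hef.left_ne hz1 hz2
  have hl1 : l = 1 := by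
    have : (l - 1) * (l - 1) = 0 := by linear_combination hll - (l - 1) * h2
    exact sub_eq_zero.1 (mul_self_eq_zero.1 this)
  have hneg : ∀ a : F, -a = a := fun a => by linear_combination (-a) * h2
  rw [hl1] at h4
  obtain ⟨w1, hw1, hw1'⟩ := ld.exists_dual hef.symm
  -- `bf f r = 0`
  have hzf : mt m F z *ᵥ f = f + bf (JJ m F) f r • e := by
    rw [h4, hB, zero_smul, mul_zero, add_zero, add_zero, one_smul]
  have hfr : bf (JJ m F) f r = 0 := by
    have h5 := congrArg (fun a : symplecticGroup (Fin m) F => mt m F a *ᵥ w1) hz3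
    simp only [mul_mulVec] at h5
    rw [tv_mulVec, tv_mulVec, mulVec_add, mulVec_smul, hw1, one_smul] at h5
    have h6 := add_left_cancel h5
    rw [hzf, h4, hw1', zero_smul, mul_zero, add_zero, add_zero, one_smul, add_right, smul_right, hw1,
      bf_comm e f, hB, neg_zero, mul_zero, add_zero, one_smul] at h6
    have h7 : bf (JJ m F) f r • e = 0 := add_eq_left.1 h6.symm
    exact (smul_eq_zero.1 h7).resolve_right hef.left_ne
  rw [hfr, zero_smul, add_zero] at hzf
  -- `r ∈ ⟨e, f⟩`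
  obtain ⟨a, b, hab⟩ := eq_comb_of_bf nd (e := e) (f := f) (r := r) (by
    intro u hue huf
    have hue' : bf (JJ m F) e u = 0 := by rw [bf_comm, hue, neg_zero]
    have huf' : bf (JJ m F) f u = 0 := by rw [bf_comm, huf, neg_zero]
    have h5 := congrArg (fun a : symplecticGroup (Fin m) F => mt m F a *ᵥ w1) (hz4 u huf' hue')
    simp only [mul_mulVec] at h5
    rw [sg_mulVec, sg_mulVec, mulVec_add, mulVec_add, mulVec_smul, mulVec_smul, hw1, one_smul, hzf] at h5
    have e1 : bf (JJ m F) f (mt m F z *ᵥ w1) = 1 := by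
      have := iso z f w1
      rwa [hzf, hw1] at this
    have e2 : mt m F z *ᵥ u = u + bf (JJ m F) u r • e := by
      rw [h4, hue', zero_smul, mul_zero, add_zero, add_zero, one_smul]
    have e3 : bf (JJ m F) u (mt m F z *ᵥ w1) = bf (JJ m F) u w1 := by
      rw [h4, hw1', zero_smul, mul_zero, add_zero, add_zero, one_smul, add_right, smul_right, hue, mul_zero,
        add_zero]
    rw [e1, e2, e3, one_smul] at h5
    have h6 : bf (JJ m F) u r • e = 0 := by
      have h7 := sub_eq_zero.2 h5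
      have h8 : mt m F z *ᵥ w1 + u + bf (JJ m F) u w1 • f - (mt m F z *ᵥ w1 + (u + bf (JJ m F) u r • e) +
          bf (JJ m F) u w1 • f) = -(bf (JJ m F) u r • e) := by abel
      rw [h8] at h7
      exact neg_eq_zero.1 h7
    exact (smul_eq_zero.1 h6).resolve_right hef.left_ne)
  refine ⟨c, b, fun w => ?_⟩
  rw [h4, hab, one_smul, add_right, smul_right, smul_right, bf_comm e w, bf_comm f w, smul_add, smul_sub]
  simp only [smul_smul, add_smul, hneg]
  have e1 : (bf (JJ m F) e w * a) • e + (a * bf (JJ m F) e w) • e = 0 := by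
    rw [← add_smul, show bf (JJ m F) e w * a + a * bf (JJ m F) e w = 2 * (a * bf (JJ m F) e w) by ring, h2,
      zero_mul, zero_smul]
  have e2 : (b * bf (JJ m F) f w) • e = -((b * bf (JJ m F) f w) • e) := by
    rw [← neg_smul, hneg]
  rw [mul_comm (bf (JJ m F) e w) b]
  calc w + ((bf (JJ m F) e w * a) • e + (b * bf (JJ m F) e w) • f) +
      ((a * bf (JJ m F) e w) • e + (b * bf (JJ m F) f w) • e + (c * bf (JJ m F) e w) • e)
      = w + (c * bf (JJ m F) e w) • e + ((b * bf (JJ m F) e w) • f + (b * bf (JJ m F) f w) • e) +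
        ((bf (JJ m F) e w * a) • e + (a * bf (JJ m F) e w) • e) := by abel
    _ = _ := by
      rw [e1, add_zero]
      conv_lhs => rw [e2]
      abel

theorem center_scalar {z : symplecticGroup (Fin m) F} (hz : z ∈ center (symplecticGroup (Fin m) F)) :
    ∃ c : F, mt m F z = scalar _ c := by
  refine exists_scalar fun e => ?_
  by_cases he : e = 0
  · exact ⟨0, by rw [he, mulVec_zero, smul_zero]⟩
  obtain ⟨w, hw⟩ := exists_eq_one (nd (F := F) (m := m)) he
  have h1 := congrArg (fun a : symplecticGroup (Fin m) F => mt m F a *ᵥ w) (mem_center_iff.1 hz (tv e))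
  simp only [mul_mulVec] at h1
  rw [tv_mulVec, tv_mulVec, mulVec_add, mulVec_smul] at h1
  have h2 := add_left_cancel h1
  rw [bf_comm w e, hw, neg_one_smul] at h2
  exact ⟨-bf (JJ m F) e (mt m F z *ᵥ w), by rw [neg_smul, h2, neg_neg]⟩

/-- the radical of the stabilizer of a point -/
theorem tv_mem (e : Fin m ⊕ Fin m → F) : tv e ∈ Flag.U (mt m F) e (e ᵥ* JJ m F) := by
  refine ⟨fun w => ?_, fun w _ => ⟨bf (JJ m F) e w, ?_⟩, ?_⟩
  · rw [tv_mulVec, add_sub_cancel_left, vecMul_eq, smul_right, bf_self, mul_zero]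
  · rw [tv_mulVec, add_sub_cancel_left]
  · rw [tv_mulVec, bf_self, zero_smul, add_zero]

theorem sg_mem (e u : Fin m ⊕ Fin m → F) (h : bf (JJ m F) e u = 0) :
    sg e u h ∈ Flag.U (mt m F) e (e ᵥ* JJ m F) := by
  refine ⟨fun w => ?_, fun w hw => ⟨bf (JJ m F) u w, ?_⟩, ?_⟩
  · rw [sg_mulVec, add_assoc, add_sub_cancel_left, vecMul_eq, add_right, smul_right, smul_right, bf_self, h]; ring
  · rw [vecMul_eq] at hw
    rw [sg_mulVec, hw, zero_smul, add_zero, add_sub_cancel_left]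
  · rw [sg_mulVec, bf_self, bf_comm e u, h, neg_zero, zero_smul, zero_smul, add_zero, add_zero]

theorem smul_scalar_ne {z : symplecticGroup (Fin m) F} (hz : z ∉ center (symplecticGroup (Fin m) F)) {l : F}
    (h : ∀ w, mt m F z *ᵥ w = l • w) : False := by
  obtain ⟨c, hc⟩ := exists_scalar fun v => ⟨l, h v⟩
  have : Nonempty (Fin m ⊕ Fin m) ∨ IsEmpty (Fin m ⊕ Fin m) := (isEmpty_or_nonempty _).symm
  rcases this with h1 | h1
  · exact hz (mem_center_of_scalar mt_injective hc)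
  · apply hz
    rw [mem_center_iff]
    intro g
    exact mt_injective (Subsingleton.elim _ _)

/-- equal eigenvalues -/
theorem eq_of_two [Fintype F] (hm : 2 ≤ m) {l l' : F} {a b : Fin m ⊕ Fin m → F} {T : (Fin m ⊕ Fin m → F) → Fin m ⊕ Fin m → F}
    (hT : ∀ w, T w = 0 → w = 0) (h : ∀ w, bf (JJ m F) a w = 0 → bf (JJ m F) b w = 0 → l • T w = l' • T w) :
    l = l' := by
  obtain ⟨x, hx, hx'⟩ := exists_perp (JJ m F) ![a, b] (by
    rw [Fintype.card_sum, Fintype.card_fin]; omega)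
  have h1 := h x (hx' 0) (hx' 1)
  refine smul_left_cancel' (fun h0 => hx (hT x h0)) h1

/-- the Chevalley-Warning condition -/
theorem cw [Fintype F] (hm : 2 ≤ m) (Y : symplecticGroup (Fin m) F) :
    ∃ u, u ≠ 0 ∧ bf (JJ m F) u (mt m F Y *ᵥ u) = 0 := by
  obtain ⟨x, hx, h1, -⟩ := CW.exists_quad (K := F) (σ := Fin m ⊕ Fin m) (k := 1) (l := 0)
    (fun _ => JJ m F * mt m F Y) (fun i => i.elim0) (by rw [Fintype.card_sum, Fintype.card_fin]; omega)
  refine ⟨x, hx, ?_⟩
  have := h1 0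
  rw [← mulVec_mulVec] at this
  exact this

section Main

variable [Fintype F]

/-- from the shape to the point -/
theorem point_of_form (hm : 2 ≤ m) {C Z : symplecticGroup (Fin m) F} {e e' : Fin m ⊕ Fin m → F} (he' : e' ≠ 0)
    {l l' b b' : F} (hb' : b' ≠ 0) (h1 : ∀ w, mt m F Z *ᵥ w = l • w + (b * bf (JJ m F) e w) • e)
    (h2 : ∀ w, mt m F (C * Z * C⁻¹) *ᵥ w = l' • w + (b' * bf (JJ m F) e' w) • e') :
    ∃ s : F, e' = s • (mt m F C *ᵥ e) := by
  have h3 : ∀ w, l • w + (b * bf (JJ m F) (mt m F C *ᵥ e) w) • (mt m F C *ᵥ e) =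
      l' • w + (b' * bf (JJ m F) e' w) • e' := by
    intro w
    rw [← h2, mul_mulVec, mul_mulVec, h1, mulVec_add, mulVec_smul, mulVec_smul, mulVec_inv]
    have := iso C e (mt m F C⁻¹ *ᵥ w)
    rw [mulVec_inv] at this
    rw [this]
  have hll : l = l' := eq_of_two (T := id) hm (fun w h => h) (a := mt m F C *ᵥ e) (b := e') fun w ha hb => by
    have := h3 w
    rw [ha, hb, mul_zero, mul_zero, zero_smul, zero_smul, add_zero, add_zero] at this
    exact this
  obtain ⟨w, hw⟩ := exists_ne_zero (nd (F := F) (m := m)) he'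
  have h4 := h3 w
  rw [hll] at h4
  have h5 := add_left_cancel h4
  have h6 : b' * bf (JJ m F) e' w ≠ 0 := by
    refine mul_ne_zero hb' ?_
    rw [bf_comm, Ne, neg_eq_zero]
    exact hw
  refine ⟨(b' * bf (JJ m F) e' w)⁻¹ * (b * bf (JJ m F) (mt m F C *ᵥ e) w), ?_⟩
  rw [← smul_smul, h5, smul_smul, inv_mul_cancel₀ h6, one_smul]

theorem noCop_odd (p : ℕ) [Fact p.Prime] [CharP F p] (hm : 2 ≤ m) (h2 : (2 : F) ≠ 0) [IsSimpleGroup (Cfsg.PSp m F)]
    (hna : ¬ IsMulCommutative (Cfsg.PSp m F)) : NoCop (Cfsg.PSp m F) := by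
  have hfin : Finite (Cfsg.PSp m F) := Quotient.finite _
  have hne : Nonempty (Fin m ⊕ Fin m) := ⟨.inl ⟨0, by omega⟩⟩
  refine noCop_of_scalar (φ := mt m F) (Fact.out : p.Prime) mt_injective hna ?_
  intro X Y hc hpx hx1
  refine scalar_of_points ld Y ?_ (cw hm Y)
  intro e e' he he'
  obtain ⟨Z, C, ζ, hζ, hZ, hZ', hcz, hcz', hCY, -⟩ := exists_lift (φ := mt m F) (p := p) mt_injective
    (fun z hz => center_scalar hz) hc hpx hx1 (O := {e : Fin m ⊕ Fin m → F // e ≠ 0})
    (fun o => Flag.U (mt m F) o.1 (o.1 ᵥ* JJ m F)) 2 (fun o u hu => Flag.pow_eq_one mt_injective hu) ⟨e, he⟩ ⟨e', he'⟩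
  obtain ⟨l, b, hlb⟩ := form_odd h2 he (hcz _ (tv_mem e)) (fun u h => hcz _ (sg_mem e u h))
  obtain ⟨l', b', hlb'⟩ := form_odd h2 he' (hcz' _ (tv_mem e')) (fun u h => hcz' _ (sg_mem e' u h))
  have hb' : b' ≠ 0 := by
    rintro rfl
    exact smul_scalar_ne hZ' fun w => by rw [hlb', zero_mul, zero_smul, add_zero]
  exact ⟨C, ζ, hζ, hCY, point_of_form hm he' hb' hlb hlb'⟩

/-- the chain of a totally isotropic flag -/
def ch {e f : Fin m ⊕ Fin m → F} (hB : bf (JJ m F) e f = 0) : Chain.Ch F (Fin m ⊕ Fin m) :=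
  Chain.five (perp (JJ m F) e) (perp (JJ m F) e ⊓ perp (JJ m F) f) (Submodule.span F {e, f})
    (Submodule.span F {e}) inf_le_left
    (by
      rw [Submodule.span_le]
      rintro x (rfl | rfl)
      · exact ⟨bf_self _, by rw [SetLike.mem_coe, mem_perp, bf_comm, hB, neg_zero]⟩
      · exact ⟨hB, bf_self _⟩)
    (Submodule.span_mono (by simp))

theorem mem_perp_of_span {e f w : Fin m ⊕ Fin m → F} (hB : bf (JJ m F) e f = 0)
    (hw : w ∈ Submodule.span F {e, f}) : bf (JJ m F) e w = 0 ∧ bf (JJ m F) f w = 0 := by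
  obtain ⟨a, b, rfl⟩ := Submodule.mem_span_pair.1 hw
  constructor
  · rw [add_right, smul_right, smul_right, bf_self, hB]; ring
  · rw [add_right, smul_right, smul_right, bf_self, bf_comm e f, hB]; ring

theorem ch_tv_left {e f : Fin m ⊕ Fin m → F} (hB : bf (JJ m F) e f = 0) :
    tv e ∈ Chain.UC (mt m F) (ch hB) := by
  refine Chain.mem_five (fun w => ?_) (fun w hw => ?_) (fun w hw => ?_) (fun w hw => ?_) (fun w hw => ?_)
  · rw [tv_mulVec, add_sub_cancel_left]
    exact Submodule.smul_mem _ _ (bf_self e)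
  · rw [tv_mulVec, add_sub_cancel_left, mem_perp.1 hw, zero_smul]
    exact zero_mem _
  · rw [tv_mulVec, add_sub_cancel_left, mem_perp.1 hw.1, zero_smul]
    exact zero_mem _
  · rw [tv_mulVec, add_sub_cancel_left, (mem_perp_of_span hB hw).1, zero_smul]
    exact zero_mem _
  · obtain ⟨a, rfl⟩ := Submodule.mem_span_singleton.1 hw
    rw [tv_mulVec, smul_right, bf_self, mul_zero, zero_smul, add_zero]

theorem ch_sg_left {e f : Fin m ⊕ Fin m → F} (hB : bf (JJ m F) e f = 0) (u : Fin m ⊕ Fin m → F)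
    (hu : bf (JJ m F) e u = 0) : sg e u hu ∈ Chain.UC (mt m F) (ch hB) := by
  have hee : e ∈ perp (JJ m F) e ⊓ perp (JJ m F) f :=
    ⟨bf_self e, by rw [SetLike.mem_coe, mem_perp, bf_comm, hB, neg_zero]⟩
  refine Chain.mem_five (fun w => ?_) (fun w hw => ?_) (fun w hw => ?_) (fun w hw => ?_) (fun w hw => ?_)
  · rw [sg_mulVec, add_assoc, add_sub_cancel_left]
    exact add_mem (Submodule.smul_mem _ _ hu) (Submodule.smul_mem _ _ (bf_self e))
  · rw [sg_mulVec, add_assoc, add_sub_cancel_left, mem_perp.1 hw, zero_smul, zero_add]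
    exact Submodule.smul_mem _ _ hee
  · rw [sg_mulVec, add_assoc, add_sub_cancel_left, mem_perp.1 hw.1, zero_smul, zero_add]
    exact Submodule.smul_mem _ _ (Submodule.subset_span (by simp))
  · rw [sg_mulVec, add_assoc, add_sub_cancel_left, (mem_perp_of_span hB hw).1, zero_smul, zero_add]
    exact Submodule.smul_mem _ _ (Submodule.mem_span_singleton_self e)
  · obtain ⟨a, rfl⟩ := Submodule.mem_span_singleton.1 hw
    rw [sg_mulVec, smul_right, smul_right, bf_self, bf_comm e u, hu, neg_zero, mul_zero, zero_smul, zero_smul, add_zero,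
      add_zero]

theorem ch_tv_right {e f : Fin m ⊕ Fin m → F} (hB : bf (JJ m F) e f = 0) :
    tv f ∈ Chain.UC (mt m F) (ch hB) := by
  have hff : f ∈ perp (JJ m F) e ⊓ perp (JJ m F) f := ⟨hB, bf_self f⟩
  refine Chain.mem_five (fun w => ?_) (fun w hw => ?_) (fun w hw => ?_) (fun w hw => ?_) (fun w hw => ?_)
  · rw [tv_mulVec, add_sub_cancel_left]
    exact Submodule.smul_mem _ _ hB
  · rw [tv_mulVec, add_sub_cancel_left]
    exact Submodule.smul_mem _ _ hff
  · rw [tv_mulVec, add_sub_cancel_left, mem_perp.1 hw.2, zero_smul]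
    exact zero_mem _
  · rw [tv_mulVec, add_sub_cancel_left, (mem_perp_of_span hB hw).2, zero_smul]
    exact zero_mem _
  · obtain ⟨a, rfl⟩ := Submodule.mem_span_singleton.1 hw
    rw [tv_mulVec, smul_right, bf_comm e f, hB, neg_zero, mul_zero, zero_smul, add_zero]

theorem ch_sg_right {e f : Fin m ⊕ Fin m → F} (hB : bf (JJ m F) e f = 0) (u : Fin m ⊕ Fin m → F)
    (hu : bf (JJ m F) f u = 0) (hu' : bf (JJ m F) e u = 0) : sg f u hu ∈ Chain.UC (mt m F) (ch hB) := by
  have hff : f ∈ perp (JJ m F) e ⊓ perp (JJ m F) f := ⟨hB, bf_self f⟩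
  refine Chain.mem_five (fun w => ?_) (fun w hw => ?_) (fun w hw => ?_) (fun w hw => ?_) (fun w hw => ?_)
  · rw [sg_mulVec, add_assoc, add_sub_cancel_left]
    exact add_mem (Submodule.smul_mem _ _ hu') (Submodule.smul_mem _ _ hB)
  · rw [sg_mulVec, add_assoc, add_sub_cancel_left]
    exact add_mem (Submodule.smul_mem _ _ ⟨hu', hu⟩) (Submodule.smul_mem _ _ hff)
  · rw [sg_mulVec, add_assoc, add_sub_cancel_left, mem_perp.1 hw.2, zero_smul, zero_add]
    exact Submodule.smul_mem _ _ (Submodule.subset_span (by simp))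
  · rw [sg_mulVec, add_assoc, add_sub_cancel_left, (mem_perp_of_span hB hw).2, zero_smul, zero_add]
    obtain ⟨a, b, rfl⟩ := Submodule.mem_span_pair.1 hw
    rw [add_right, smul_right, smul_right, bf_comm e u, hu', bf_comm f u, hu]
    simp
  · obtain ⟨a, rfl⟩ := Submodule.mem_span_singleton.1 hw
    rw [sg_mulVec, smul_right, smul_right, bf_comm e f, hB, bf_comm e u, hu', neg_zero, mul_zero, zero_smul, zero_smul,
      add_zero, add_zero]

theorem noCop_even (p : ℕ) [Fact p.Prime] [CharP F p] (hm : 2 ≤ m) (h2 : (2 : F) = 0) [IsSimpleGroup (Cfsg.PSp m F)]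
    (hna : ¬ IsMulCommutative (Cfsg.PSp m F)) : NoCop (Cfsg.PSp m F) := by
  have hfin : Finite (Cfsg.PSp m F) := Quotient.finite _
  have hne : Nonempty (Fin m ⊕ Fin m) := ⟨.inl ⟨0, by omega⟩⟩
  refine noCop_of_scalar (φ := mt m F) (Fact.out : p.Prime) mt_injective hna ?_
  intro X Y hc hpx hx1
  -- the transitivity
  have key : ∀ (e f e' f' : Fin m ⊕ Fin m → F), Ind e f → ∀ (hB : bf (JJ m F) e f = 0), Ind e' f' →
      ∀ (hB' : bf (JJ m F) e' f' = 0), ∃ (Z C : symplecticGroup (Fin m) F) (b c b' c' s : F)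
        (G : symplecticGroup (Fin m) F),
        Z ∉ center (symplecticGroup (Fin m) F) ∧ C * Z * C⁻¹ ∉ center (symplecticGroup (Fin m) F) ∧
        (∀ w, mt m F C *ᵥ (mt m F Y *ᵥ w) = mt m F Y *ᵥ (mt m F C *ᵥ w)) ∧
        (∀ w, mt m F Z *ᵥ w = w + (b * bf (JJ m F) e w) • e + c • (bf (JJ m F) e w • f - bf (JJ m F) f w • e)) ∧
        (∀ w, mt m F (C * Z * C⁻¹) *ᵥ w = w + (b' * bf (JJ m F) e' w) • e' +
          c' • (bf (JJ m F) e' w • f' - bf (JJ m F) f' w • e')) ∧ s ≠ 0 ∧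
        ∀ w, mt m F Z *ᵥ w = s • (mt m F G *ᵥ (mt m F X *ᵥ (mt m F G⁻¹ *ᵥ w))) := by
    intro e f e' f' hi hB hi' hB'
    obtain ⟨Z, C, ζ, hζ, hZ, hZ', hcz, hcz', hCY, G, s, hs, hG⟩ := exists_lift (φ := mt m F) (p := p) mt_injective
      (fun z hz => center_scalar hz) hc hpx hx1
      (O := {o : (Fin m ⊕ Fin m → F) × (Fin m ⊕ Fin m → F) // bf (JJ m F) o.1 o.2 = 0})
      (fun o => Chain.UC (mt m F) (ch o.2)) 5
      (fun o u hu => Chain.pow_eq_one (c := ch o.2) mt_injective hu) ⟨(e, f), hB⟩ ⟨(e', f'), hB'⟩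
    obtain ⟨b, c, h3⟩ := form_even h2 hi hB (hcz _ (ch_tv_left hB)) (fun u h => hcz _ (ch_sg_left hB u h))
      (hcz _ (ch_tv_right hB)) (fun u h h' => hcz _ (ch_sg_right hB u h h'))
    obtain ⟨b', c', h4⟩ := form_even h2 hi' hB' (hcz' _ (ch_tv_left hB')) (fun u h => hcz' _ (ch_sg_left hB' u h))
      (hcz' _ (ch_tv_right hB')) (fun u h h' => hcz' _ (ch_sg_right hB' u h h'))
    have hζ1 : ζ = 1 := by
      obtain ⟨w, hw⟩ := exists_eq_one (nd (F := F) (m := m)) hi.left_ne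
      have h5 := iso C (mt m F Y *ᵥ w) (mt m F Y *ᵥ e)
      rw [hCY, hCY, smul_left, smul_right, iso Y, iso C, iso Y, hw] at h5
      have : (ζ - 1) * (ζ - 1) = 0 := by linear_combination h5 - (ζ - 1) * h2
      exact sub_eq_zero.1 (mul_self_eq_zero.1 this)
    refine ⟨Z, C, b, c, b', c', s, G, hZ, hZ', fun w => by rw [hCY, hζ1, one_smul], h3, h4, hs, hG⟩
  -- the quadratic form of the elements
  have hquad : ∀ {Z : symplecticGroup (Fin m) F} {e f : Fin m ⊕ Fin m → F} {b c : F},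
      (∀ w, mt m F Z *ᵥ w = w + (b * bf (JJ m F) e w) • e + c • (bf (JJ m F) e w • f - bf (JJ m F) f w • e)) →
      ∀ w, bf (JJ m F) w (mt m F Z *ᵥ w) = -(b * (bf (JJ m F) e w) ^ 2) := by
    intro Z e f b c h w
    rw [h, add_right, add_right, smul_right, smul_right, sub_right, smul_right, smul_right, bf_self, bf_comm e w,
      bf_comm f w]
    ring
  have hone : ∀ e : Fin m ⊕ Fin m → F, e ≠ 0 → ∃ w, bf (JJ m F) e w = 1 := by
    intro e he
    obtain ⟨w, hw⟩ := exists_eq_one (nd (F := F) (m := m)) he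
    exact ⟨-w, by rw [bf_comm, neg_left, hw, neg_neg]⟩
  have hcardι : Fintype.card (Fin m ⊕ Fin m) = 2 * m := by rw [Fintype.card_sum, Fintype.card_fin]; ring
  by_cases hX : ∀ w, bf (JJ m F) w (mt m F X *ᵥ w) = 0
  · -- lines
    have hT : ∀ e f e' f', Ind e f → bf (JJ m F) e f = 0 → Ind e' f' → bf (JJ m F) e' f' = 0 →
        ∃ C : symplecticGroup (Fin m) F, (∀ w, mt m F C *ᵥ (mt m F Y *ᵥ w) = mt m F Y *ᵥ (mt m F C *ᵥ w)) ∧
        (∃ a b : F, e' = a • (mt m F C *ᵥ e) + b • (mt m F C *ᵥ f)) ∧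
        ∃ a b : F, f' = a • (mt m F C *ᵥ e) + b • (mt m F C *ᵥ f) := by
      intro e f e' f' hi hB hi' hB'
      obtain ⟨Z, C, b, c, b', c', s, G, hZ, hZ', hCY, h3, h4, hs, hG⟩ := key e f e' f' hi hB hi' hB'
      have h5 : ∀ w, bf (JJ m F) w (mt m F Z *ᵥ w) = 0 := by
        intro w
        have h6 := iso G (mt m F G⁻¹ *ᵥ w) (mt m F X *ᵥ (mt m F G⁻¹ *ᵥ w))
        rw [mulVec_inv, hX] at h6
        rw [hG, smul_right, h6, mul_zero]
      have hb : b = 0 := by
        obtain ⟨w, hw⟩ := hone e hi.left_ne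
        have := hquad h3 w
        rw [h5, hw] at this
        linear_combination this
      have h5' : ∀ w, bf (JJ m F) w (mt m F (C * Z * C⁻¹) *ᵥ w) = 0 := by
        intro w
        have h6 := iso C (mt m F C⁻¹ *ᵥ w) (mt m F Z *ᵥ (mt m F C⁻¹ *ᵥ w))
        rw [mulVec_inv, h5] at h6
        rw [mul_mulVec, mul_mulVec, h6]
      have hb' : b' = 0 := by
        obtain ⟨w, hw⟩ := hone e' hi'.left_ne
        have := hquad h4 w
        rw [h5', hw] at this
        linear_combination this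
      subst hb hb'
      have hc' : c' ≠ 0 := by
        rintro rfl
        exact smul_scalar_ne (l := 1) hZ' fun w => by
          rw [h4, zero_mul, zero_smul, zero_smul, add_zero, add_zero, one_smul]
      refine ⟨C, hCY, ld.line_of_form (C := C) (e := e) (f := f) (l := 1) (l' := 1) (c := c) (c' := c') hi' hc'
        one_ne_zero (fun w => ?_) rfl⟩
      have h6 := h4 (mt m F C *ᵥ w)
      rw [mul_mulVec, mul_mulVec, inv_mulVec, h3, zero_mul, zero_smul, add_zero, zero_mul, zero_smul, add_zero,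
        mulVec_add, mulVec_smul, mulVec_sub, mulVec_smul, mulVec_smul] at h6
      rw [one_smul, one_mul, one_mul, h6]
    rcases Nat.lt_or_ge 2 m with hm3 | hm3
    · refine ld.scalar_of_trans Y ?_ ?_ ?_
      · intro e f e' f' hi _ _ hB hi' _ _ hB'
        obtain ⟨C, hC, h3⟩ := hT e f e' f' hi hB hi' hB'
        exact ⟨C, 1, one_ne_zero, fun w => by rw [hC, one_smul], h3⟩
      · obtain ⟨x, hx, h1, -⟩ := CW.exists_quad (K := F) (σ := Fin m ⊕ Fin m) (k := 2) (l := 0)
          ![JJ m F * mt m F Y, JJ m F * mt m F Y * mt m F Y] (fun i => i.elim0) (by rw [hcardι]; omega)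
        refine ⟨x, hx, rfl, ?_, ?_⟩
        · have := h1 0
          simp only [cons_val_zero] at this
          rw [← mulVec_mulVec] at this
          exact this
        · have := h1 1
          change x ⬝ᵥ ((JJ m F * mt m F Y * mt m F Y) *ᵥ x) = 0 at this
          rw [← mulVec_mulVec, ← mulVec_mulVec] at this
          exact this
      · intro u g
        obtain ⟨x, hx, h1, h3⟩ := CW.exists_quad (K := F) (σ := Fin m ⊕ Fin m) (k := 1) (l := 2)
          (fun _ => JJ m F * mt m F Y) ![u ᵥ* JJ m F, g] (by rw [hcardι]; omega)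
        refine ⟨x, hx, rfl, ?_, ?_, h3 1⟩
        · have := h1 0
          rw [← mulVec_mulVec] at this
          exact this
        · have := h3 0
          simp only [cons_val_zero] at this
          rwa [vecMul_eq] at this
    · exact scalar_of_lines_four ld (by rw [hcardι]; omega) Y hT (cw hm Y)
  · -- points
    refine scalar_of_points ld Y ?_ (cw hm Y)
    intro e e' he he'
    have hex : ∀ e : Fin m ⊕ Fin m → F, e ≠ 0 → ∃ f, Ind e f ∧ bf (JJ m F) e f = 0 := by
      intro v hv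
      obtain ⟨w, hw⟩ := exists_ne_zero (nd (F := F) (m := m)) hv
      obtain ⟨x, hx, hx'⟩ := exists_perp (JJ m F) ![v, w] (by rw [hcardι]; omega)
      have h1 := hx' 0
      have h2 := hx' 1
      simp only [cons_val_zero, cons_val_one] at h1 h2
      refine ⟨x, ind_of hv fun c hc => ?_, h1⟩
      rw [hc, smul_right] at h2
      rcases mul_eq_zero.1 h2 with h3 | h3
      · exact hx (by rw [hc, h3, zero_smul])
      · exact hw h3
    obtain ⟨f, hi, hB⟩ := hex e he
    obtain ⟨f', hi', hB'⟩ := hex e' he'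
    obtain ⟨Z, C, b, c, b', c', s, G, hZ, hZ', hCY, h3, h4, hs, hG⟩ := key e f e' f' hi hB hi' hB'
    refine ⟨C, 1, one_ne_zero, fun w => by rw [hCY, one_smul], ?_⟩
    have hb : b ≠ 0 := by
      rintro rfl
      apply hX
      intro w
      have h5 := hquad h3 (mt m F G *ᵥ w)
      rw [hG, smul_right, iso, inv_mulVec, zero_mul, neg_zero] at h5
      exact (mul_eq_zero.1 h5).resolve_left hs
    refine (ld.eq_smul (v := mt m F C *ᵥ e) (r := e') fun w hw => ?_)
    have h5 := hquad h4 w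
    have h6 := iso C (mt m F C⁻¹ *ᵥ w) (mt m F Z *ᵥ (mt m F C⁻¹ *ᵥ w))
    have h7 := iso C e (mt m F C⁻¹ *ᵥ w)
    rw [mulVec_inv, hw] at h7
    rw [mulVec_inv, hquad h3, ← h7] at h6
    rw [mul_mulVec, mul_mulVec, h6] at h5
    have h8 : b' * bf (JJ m F) e' w ^ 2 = 0 := by linear_combination h5
    have hb' : b' ≠ 0 := by
      rintro rfl
      apply hb
      obtain ⟨w, hw⟩ := hone e he
      have h9 := hquad h4 (mt m F C *ᵥ w)
      rw [mul_mulVec, mul_mulVec, inv_mulVec, iso, hquad h3, hw] at h9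
      linear_combination -h9
    rw [bf_comm, neg_eq_zero]
    exact pow_eq_zero_iff two_ne_zero |>.1 ((mul_eq_zero.1 h8).resolve_left hb')

end Main

/-- **No coprime class sizes in the symplectic groups.** -/
theorem noCop [Fintype F] (hm : 2 ≤ m) [IsSimpleGroup (Cfsg.PSp m F)] (hna : ¬ IsMulCommutative (Cfsg.PSp m F)) :
    NoCop (Cfsg.PSp m F) := by
  obtain ⟨p, hp⟩ := CharP.exists F
  have hpp : Fact p.Prime := ⟨CharP.char_is_prime F p⟩
  by_cases h2 : (2 : F) = 0
  · exact noCop_even (p := p) hm h2 hna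
  · exact noCop_odd (p := p) hm h2 hna

end Cfsg.Agent.H530.Sp
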