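import Cfsg.Agent.H530.Psl
import Cfsg.Agent.H530.Sp
import Cfsg.Agent.H530.Om
import Cfsg.Agent.H743.NoCopAlt
import Cfsg.Agent.H743.NoCopPsl
import Cfsg.Agent.H307.CopPsuMain
import Cfsg.Agent.H307.CopOne
import Cfsg.Prelude.Def_Classification2

/-!
# No coprime class sizes: reduction to the exceptional and the sporadic groups (helper530, for S4158)
-/

set_option autoImplicit false
set_option linter.style.haveILetI false

namespace Cfsg.Agent.H530.Final

open Cfsg Cfsg.Agent.H530.Cop

universe u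

theorem transfer {G : Type u} [Group G] [IsSimpleGroup G] (hna : ¬ IsMulCommutative G) {H : Type} [Group H]
    (e : G ≃* H) (h : ∀ [IsSimpleGroup H], ¬ IsMulCommutative H → NoCop H) : NoCop G := by
  have hs : IsSimpleGroup H := by
    have : Nontrivial H := e.symm.toEquiv.nontrivial
    exact IsSimpleGroup.isSimpleGroup_of_surjective e.toMonoidHom e.surjective
  refine NoCop.congr e.symm (h fun hc => hna ⟨⟨fun a b => e.injective ?_⟩⟩)
  rw [map_mul, map_mul]
  exact hc.is_comm.comm _ _

theorem noCop_of_known {G : Type u} [Group G] [Finite G] [IsSimpleGroup G] (hna : ¬ IsMulCommutative G)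
    (h : IsKnownSimple' G) (hexc : IsExceptionalLieType G → NoCop G) (hspor : IsSporadicGroup G → NoCop G) :
    NoCop G := by
  rcases h with h | h | h | h | h | h | h | h | h | h
  · exfalso
    apply hna
    have h1 : Fact (Nat.card G).Prime := ⟨h⟩
    have h2 : IsCyclic G := isCyclic_of_prime_card (p := Nat.card G) rfl
    exact IsCyclic.isMulCommutative
  · obtain ⟨n, hn, ⟨e⟩⟩ := h
    exact NoCop.congr e.symm (H743.NoCopAlt.noCop_alt n hn)
  · obtain ⟨F, _, _, n, h2, h4, ⟨e⟩⟩ := h
    rcases Nat.lt_or_ge n 3 with hn | hn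
    · obtain rfl : n = 2 := by omega
      exact NoCop.congr e.symm (H743.NoCopPsl.noCop_psl2 F (h4 rfl))
    · exact transfer hna e fun hc => Psl.noCop hn hc
  · obtain ⟨F, _, _, m, h2, h3, ⟨e⟩⟩ := h
    exact transfer hna e fun hc => Sp.noCop h2 hc
  · obtain ⟨F, _, _, n, q, hF, hn, h32, ⟨e⟩⟩ := h
    exact NoCop.congr e.symm (H307.CopPsuMain.noCop_psu hF hn h32)
  · obtain ⟨F, _, _, m, h2, h3, ⟨e⟩⟩ := h
    exact transfer hna e fun hc => Om.noCop_odd h2 h3 hc
  · obtain ⟨F, _, _, m, h2, ⟨e⟩⟩ := h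
    exact transfer hna e fun hc => Om.noCop_plus h2 hc
  · obtain ⟨F, _, _, m, a, b, h2, h3, ⟨e⟩⟩ := h
    exact transfer hna e fun hc => Om.noCop_minus h2 h3 hc
  · exact hexc h
  · exact hspor h

end Cfsg.Agent.H530.Final
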