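import Cfsg.Agent.H530.ExcRows
import Cfsg.Agent.H530.ExcE6
import Cfsg.Agent.H530.ExcTE6
import Cfsg.Agent.H530.ExcTF4
import Cfsg.Agent.H307.ExcNoCop
import Cfsg.Agent.H307.CopOne
import Cfsg.Agent.H845.CopTits
import Cfsg.Agent.H530.Final

/-!
# No coprime class sizes: the exceptional groups of Lie type (helper530, for S4158)
-/

set_option autoImplicit false
set_option linter.style.haveILetI false

namespace Cfsg.Agent.H530.ExcAll

open Cfsg Cfsg.Lie Cfsg.Agent.H530.Cop Cfsg.Agent.H530.Final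

universe u

theorem noCop_exc {G : Type u} [Group G] [Finite G] [IsSimpleGroup G] (hna : ¬ IsMulCommutative G)
    (h : IsExceptionalLieType G) : NoCop G := by
  rcases h with h | h | h | h | h | h | h | h | h | h | h
  · obtain ⟨F, _, _, h3, ⟨e⟩⟩ := h
    exact transfer hna e fun hc => ExcRows.noCop_G2 h3 hc
  · obtain ⟨F, _, _, ⟨e⟩⟩ := h
    exact transfer hna e fun hc => ExcRows.noCop_F4 hc
  · obtain ⟨F, _, _, ⟨e⟩⟩ := h
    exact transfer hna e fun hc => ExcE6.noCop_E6 hc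
  · obtain ⟨F, _, _, ⟨e⟩⟩ := h
    exact transfer hna e fun hc => ExcRows.noCop_E7 hc
  · obtain ⟨F, _, _, ⟨e⟩⟩ := h
    exact transfer hna e fun hc => ExcRows.noCop_E8 hc
  · obtain ⟨K, _, _, q, hq, hK, ⟨e⟩⟩ := h
    exact transfer hna e fun hc => ExcTE6.noCop_TE6 hq hK hc
  · obtain ⟨K, _, _, q, hq, hK, ⟨e⟩⟩ := h
    exact transfer hna e fun hc => H307.ExcNoCop.noCop_TD4 hq hK hc
  · exact H307.CopOne.noCop_sz h
  · exact H307.CopOne.noCop_ree h
  · obtain ⟨K, _, _, m, hm, hK, ⟨e⟩⟩ := h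
    exact transfer hna e fun hc => ExcTF4.noCop_TF4 hm hK hc
  · exact H845.CopTits.noCop_tits h

end Cfsg.Agent.H530.ExcAll
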