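import Cfsg.Agent.H530.ExcUntw
import Cfsg.Prelude.Def_LieTypeChar

/-!
# No coprime class sizes: the rows `G₂(q)`, `F₄(q)`, `E₇(q)`, `E₈(q)` (helper530, for S4158)
-/

set_option autoImplicit false

namespace Cfsg.Agent.H530.ExcRows

open Cfsg Cfsg.Agent.H129 Cfsg.Agent.H129.RealT
open Cfsg.Agent.H530.Cop Cfsg.Agent.H530.ExcTor Cfsg.Agent.H530.ExcUntw

variable {F : Type} [Field F] [Fintype F]

/-- `G₂(q)`, `q ≥ 3` -/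
theorem noCop_G2 (h3 : 3 ≤ Fintype.card F) [IsSimpleGroup ↥(Cfsg.Lie.chevG2.group F)]
    (hna : ¬ IsMulCommutative ↥(Cfsg.Lie.chevG2.group F)) : NoCop ↥(Cfsg.Lie.chevG2.group F) := by
  obtain ⟨q, hF⟩ : ∃ q, Fintype.card F = q := ⟨_, rfl⟩
  have hq3 : 3 ≤ q := hF ▸ h3
  obtain ⟨p, hpc⟩ := CharP.exists F
  have hpp : Fact p.Prime := ⟨CharP.char_is_prime F p⟩
  have hp : IsLieTypeChar p ↥(Cfsg.Lie.chevG2.group F) :=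
    Or.inr (Or.inr (Or.inr (Or.inr (Or.inr (Or.inr (Or.inl
      ⟨F, inferInstance, inferInstance, hpc, Or.inl ⟨h3, ⟨MulEquiv.refl _⟩⟩⟩))))))
  obtain ⟨r, T, hT, hTN⟩ := tor_G2 hF
  obtain ⟨r', T', hT', hTN'⟩ := tor_G2h hF hq3
  have hle : q ≤ q ^ 2 := by nlinarith
  have hN : ((q ^ 2 + q + 1 : ℕ) : ℤ) = 1 + (q : ℤ) + (q : ℤ) ^ 2 := by push_cast; ring
  have hN' : ((q ^ 2 - q + 1 : ℕ) : ℤ) = 1 - (q : ℤ) + (q : ℤ) ^ 2 := by push_cast [Nat.cast_sub hle]; ring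
  have h2 : ¬ 2 ∣ q ^ 2 + q + 1 := by
    rw [← even_iff_two_dvd, Nat.not_even_iff_odd]
    have e : q ^ 2 + q = q * (q + 1) := by ring
    rw [e]
    exact (Nat.even_mul_succ_self q).add_one
  have hc : (q ^ 2 + q + 1).Coprime (q ^ 2 - q + 1) :=
    coprime_bez2 (u := 1 - (q : ℤ)) (v := 1 + (q : ℤ)) (by rw [hN, hN']; ring) (Or.inl h2)
  exact noCop_of_two hna hp hT hT'
    (not_dvd_of_coprime hF (UntwData.coprime_of_eq (a := (q : ℤ) + 1) (by rw [hN]; ring)) hTN)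
    (not_dvd_of_coprime hF (UntwData.coprime_of_eq (a := (q : ℤ) - 1) (by rw [hN']; ring)) hTN')
    (Nat.Coprime.coprime_dvd_left hTN (Nat.Coprime.coprime_dvd_right hTN' hc))

/-- `F₄(q)` -/
theorem noCop_F4 [IsSimpleGroup ↥(Cfsg.Lie.chevF4.group F)]
    (hna : ¬ IsMulCommutative ↥(Cfsg.Lie.chevF4.group F)) : NoCop ↥(Cfsg.Lie.chevF4.group F) := by
  obtain ⟨q, hF⟩ : ∃ q, Fintype.card F = q := ⟨_, rfl⟩
  have hq2 : 2 ≤ q := by rw [← hF]; exact Fintype.one_lt_card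
  obtain ⟨p, hpc⟩ := CharP.exists F
  have hpp : Fact p.Prime := ⟨CharP.char_is_prime F p⟩
  have hp : IsLieTypeChar p ↥(Cfsg.Lie.chevF4.group F) :=
    Or.inr (Or.inr (Or.inr (Or.inr (Or.inr (Or.inr (Or.inl
      ⟨F, inferInstance, inferInstance, hpc, Or.inr (Or.inl ⟨MulEquiv.refl _⟩)⟩))))))
  obtain ⟨r, T, hT, hTN⟩ := tor_F4 hF
  obtain ⟨r', T', hT', hTN'⟩ := tor_F4h hF
  have h0 : q ^ 2 ≤ q ^ 4 := Nat.pow_le_pow_right (by omega) (by norm_num)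
  have hN : ((q ^ 4 + 1 : ℕ) : ℤ) = 1 + (q : ℤ) ^ 4 := by push_cast; ring
  have hN' : ((q ^ 4 - q ^ 2 + 1 : ℕ) : ℤ) = 1 - (q : ℤ) ^ 2 + (q : ℤ) ^ 4 := by
    push_cast [Nat.cast_sub h0]; ring
  have hc : (q ^ 4 + 1).Coprime (q ^ 4 - q ^ 2 + 1) :=
    coprime_bez (u := 1 - (q : ℤ) ^ 2) (v := (q : ℤ) ^ 2) (by rw [hN, hN']; ring)
  exact noCop_of_two hna hp hT hT'
    (not_dvd_of_coprime hF (UntwData.coprime_of_eq (a := (q : ℤ) ^ 3) (by rw [hN]; ring)) hTN)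
    (not_dvd_of_coprime hF (UntwData.coprime_of_eq (a := -(q : ℤ) + (q : ℤ) ^ 3) (by rw [hN']; ring)) hTN')
    (Nat.Coprime.coprime_dvd_left hTN (Nat.Coprime.coprime_dvd_right hTN' hc))

/-- `E₇(q)` -/
theorem noCop_E7 [IsSimpleGroup ↥(Cfsg.Lie.chevE7.group F)]
    (hna : ¬ IsMulCommutative ↥(Cfsg.Lie.chevE7.group F)) : NoCop ↥(Cfsg.Lie.chevE7.group F) := by
  obtain ⟨q, hF⟩ : ∃ q, Fintype.card F = q := ⟨_, rfl⟩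
  have hq2 : 2 ≤ q := by rw [← hF]; exact Fintype.one_lt_card
  obtain ⟨p, hpc⟩ := CharP.exists F
  have hpp : Fact p.Prime := ⟨CharP.char_is_prime F p⟩
  have hp : IsLieTypeChar p ↥(Cfsg.Lie.chevE7.group F) :=
    Or.inr (Or.inr (Or.inr (Or.inr (Or.inr (Or.inr (Or.inl
      ⟨F, inferInstance, inferInstance, hpc, Or.inr (Or.inr (Or.inr (Or.inl ⟨MulEquiv.refl _⟩)))⟩))))))
  have h0 : q ^ 3 ≤ q ^ 6 := Nat.pow_le_pow_right (by omega) (by norm_num)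
  have hN18 : (((q ^ 6 - q ^ 3 + 1) * (q + 1) : ℕ) : ℤ) =
      1 + (q : ℤ) - (q : ℤ) ^ 3 - (q : ℤ) ^ 4 + (q : ℤ) ^ 6 + (q : ℤ) ^ 7 := by
    push_cast [Nat.cast_sub h0]; ring
  have hN9 : (((q ^ 6 + q ^ 3 + 1) * (q - 1) : ℕ) : ℤ) =
      -1 + (q : ℤ) - (q : ℤ) ^ 3 + (q : ℤ) ^ 4 - (q : ℤ) ^ 6 + (q : ℤ) ^ 7 := by
    push_cast [Nat.cast_sub (show 1 ≤ q by omega)]; ring
  have hq18 : q.Coprime ((q ^ 6 - q ^ 3 + 1) * (q + 1)) :=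
    UntwData.coprime_of_eq (a := 1 - (q : ℤ) ^ 2 - (q : ℤ) ^ 3 + (q : ℤ) ^ 5 + (q : ℤ) ^ 6) (by rw [hN18]; ring)
  have hq9 : q.Coprime ((q ^ 6 + q ^ 3 + 1) * (q - 1)) :=
    coprime_of_neg (a := 1 - (q : ℤ) ^ 2 + (q : ℤ) ^ 3 - (q : ℤ) ^ 5 + (q : ℤ) ^ 6) (by rw [hN9]; ring)
  obtain ⟨r, r', T, T', hT, hT', hTN, hTN', hc⟩ := tor_E7 hF
  exact noCop_of_two hna hp hT hT' (not_dvd_of_coprime hF hq18 hTN) (not_dvd_of_coprime hF hq9 hTN') hc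

/-- `E₈(q)` -/
theorem noCop_E8 [IsSimpleGroup ↥(Cfsg.Lie.chevE8.group F)]
    (hna : ¬ IsMulCommutative ↥(Cfsg.Lie.chevE8.group F)) : NoCop ↥(Cfsg.Lie.chevE8.group F) := by
  obtain ⟨q, hF⟩ : ∃ q, Fintype.card F = q := ⟨_, rfl⟩
  have hq2 : 2 ≤ q := by rw [← hF]; exact Fintype.one_lt_card
  obtain ⟨p, hpc⟩ := CharP.exists F
  have hpp : Fact p.Prime := ⟨CharP.char_is_prime F p⟩
  have hp : IsLieTypeChar p ↥(Cfsg.Lie.chevE8.group F) :=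
    Or.inr (Or.inr (Or.inr (Or.inr (Or.inr (Or.inr (Or.inl
      ⟨F, inferInstance, inferInstance, hpc, Or.inr (Or.inr (Or.inr (Or.inr ⟨MulEquiv.refl _⟩)))⟩))))))
  obtain ⟨r, T, N, hT, hTN, hN⟩ := tor_E8 hF
  obtain ⟨r', T', hT', hTN'⟩ := tor_E8c hF
  have h0 : q ^ 4 ≤ q ^ 8 := Nat.pow_le_pow_right (by omega) (by norm_num)
  have hN' : ((q ^ 8 - q ^ 4 + 1 : ℕ) : ℤ) = 1 - (q : ℤ) ^ 4 + (q : ℤ) ^ 8 := by
    push_cast [Nat.cast_sub h0]; ring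
  have hc : N.Coprime (q ^ 8 - q ^ 4 + 1) :=
    coprime_bez (u := -(q : ℤ) + (q : ℤ) ^ 5 + (q : ℤ) ^ 7)
      (v := 1 + (q : ℤ) + (q : ℤ) ^ 2 - (q : ℤ) ^ 5 - (q : ℤ) ^ 6 - (q : ℤ) ^ 7) (by rw [hN, hN']; ring)
  exact noCop_of_two hna hp hT hT'
    (not_dvd_of_coprime hF (UntwData.coprime_of_eq
      (a := 1 - (q : ℤ) ^ 2 - (q : ℤ) ^ 3 - (q : ℤ) ^ 4 + (q : ℤ) ^ 6 + (q : ℤ) ^ 7) (by rw [hN]; ring)) hTN)
    (not_dvd_of_coprime hF (UntwData.coprime_of_eq (a := - (q : ℤ) ^ 3 + (q : ℤ) ^ 7) (by rw [hN']; ring)) hTN')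
    (Nat.Coprime.coprime_dvd_left hTN (Nat.Coprime.coprime_dvd_right hTN' hc))

end Cfsg.Agent.H530.ExcRows
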