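import Cfsg.Agent.H530.Cop
import Cfsg.Agent.S4613

/-!
# No coprime class sizes: groups of Lie type with two self-centralizing tori (helper530, for S4158)

* `apart_tor` : primes `r`, `r'` with tori of coprime orders are apart;
* `isPGroup_of_char` : in a simple group of Lie type in characteristic `p` the elements of class size prime to `p` are
  `p`-elements;
* `apart_char` : `p` and `r` are apart;
* `noCop_of_two` : NoCop from two tori; `noCop_of_three` : NoCop from three tori.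
-/

set_option autoImplicit false

namespace Cfsg.Agent.H530.ExcTor

open Subgroup Cfsg.Agent.H530.Cop

variable {G : Type*} [Group G]

/-- `T` has elements of order `r` and these have their centralizers in `T` -/
structure TorAt (r : ℕ) (T : Subgroup G) : Prop where
  prime : r.Prime
  dvd : r ∣ Nat.card ↥T
  cent : ∀ y ∈ T, orderOf y = r → centralizer {y} ≤ T

theorem TorAt.mem [Finite G] {r : ℕ} {T : Subgroup G} (h : TorAt r T) {g : G} (hg : ¬ r ∣ ci g) :
    ∃ a : G, a * g * a⁻¹ ∈ T := by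
  have hrf : Fact r.Prime := ⟨h.prime⟩
  obtain ⟨⟨y, hy⟩, hyr⟩ := exists_prime_orderOf_dvd_card' (G := ↥T) r h.dvd
  rw [Subgroup.orderOf_mk] at hyr
  have hU : IsPGroup r (zpowers y) := by
    refine IsPGroup.of_card (n := 1) ?_
    rw [Nat.card_zpowers, hyr, pow_one]
  obtain ⟨a, ha⟩ := exists_conj_le h.prime hg hU
  refine ⟨a, h.cent y hy hyr ?_⟩
  rw [mem_centralizer_singleton_iff]
  exact (ha y (mem_zpowers y)).symm

theorem TorAt.orderOf_dvd [Finite G] {r : ℕ} {T : Subgroup G} (h : TorAt r T) {g : G} (hg : ¬ r ∣ ci g) :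
    orderOf g ∣ Nat.card ↥T := by
  obtain ⟨a, ha⟩ := h.mem hg
  have h1 := orderOf_dvd_natCard (⟨_, ha⟩ : ↥T)
  rw [Subgroup.orderOf_mk] at h1
  have h2 : orderOf (a * g * a⁻¹) = orderOf g := orderOf_injective (MulAut.conj a).toMonoidHom
    (MulAut.conj a).injective g
  rwa [h2] at h1

theorem apart_tor [Finite G] {r r' : ℕ} {T T' : Subgroup G} (h : TorAt r T) (h' : TorAt r' T')
    (hc : (Nat.card ↥T).Coprime (Nat.card ↥T')) : Apart G r r' := by
  intro g hg
  by_contra hn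
  push Not at hn
  apply hg
  rw [← orderOf_eq_one_iff]
  exact Nat.dvd_one.1 (hc ▸ Nat.dvd_gcd (h.orderOf_dvd hn.1) (h'.orderOf_dvd hn.2))

/-- **Elements whose class size is prime to the characteristic are `p`-elements.** -/
theorem isPGroup_of_char [Finite G] [IsSimpleGroup G] (hna : ¬ IsMulCommutative G) {p : ℕ} [Fact p.Prime]
    (hp : IsLieTypeChar p G) {g : G} (hg : ¬ p ∣ ci g) : ∃ n : ℕ, g ^ p ^ n = 1 := by
  obtain ⟨U⟩ : Nonempty (Sylow p G) := inferInstance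
  obtain ⟨a, ha⟩ := exists_conj_le Fact.out hg U.2
  set h : G := a * g * a⁻¹ with hh
  -- the `p'`-part of `h`
  obtain ⟨n, m, hpm, hnm⟩ : ∃ n m : ℕ, ¬ p ∣ m ∧ orderOf h = p ^ n * m :=
    Nat.exists_eq_pow_mul_and_not_dvd (orderOf_pos h).ne' p (Fact.out : p.Prime).ne_one
  have hk : orderOf (h ^ p ^ n) = m := by
    rw [orderOf_pow_of_dvd (pow_ne_zero _ (Fact.out : p.Prime).ne_zero) ⟨m, hnm⟩, hnm]
    exact Nat.mul_div_cancel_left _ (pow_pos (Fact.out : p.Prime).pos _)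
  have h1 : (MulAut.conj (h ^ p ^ n) : MulAut G) = 1 := by
    refine S4613.result p hp _ ?_ U ?_
    · intro h2
      exact hpm (hk ▸ h2.trans (orderOf_map_dvd (MulAut.conj) _))
    · intro x hx
      rw [MulAut.conj_apply, mul_inv_eq_iff_eq_mul]
      have h3 : Commute x h := ha x hx
      exact (h3.pow_right _).symm
  have h2 : h ^ p ^ n ∈ center G := by
    rw [mem_center_iff]
    intro x
    have h3 := DFunLike.congr_fun h1 x
    rw [MulAut.conj_apply, MulAut.one_apply, mul_inv_eq_iff_eq_mul] at h3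
    exact h3.symm
  have h3 : h ^ p ^ n = 1 := by
    by_contra hne
    refine cent_ne_top hna hne (eq_top_iff.2 fun x _ => ?_)
    rw [mem_centralizer_singleton_iff]
    exact (mem_center_iff.1 h2 x)
  refine ⟨n, ?_⟩
  have h4 : (a * g * a⁻¹) ^ p ^ n = a * g ^ p ^ n * a⁻¹ := conj_pow
  rw [← hh, h3] at h4
  have h5 : a⁻¹ * (a * g ^ p ^ n * a⁻¹) * a = 1 := by rw [← h4]; group
  calc g ^ p ^ n = a⁻¹ * (a * g ^ p ^ n * a⁻¹) * a := by group
    _ = 1 := h5

theorem apart_char [Finite G] [IsSimpleGroup G] (hna : ¬ IsMulCommutative G) {p : ℕ} [Fact p.Prime]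
    (hp : IsLieTypeChar p G) {r : ℕ} {T : Subgroup G} (h : TorAt r T) (hc : ¬ p ∣ Nat.card ↥T) : Apart G p r := by
  intro g hg
  by_contra hn
  push Not at hn
  obtain ⟨n, hgn⟩ := isPGroup_of_char hna hp hn.1
  apply hg
  rw [← orderOf_eq_one_iff]
  have h1 : orderOf g ∣ p ^ n := orderOf_dvd_of_pow_eq_one hgn
  have h2 : (p ^ n).Coprime (Nat.card ↥T) :=
    Nat.Coprime.pow_left n ((Nat.Prime.coprime_iff_not_dvd Fact.out).2 hc)
  exact Nat.dvd_one.1 (h2 ▸ Nat.dvd_gcd h1 (h.orderOf_dvd hn.2))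

/-- **NoCop from three tori of pairwise coprime orders.** -/
theorem noCop_of_three [Finite G] {r₁ r₂ r₃ : ℕ} {T₁ T₂ T₃ : Subgroup G} (h₁ : TorAt r₁ T₁) (h₂ : TorAt r₂ T₂)
    (h₃ : TorAt r₃ T₃) (h12 : (Nat.card ↥T₁).Coprime (Nat.card ↥T₂)) (h23 : (Nat.card ↥T₂).Coprime (Nat.card ↥T₃))
    (h13 : (Nat.card ↥T₁).Coprime (Nat.card ↥T₃)) : NoCop G :=
  noCop_of_apart h₁.prime h₂.prime h₃.prime (apart_tor h₁ h₂ h12) (apart_tor h₂ h₃ h23) (apart_tor h₁ h₃ h13)

/-- **NoCop from two tori of coprime orders prime to the characteristic.** -/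
theorem noCop_of_two [Finite G] [IsSimpleGroup G] (hna : ¬ IsMulCommutative G) {p : ℕ} [Fact p.Prime]
    (hp : IsLieTypeChar p G) {r₁ r₂ : ℕ} {T₁ T₂ : Subgroup G} (h₁ : TorAt r₁ T₁) (h₂ : TorAt r₂ T₂)
    (hp1 : ¬ p ∣ Nat.card ↥T₁) (hp2 : ¬ p ∣ Nat.card ↥T₂) (h12 : (Nat.card ↥T₁).Coprime (Nat.card ↥T₂)) : NoCop G :=
  noCop_of_apart Fact.out h₁.prime h₂.prime (apart_char hna hp h₁ hp1) (apart_tor h₁ h₂ h12)
    (apart_char hna hp h₂ hp2)

end Cfsg.Agent.H530.ExcTor
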