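import Cfsg.Agent.H530.ExcTor
import Cfsg.Agent.H129.RealE7
import Cfsg.Agent.H129.DataE8c
import Cfsg.Agent.H129.DataF4
import Cfsg.Agent.H129.DataG2

/-!
# No coprime class sizes: `G₂(q)`, `F₄(q)`, `E₈(q)`, `E₇(q)` (helper530, for S4158)
-/

set_option autoImplicit false

namespace Cfsg.Agent.H530.ExcUntw

open Cfsg Cfsg.Agent.H129 Cfsg.Agent.Nodes.RGDChev Cfsg.Agent.H129.TorusTw Cfsg.Agent.H129.RealT
open Cfsg.Agent.H530.Cop Cfsg.Agent.H530.ExcTor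

/-! ### arithmetic -/

theorem one_of {r : ℕ} (hr : r.Prime) (h : (r : ℤ) ∣ 1) : False :=
  hr.one_lt.ne' (Nat.dvd_one.1 (by exact_mod_cast h))

theorem eq_of {r s : ℕ} (hr : r.Prime) (hs : s.Prime) (h : (r : ℤ) ∣ (s : ℤ)) : r = s :=
  (Nat.prime_dvd_prime_iff_eq hr hs).1 (by exact_mod_cast h)

theorem coprime_bez {N N' : ℕ} {u v : ℤ} (h : u * N + v * N' = 1) : N.Coprime N' := by
  rw [← Nat.isCoprime_iff_coprime]
  exact ⟨u, v, h⟩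

theorem coprime_bez2 {N N' : ℕ} {u v : ℤ} (h : u * N + v * N' = 2) (h2 : ¬ 2 ∣ N ∨ ¬ 2 ∣ N') : N.Coprime N' := by
  have hd : N.gcd N' ∣ 2 := by
    have h1 : ((N.gcd N' : ℕ) : ℤ) ∣ 2 := by
      rw [← h]
      exact dvd_add ((Int.natCast_dvd_natCast.2 (Nat.gcd_dvd_left _ _)).mul_left _)
        ((Int.natCast_dvd_natCast.2 (Nat.gcd_dvd_right _ _)).mul_left _)
    exact_mod_cast h1
  rcases (Nat.dvd_prime Nat.prime_two).1 hd with h1 | h1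
  · exact h1
  · exfalso
    rcases h2 with h2 | h2
    · exact h2 (h1 ▸ Nat.gcd_dvd_left _ _)
    · exact h2 (h1 ▸ Nat.gcd_dvd_right _ _)

/-- a prime divisor of `q² + q + 1` -/
theorem exists_prime3 {q : ℕ} (hq : 2 ≤ q) : ∃ r : ℕ, r.Prime ∧ r ∣ q ^ 2 + q + 1 ∧ r ≠ 2 ∧ r ≠ 3 := by
  have hN : ((q ^ 2 + q + 1 : ℕ) : ℤ) = (q : ℤ) ^ 2 + q + 1 := by push_cast; ring
  have hz : ∀ n : ℕ, n ∣ q ^ 2 + q + 1 → ((q : ZMod n) ^ 2 + (q : ZMod n) + 1 = 0) := by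
    intro n h
    have := zmod_of_dvd hN h
    push_cast at this
    exact this
  refine exists_prime_of ?_ ?_ ?_
  · intro h
    have h3 := hz 2 h
    generalize (q : ZMod 2) = x at h3; revert h3; revert x; decide
  · intro h
    have h3 := hz 9 h
    generalize (q : ZMod 9) = x at h3; revert h3; revert x; decide
  · nlinarith

/-- a prime divisor of `q⁴ + 1` -/
theorem exists_prime8 {q : ℕ} (hq : 2 ≤ q) : ∃ r : ℕ, r.Prime ∧ r ∣ q ^ 4 + 1 ∧ r ≠ 2 ∧ r ≠ 3 := by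
  have hN : ((q ^ 4 + 1 : ℕ) : ℤ) = (q : ℤ) ^ 4 + 1 := by push_cast; ring
  have hz : ∀ n : ℕ, n ∣ q ^ 4 + 1 → ((q : ZMod n) ^ 4 + 1 = 0) := by
    intro n h
    have := zmod_of_dvd hN h
    push_cast at this
    exact this
  have h4 : ¬ 4 ∣ q ^ 4 + 1 := by
    intro h
    have h3 := hz 4 h
    generalize (q : ZMod 4) = x at h3; revert h3; revert x; decide
  have h3' : ¬ 3 ∣ q ^ 4 + 1 := by
    intro h
    have h3 := hz 3 h
    generalize (q : ZMod 3) = x at h3; revert h3; revert x; decide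
  have h16 : 16 ≤ q ^ 4 := by
    calc 16 = 2 ^ 4 := by norm_num
      _ ≤ q ^ 4 := Nat.pow_le_pow_left hq 4
  by_contra hno
  push Not at hno
  have h1 : ∀ r : ℕ, r.Prime → r ∣ q ^ 4 + 1 → r = 2 := fun r hr hrq => by
    by_contra h2
    exact h3' ((hno r hr hrq h2) ▸ hrq)
  have h4' : q ^ 4 + 1 = 2 ^ (q ^ 4 + 1).primeFactorsList.length :=
    Nat.eq_prime_pow_of_unique_prime_dvd (by omega) fun {d} hd hd' => h1 d hd hd'
  have h5 : (q ^ 4 + 1).primeFactorsList.length < 2 := by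
    by_contra h6
    have h6' : 2 ≤ (q ^ 4 + 1).primeFactorsList.length := by omega
    apply h4
    rw [h4']
    exact pow_dvd_pow 2 h6'
  have h7 : 2 ^ (q ^ 4 + 1).primeFactorsList.length ≤ 2 := by
    interval_cases (q ^ 4 + 1).primeFactorsList.length <;> norm_num
  omega

/-- the characteristic does not divide the orders of the tori -/
theorem not_dvd_of_coprime {F : Type*} [Field F] [Fintype F] {p q N c : ℕ} [CharP F p] [hp : Fact p.Prime]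
    (hF : Fintype.card F = q) (h : q.Coprime N) (hc : c ∣ N) : ¬ p ∣ c := by
  intro h1
  have h2 : p ∣ q := by
    rw [← hF]
    exact (CharP.cast_eq_zero_iff F p (Fintype.card F)).1 (FiniteField.cast_card_eq_zero F)
  have h3 : p ∣ q.gcd N := Nat.dvd_gcd h2 (h1.trans hc)
  rw [h] at h3
  exact hp.out.one_lt.ne' (Nat.dvd_one.1 h3)

/-! ### the tori -/

universe u

variable {F : Type u} [Field F] [Fintype F]

theorem tor_G2 {q : ℕ} (hF : Fintype.card F = q) : ∃ (r : ℕ) (T : Subgroup ↥(Cfsg.Lie.chevG2.group F)),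
    TorAt r T ∧ Nat.card ↥T ∣ q ^ 2 + q + 1 := by
  have hq2 : 2 ≤ q := by rw [← hF]; exact Fintype.one_lt_card
  have hp : IsType Cfsg.Lie.chevG2 2 CoxeterMatrix.G₂ := by simp
  have hW : Nat.card CoxeterMatrix.G₂.Group = 12 :=
    Cfsg.Agent.S1092.result (⟨2, CoxeterMatrix.G₂⟩, 12) (by simp)
  have : Finite CoxeterMatrix.G₂.Group := Nat.finite_of_card_ne_zero (by rw [hW]; norm_num)
  obtain ⟨r, hr, hrN, hr2, hr3⟩ := exists_prime3 hq2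
  have hN : ((q ^ 2 + q + 1 : ℕ) : ℤ) = 1 + (q : ℤ) + (q : ℤ) ^ 2 := by push_cast; ring
  have hrq : (r : ℤ) ∣ 1 + (q : ℤ) + (q : ℤ) ^ 2 := by rw [← hN]; exact Int.natCast_dvd_natCast.2 hrN
  have hrW : ¬ r ∣ Nat.card CoxeterMatrix.G₂.Group := by
    rw [hW]
    intro h
    have h2 : (12 : ℕ) = 2 ^ 2 * 3 := by norm_num
    rw [h2] at h
    rcases (Nat.Prime.dvd_mul hr).1 h with h | h
    · exact hr2 ((Nat.prime_dvd_prime_iff_eq hr Nat.prime_two).1 (hr.dvd_of_dvd_pow h))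
    · exact hr3 ((Nat.prime_dvd_prime_iff_eq hr Nat.prime_three).1 h)
  have hG : ∀ s, ¬ (r : ℤ) ∣ Gq DataG2.B (q : ℤ) (DataG2.R s) := by
    intro s hs
    rcases DataG2.dvd_of_G hrq s hs with h1 | h1
    · exact one_of hr h1
    · exact hr3 (eq_of hr Nat.prime_three h1)
  obtain ⟨T, h1, h3, h4, h5, h6⟩ := UntwT.untw_T hp CoxeterMatrix.G₂.toCoxeterSystem (by norm_num) hF
    TorusChar.invC_G2 one_ne_zero DataG2.hA DataG2.chainOK DataG2.cycOK DataG2.rootOK (N := q ^ 2 + q + 1)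
    (by rw [DataG2.fN_eq, hN]) (UntwData.coprime_of_eq (a := (q : ℤ) + 1) (by rw [hN]; ring)) (d := 1) (Or.inl rfl)
  exact ⟨r, T, ⟨hr, dvd_of_dvd_mul hr hrN (fun h => hr.one_lt.ne' (Nat.dvd_one.1 h)) h4, h5 r hr hrW hG⟩, h3⟩

theorem tor_G2h {q : ℕ} (hF : Fintype.card F = q) (hq3 : 3 ≤ q) :
    ∃ (r : ℕ) (T : Subgroup ↥(Cfsg.Lie.chevG2.group F)), TorAt r T ∧ Nat.card ↥T ∣ q ^ 2 - q + 1 := by
  have hp : IsType Cfsg.Lie.chevG2 2 CoxeterMatrix.G₂ := by simp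
  have hW : Nat.card CoxeterMatrix.G₂.Group = 12 :=
    Cfsg.Agent.S1092.result (⟨2, CoxeterMatrix.G₂⟩, 12) (by simp)
  have : Finite CoxeterMatrix.G₂.Group := Nat.finite_of_card_ne_zero (by rw [hW]; norm_num)
  obtain ⟨r, hr, hrN, hr2, hr3⟩ := exists_prime6 hq3
  have hle : q ≤ q ^ 2 := by nlinarith
  have hN : ((q ^ 2 - q + 1 : ℕ) : ℤ) = 1 - (q : ℤ) + (q : ℤ) ^ 2 := by push_cast [Nat.cast_sub hle]; ring
  have hrq : (r : ℤ) ∣ 1 - (q : ℤ) + (q : ℤ) ^ 2 := by rw [← hN]; exact Int.natCast_dvd_natCast.2 hrN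
  have hrW : ¬ r ∣ Nat.card CoxeterMatrix.G₂.Group := by
    rw [hW]
    intro h
    have h2 : (12 : ℕ) = 2 ^ 2 * 3 := by norm_num
    rw [h2] at h
    rcases (Nat.Prime.dvd_mul hr).1 h with h | h
    · exact hr2 ((Nat.prime_dvd_prime_iff_eq hr Nat.prime_two).1 (hr.dvd_of_dvd_pow h))
    · exact hr3 ((Nat.prime_dvd_prime_iff_eq hr Nat.prime_three).1 h)
  have hG : ∀ s, ¬ (r : ℤ) ∣ Gq DataG2h.B (q : ℤ) (DataG2h.R s) := by
    intro s hs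
    rcases DataG2h.dvd_of_G hrq s hs with h1 | h1
    · exact one_of hr h1
    · exact hr3 (eq_of hr Nat.prime_three h1)
  obtain ⟨T, h1, h3, h4, h5, h6⟩ := UntwT.untw_T hp CoxeterMatrix.G₂.toCoxeterSystem (by norm_num) hF
    TorusChar.invC_G2 one_ne_zero DataG2h.hA DataG2h.chainOK DataG2h.cycOK DataG2h.rootOK (N := q ^ 2 - q + 1)
    (by rw [DataG2h.fN_eq, hN]) (UntwData.coprime_of_eq (a := (q : ℤ) - 1) (by rw [hN]; ring)) (d := 1) (Or.inl rfl)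
  exact ⟨r, T, ⟨hr, dvd_of_dvd_mul hr hrN (fun h => hr.one_lt.ne' (Nat.dvd_one.1 h)) h4, h5 r hr hrW hG⟩, h3⟩

theorem tor_F4 {q : ℕ} (hF : Fintype.card F = q) : ∃ (r : ℕ) (T : Subgroup ↥(Cfsg.Lie.chevF4.group F)),
    TorAt r T ∧ Nat.card ↥T ∣ q ^ 4 + 1 := by
  have hq2 : 2 ≤ q := by rw [← hF]; exact Fintype.one_lt_card
  have hp : IsType Cfsg.Lie.chevF4 4 CoxeterMatrix.F₄ := by simp
  have hW : Nat.card CoxeterMatrix.F₄.Group = 1152 :=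
    Cfsg.Agent.S1092.result (⟨4, CoxeterMatrix.F₄⟩, 1152) (by simp)
  have : Finite CoxeterMatrix.F₄.Group := Nat.finite_of_card_ne_zero (by rw [hW]; norm_num)
  obtain ⟨r, hr, hrN, hr2, hr3⟩ := exists_prime8 hq2
  have hN : ((q ^ 4 + 1 : ℕ) : ℤ) = 1 + (q : ℤ) ^ 4 := by push_cast; ring
  have hrq : (r : ℤ) ∣ 1 + (q : ℤ) ^ 4 := by rw [← hN]; exact Int.natCast_dvd_natCast.2 hrN
  have hrW : ¬ r ∣ Nat.card CoxeterMatrix.F₄.Group := by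
    rw [hW]
    intro h
    have h2 : (1152 : ℕ) = 2 ^ 7 * 3 ^ 2 := by norm_num
    rw [h2] at h
    rcases (Nat.Prime.dvd_mul hr).1 h with h | h
    · exact hr2 ((Nat.prime_dvd_prime_iff_eq hr Nat.prime_two).1 (hr.dvd_of_dvd_pow h))
    · exact hr3 ((Nat.prime_dvd_prime_iff_eq hr Nat.prime_three).1 (hr.dvd_of_dvd_pow h))
  have hG : ∀ s, ¬ (r : ℤ) ∣ Gq DataF4.B (q : ℤ) (DataF4.R s) := by
    intro s hs
    rcases DataF4.dvd_of_G hrq s hs with h1 | h1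
    · exact one_of hr h1
    · exact hr2 (eq_of hr Nat.prime_two h1)
  obtain ⟨T, h1, h3, h4, h5, h6⟩ := UntwT.untw_T hp CoxeterMatrix.F₄.toCoxeterSystem (by norm_num) hF
    TorusChar.invC_F4 one_ne_zero DataF4.hA DataF4.chainOK DataF4.cycOK DataF4.rootOK (N := q ^ 4 + 1)
    (by rw [DataF4.fN_eq, hN]) (UntwData.coprime_of_eq (a := (q : ℤ) ^ 3) (by rw [hN]; ring)) (d := 1)
    (Or.inl rfl)
  exact ⟨r, T, ⟨hr, dvd_of_dvd_mul hr hrN (fun h => hr.one_lt.ne' (Nat.dvd_one.1 h)) h4, h5 r hr hrW hG⟩, h3⟩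

theorem tor_F4h {q : ℕ} (hF : Fintype.card F = q) : ∃ (r : ℕ) (T : Subgroup ↥(Cfsg.Lie.chevF4.group F)),
    TorAt r T ∧ Nat.card ↥T ∣ q ^ 4 - q ^ 2 + 1 := by
  have hq2 : 2 ≤ q := by rw [← hF]; exact Fintype.one_lt_card
  have hp : IsType Cfsg.Lie.chevF4 4 CoxeterMatrix.F₄ := by simp
  have hW : Nat.card CoxeterMatrix.F₄.Group = 1152 :=
    Cfsg.Agent.S1092.result (⟨4, CoxeterMatrix.F₄⟩, 1152) (by simp)
  have : Finite CoxeterMatrix.F₄.Group := Nat.finite_of_card_ne_zero (by rw [hW]; norm_num)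
  have h0 : q ^ 2 ≤ q ^ 4 := Nat.pow_le_pow_right (by omega) (by norm_num)
  have hN : ((q ^ 4 - q ^ 2 + 1 : ℕ) : ℤ) = 1 - (q : ℤ) ^ 2 + (q : ℤ) ^ 4 := by
    push_cast [Nat.cast_sub h0]; ring
  obtain ⟨r, hr, hrq, hr2, hr3, hr5, hr7⟩ := S2373.exists_prime hq2
  have hrN : r ∣ q ^ 4 - q ^ 2 + 1 := by
    have h1 := hrq
    rw [← hN] at h1
    exact Int.natCast_dvd_natCast.1 h1
  have hrW : ¬ r ∣ Nat.card CoxeterMatrix.F₄.Group := by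
    rw [hW, show (1152 : ℕ) = 2 ^ 7 * 3 ^ 2 * 5 ^ 0 * 7 ^ 0 by norm_num]
    exact not_dvd_of hr hr2 hr3 hr5 hr7
  have hG : ∀ s, ¬ (r : ℤ) ∣ Gq DataF4h.B (q : ℤ) (DataF4h.R s) := by
    intro s hs
    rcases DataF4h.dvd_of_G hrq s hs with h1 | h1
    · exact one_of hr h1
    · exact hr2 (eq_of hr Nat.prime_two h1)
  obtain ⟨T, h1, h3, h4, h5, h6⟩ := UntwT.untw_T hp CoxeterMatrix.F₄.toCoxeterSystem (by norm_num) hF
    TorusChar.invC_F4 one_ne_zero DataF4h.hA DataF4h.chainOK DataF4h.cycOK DataF4h.rootOK (N := q ^ 4 - q ^ 2 + 1)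
    (by rw [DataF4h.fN_eq, hN]) (UntwData.coprime_of_eq (a := -(q : ℤ) + (q : ℤ) ^ 3) (by rw [hN]; ring)) (d := 1)
    (Or.inl rfl)
  exact ⟨r, T, ⟨hr, dvd_of_dvd_mul hr hrN (fun h => hr.one_lt.ne' (Nat.dvd_one.1 h)) h4, h5 r hr hrW hG⟩, h3⟩

theorem cardW_E8 : Nat.card CoxeterMatrix.E₈.Group = 696729600 :=
  Cfsg.Agent.S1093.result (⟨8, CoxeterMatrix.E₈⟩, 696729600) (by simp)

theorem not_dvd_W8 {r : ℕ} (hr : r.Prime) (h2 : r ≠ 2) (h3 : r ≠ 3) (h5 : r ≠ 5) (h7 : r ≠ 7) :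
    ¬ r ∣ Nat.card CoxeterMatrix.E₈.Group := by
  rw [cardW_E8, show (696729600 : ℕ) = 2 ^ 14 * 3 ^ 5 * 5 ^ 2 * 7 ^ 1 by norm_num]
  exact not_dvd_of hr h2 h3 h5 h7

theorem tor_E8 {q : ℕ} (hF : Fintype.card F = q) : ∃ (r : ℕ) (T : Subgroup ↥(Cfsg.Lie.chevE8.group F)) (N : ℕ),
    TorAt r T ∧ Nat.card ↥T ∣ N ∧
      (N : ℤ) = 1 + (q : ℤ) - (q : ℤ) ^ 3 - (q : ℤ) ^ 4 - (q : ℤ) ^ 5 + (q : ℤ) ^ 7 + (q : ℤ) ^ 8 := by
  have hq2 : 2 ≤ q := by rw [← hF]; exact Fintype.one_lt_card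
  have hp : IsType Cfsg.Lie.chevE8 8 CoxeterMatrix.E₈ := by simp
  have : Finite CoxeterMatrix.E₈.Group := Nat.finite_of_card_ne_zero (by rw [cardW_E8]; norm_num)
  obtain ⟨N, hN, hN1⟩ := exists_N30 hq2
  obtain ⟨r, hr, hrN⟩ := Nat.exists_prime_and_dvd hN1
  have hz : ∀ n : ℕ, n ∣ N → (1 + (q : ZMod n) - (q : ZMod n) ^ 3 - (q : ZMod n) ^ 4 - (q : ZMod n) ^ 5 +
      (q : ZMod n) ^ 7 + (q : ZMod n) ^ 8 = 0) := by
    intro n h
    have := zmod_of_dvd hN h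
    push_cast at this
    exact this
  have hrq : (r : ℤ) ∣ 1 + (q : ℤ) - (q : ℤ) ^ 3 - (q : ℤ) ^ 4 - (q : ℤ) ^ 5 + (q : ℤ) ^ 7 + (q : ℤ) ^ 8 := by
    rw [← hN]; exact Int.natCast_dvd_natCast.2 hrN
  have hr2 : r ≠ 2 := by
    rintro rfl
    have h3 := hz 2 hrN
    generalize (q : ZMod 2) = x at h3; revert h3; revert x; decide
  have hr3 : r ≠ 3 := by
    rintro rfl
    have h3 := hz 3 hrN
    generalize (q : ZMod 3) = x at h3; revert h3; revert x; decide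
  have hr5 : r ≠ 5 := by
    rintro rfl
    have h3 := hz 5 hrN
    generalize (q : ZMod 5) = x at h3; revert h3; revert x; decide
  have hr7 : r ≠ 7 := by
    rintro rfl
    have h3 := hz 7 hrN
    generalize (q : ZMod 7) = x at h3; revert h3; revert x; decide
  have hrW := not_dvd_W8 hr hr2 hr3 hr5 hr7
  have hG : ∀ s, ¬ (r : ℤ) ∣ Gq DataE8.B (q : ℤ) (DataE8.R s) := by
    intro s hs
    exact one_of hr (DataE8.dvd_of_G hrq s hs)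
  obtain ⟨T, h1, h3, h4, h5, h6⟩ := UntwT.untw_T hp CoxeterMatrix.E₈.toCoxeterSystem (by norm_num) hF
    TorusChar.invC_E8 one_ne_zero DataE8.hA DataE8.chainOK DataE8.cycOK DataE8.rootOK (N := N)
    (by rw [DataE8.fN_eq, hN]) (UntwData.coprime_of_eq
      (a := 1 - (q : ℤ) ^ 2 - (q : ℤ) ^ 3 - (q : ℤ) ^ 4 + (q : ℤ) ^ 6 + (q : ℤ) ^ 7) (by rw [hN]; ring)) (d := 1)
    (Or.inl rfl)
  exact ⟨r, T, N, ⟨hr, dvd_of_dvd_mul hr hrN (fun h => hr.one_lt.ne' (Nat.dvd_one.1 h)) h4, h5 r hr hrW hG⟩, h3, hN⟩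

theorem tor_E8c {q : ℕ} (hF : Fintype.card F = q) : ∃ (r : ℕ) (T : Subgroup ↥(Cfsg.Lie.chevE8.group F)),
    TorAt r T ∧ Nat.card ↥T ∣ q ^ 8 - q ^ 4 + 1 := by
  have hq2 : 2 ≤ q := by rw [← hF]; exact Fintype.one_lt_card
  have hp : IsType Cfsg.Lie.chevE8 8 CoxeterMatrix.E₈ := by simp
  have : Finite CoxeterMatrix.E₈.Group := Nat.finite_of_card_ne_zero (by rw [cardW_E8]; norm_num)
  have h0 : q ^ 4 ≤ q ^ 8 := Nat.pow_le_pow_right (by omega) (by norm_num)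
  have hN : ((q ^ 8 - q ^ 4 + 1 : ℕ) : ℤ) = 1 - (q : ℤ) ^ 4 + (q : ℤ) ^ 8 := by
    push_cast [Nat.cast_sub h0]; ring
  have hN1 : q ^ 8 - q ^ 4 + 1 ≠ 1 := by
    have h2 : q ^ 8 = q ^ 4 * q ^ 4 := by ring
    have h3 : 2 ≤ q ^ 4 := by
      calc 2 ≤ 2 ^ 4 := by norm_num
        _ ≤ q ^ 4 := Nat.pow_le_pow_left hq2 4
    have h4 : 2 * q ^ 4 ≤ q ^ 8 := by rw [h2]; exact Nat.mul_le_mul_right _ h3
    omega
  obtain ⟨r, hr, hrN⟩ := Nat.exists_prime_and_dvd hN1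
  have hz : ∀ n : ℕ, n ∣ q ^ 8 - q ^ 4 + 1 → (1 - (q : ZMod n) ^ 4 + (q : ZMod n) ^ 8 = 0) := by
    intro n h
    have := zmod_of_dvd hN h
    push_cast at this
    exact this
  have hrq : (r : ℤ) ∣ 1 - (q : ℤ) ^ 4 + (q : ℤ) ^ 8 := by
    rw [← hN]; exact Int.natCast_dvd_natCast.2 hrN
  have hr2 : r ≠ 2 := by
    rintro rfl
    have h3 := hz 2 hrN
    generalize (q : ZMod 2) = x at h3; revert h3; revert x; decide
  have hr3 : r ≠ 3 := by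
    rintro rfl
    have h3 := hz 3 hrN
    generalize (q : ZMod 3) = x at h3; revert h3; revert x; decide
  have hr5 : r ≠ 5 := by
    rintro rfl
    have h3 := hz 5 hrN
    generalize (q : ZMod 5) = x at h3; revert h3; revert x; decide
  have hr7 : r ≠ 7 := by
    rintro rfl
    have h3 := hz 7 hrN
    generalize (q : ZMod 7) = x at h3; revert h3; revert x; decide
  have hrW := not_dvd_W8 hr hr2 hr3 hr5 hr7
  have hG : ∀ s, ¬ (r : ℤ) ∣ Gq DataE8c.B (q : ℤ) (DataE8c.R s) := by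
    intro s hs
    rcases DataE8c.dvd_of_G hrq s hs with h1 | h1 | h1
    · exact one_of hr h1
    · exact hr2 (eq_of hr Nat.prime_two h1)
    · exact hr3 (eq_of hr Nat.prime_three h1)
  obtain ⟨T, h1, h3, h4, h5, h6⟩ := UntwT.untw_T hp CoxeterMatrix.E₈.toCoxeterSystem (by norm_num) hF
    TorusChar.invC_E8 one_ne_zero DataE8c.hA DataE8c.chainOK DataE8c.cycOK DataE8c.rootOK (N := q ^ 8 - q ^ 4 + 1)
    (by rw [DataE8c.fN_eq, hN]) (UntwData.coprime_of_eq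
      (a := - (q : ℤ) ^ 3 + (q : ℤ) ^ 7) (by rw [hN]; ring)) (d := 1)
    (Or.inl rfl)
  exact ⟨r, T, ⟨hr, dvd_of_dvd_mul hr hrN (fun h => hr.one_lt.ne' (Nat.dvd_one.1 h)) h4, h5 r hr hrW hG⟩, h3⟩

/-- the two tori of `E₇(q)` -/
theorem tor_E7 {q : ℕ} (hF : Fintype.card F = q) : ∃ (r r' : ℕ) (T T' : Subgroup ↥(Cfsg.Lie.chevE7.group F)),
    TorAt r T ∧ TorAt r' T' ∧ Nat.card ↥T ∣ (q ^ 6 - q ^ 3 + 1) * (q + 1) ∧
      Nat.card ↥T' ∣ (q ^ 6 + q ^ 3 + 1) * (q - 1) ∧ (Nat.card ↥T).Coprime (Nat.card ↥T') := by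
  have hq2 : 2 ≤ q := by rw [← hF]; exact Fintype.one_lt_card
  have hp : IsType Cfsg.Lie.chevE7 7 CoxeterMatrix.E₇ := by simp
  have : Finite CoxeterMatrix.E₇.Group := Nat.finite_of_card_ne_zero (by rw [cardW_E7]; norm_num)
  have h0 : q ^ 3 ≤ q ^ 6 := Nat.pow_le_pow_right (by omega) (by norm_num)
  have hN18 : (((q ^ 6 - q ^ 3 + 1) * (q + 1) : ℕ) : ℤ) =
      1 + (q : ℤ) - (q : ℤ) ^ 3 - (q : ℤ) ^ 4 + (q : ℤ) ^ 6 + (q : ℤ) ^ 7 := by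
    push_cast [Nat.cast_sub h0]; ring
  have hN9 : (((q ^ 6 + q ^ 3 + 1) * (q - 1) : ℕ) : ℤ) =
      -1 + (q : ℤ) - (q : ℤ) ^ 3 + (q : ℤ) ^ 4 - (q : ℤ) ^ 6 + (q : ℤ) ^ 7 := by
    push_cast [Nat.cast_sub (show 1 ≤ q by omega)]; ring
  have hodd18 : ¬ 2 ∣ q ^ 6 - q ^ 3 + 1 := by
    rw [← even_iff_two_dvd, Nat.not_even_iff_odd]
    refine (Nat.even_sub h0 |>.2 ?_).add_one
    simp [Nat.even_pow]
  have hodd9 : ¬ 2 ∣ q ^ 6 + q ^ 3 + 1 := by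
    rw [← even_iff_two_dvd, Nat.not_even_iff_odd]
    refine (Nat.even_add.2 ?_).add_one
    simp [Nat.even_pow]
  have hq18 : q.Coprime ((q ^ 6 - q ^ 3 + 1) * (q + 1)) :=
    UntwData.coprime_of_eq (a := 1 - (q : ℤ) ^ 2 - (q : ℤ) ^ 3 + (q : ℤ) ^ 5 + (q : ℤ) ^ 6) (by rw [hN18]; ring)
  have hq9 : q.Coprime ((q ^ 6 + q ^ 3 + 1) * (q - 1)) :=
    coprime_of_neg (a := 1 - (q : ℤ) ^ 2 + (q : ℤ) ^ 3 - (q : ℤ) ^ 5 + (q : ℤ) ^ 6) (by rw [hN9]; ring)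
  obtain ⟨r, hr, hr18, hrq, hr2, hr3, hr5, hr7⟩ := exists_prime18 hq2
  obtain ⟨s, hs, hs9, hsq, hs2, hs3, hs5, hs7⟩ := exists_prime9 hq2
  have hrW := not_dvd_W7 hr hr2 hr3 hr5 hr7
  have hsW := not_dvd_W7 hs hs2 hs3 hs5 hs7
  have hrG : ∀ s, ¬ (r : ℤ) ∣ Gq DataE7h.B (q : ℤ) (DataE7h.R s) := by
    intro s hs
    rcases DataE7h.dvd_of_G hrq s hs with h1 | h1
    · exact one_of hr h1
    · exact hr3 (eq_of hr Nat.prime_three h1)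
  have hsG : ∀ t, ¬ (s : ℤ) ∣ Gq DataE7n.B (q : ℤ) (DataE7n.R t) := by
    intro t ht
    rcases DataE7n.dvd_of_G hsq t ht with h1 | h1
    · exact one_of hs h1
    · exact hs3 (eq_of hs Nat.prime_three h1)
  have hbez : (-1 - (q : ℤ) - (q : ℤ) ^ 2) * (((q ^ 6 + q ^ 3 + 1) * (q - 1) : ℕ) : ℤ) +
      (1 - (q : ℤ) + (q : ℤ) ^ 2) * (((q ^ 6 - q ^ 3 + 1) * (q + 1) : ℕ) : ℤ) = 2 := by
    rw [hN9, hN18]; ring
  rcases Nat.even_or_odd q with he | ho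
  · -- `q` even
    obtain ⟨T, h1, h3, h4, h5, h6⟩ := UntwT.untw_T hp CoxeterMatrix.E₇.toCoxeterSystem (by norm_num) hF
      TorusChar.invC_E7 (by norm_num) DataE7h.hA DataE7h.chainOK DataE7h.cycOK DataE7h.rootOK
      (N := (q ^ 6 - q ^ 3 + 1) * (q + 1))
      (by rw [DataE7h.fN_eq, hN18]) hq18 (d := 1) (Or.inr ⟨rfl, sq_surj hF he⟩)
    obtain ⟨T', h1', h3', h4', h5', h6'⟩ := UntwT.untw_T hp CoxeterMatrix.E₇.toCoxeterSystem (by norm_num) hF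
      TorusChar.invC_E7 (by norm_num) DataE7n.hA DataE7n.chainOK DataE7n.cycOK DataE7n.rootOK
      (N := (q ^ 6 + q ^ 3 + 1) * (q - 1))
      (by rw [DataE7n.fN_eq, hN9]) hq9 (d := 1) (Or.inr ⟨rfl, sq_surj hF he⟩)
    refine ⟨r, s, T, T', ⟨hr, dvd_of_dvd_mul hr (hr18.mul_right _) (fun h => hr.one_lt.ne' (Nat.dvd_one.1 h)) h4,
      h5 r hr hrW hrG⟩, ⟨hs, dvd_of_dvd_mul hs (hs9.mul_right _) (fun h => hs.one_lt.ne' (Nat.dvd_one.1 h)) h4',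
      h5' s hs hsW hsG⟩, h3, h3', ?_⟩
    have h7 : ((q ^ 6 + q ^ 3 + 1) * (q - 1)).Coprime ((q ^ 6 - q ^ 3 + 1) * (q + 1)) := by
      refine coprime_bez2 hbez (Or.inr fun h => ?_)
      rcases (Nat.Prime.dvd_mul Nat.prime_two).1 h with h | h
      · exact hodd18 h
      · obtain ⟨m, hm⟩ := he
        omega
    exact (Nat.Coprime.coprime_dvd_left h3' (Nat.Coprime.coprime_dvd_right h3 h7)).symm
  · obtain ⟨T, h1, h3, h5, h6⟩ := HalfT.half_E7 hF ho hp DataE7h.hA DataE7h.chainOK DataE7h.cycOK DataE7h.rootOK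
      (N := (q ^ 6 - q ^ 3 + 1) * (q + 1)) (by rw [DataE7h.fN_eq, hN18]) hq18
    obtain ⟨T', h1', h3', h5', h6'⟩ := HalfT.half_E7 hF ho hp DataE7n.hA DataE7n.chainOK DataE7n.cycOK DataE7n.rootOK
      (N := (q ^ 6 + q ^ 3 + 1) * (q - 1)) (by rw [DataE7n.fN_eq, hN9]) hq9
    have hd : Nat.card ↥T ∣ (q ^ 6 - q ^ 3 + 1) * (q + 1) := by rw [← h3]; exact dvd_mul_left _ _
    have hd' : Nat.card ↥T' ∣ (q ^ 6 + q ^ 3 + 1) * (q - 1) := by rw [← h3']; exact dvd_mul_left _ _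
    refine ⟨r, s, T, T', ⟨hr, dvd_of_dvd_mul hr (hr18.mul_right (q + 1)) (d := 2) (fun h =>
        hr2 ((Nat.prime_dvd_prime_iff_eq hr Nat.prime_two).1 h)) (by rw [h3]),
      h5 r hr hrW hrG⟩, ⟨hs, dvd_of_dvd_mul hs (hs9.mul_right (q - 1)) (d := 2) (fun h =>
        hs2 ((Nat.prime_dvd_prime_iff_eq hs Nat.prime_two).1 h)) (by rw [h3']),
      h5' s hs hsW hsG⟩, hd, hd', ?_⟩
    have h8 : (-1 - (q : ℤ) - (q : ℤ) ^ 2) * ((Nat.card ↥T' : ℕ) : ℤ) +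
        (1 - (q : ℤ) + (q : ℤ) ^ 2) * ((Nat.card ↥T : ℕ) : ℤ) = 1 := by
      rw [← h3, ← h3'] at hbez
      push_cast at hbez
      linarith
    exact (coprime_bez h8).symm

end Cfsg.Agent.H530.ExcUntw
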