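import Cfsg.Agent.H530.LinTools

/-!
# Radicals of flags `⟨v⟩ ≤ ker f` (helper530, for S4158)

`φ : K →* Matrix ι ι F` a representation. `U φ v f` is the subgroup of the `u ∈ K` with `(φ u - 1) V ≤ ker f`,
`(φ u - 1) ker f ≤ ⟨v⟩`, `(φ u - 1) v = 0`. If `φ` is injective and `F` has characteristic `p` it has exponent `p ^ 2`.
-/

set_option autoImplicit false
set_option linter.unusedSectionVars false

namespace Cfsg.Agent.H530.Flag

open Matrix Subgroup Cfsg.Agent.H530.Cop Cfsg.Agent.H530.LinTools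

variable {F : Type*} [Field F] {ι : Type*} [Fintype ι] [DecidableEq ι] {K : Type*} [Group K] (φ : K →* Matrix ι ι F)

theorem mul_mulVec (a b : K) (w : ι → F) : φ (a * b) *ᵥ w = φ a *ᵥ (φ b *ᵥ w) := by
  rw [map_mul, mulVec_mulVec]

theorem one_mulVec' (w : ι → F) : φ 1 *ᵥ w = w := by
  rw [map_one, one_mulVec]

theorem inv_mulVec (a : K) (w : ι → F) : φ a⁻¹ *ᵥ (φ a *ᵥ w) = w := by
  rw [← mul_mulVec, inv_mul_cancel, one_mulVec']

theorem mulVec_inv (a : K) (w : ι → F) : φ a *ᵥ (φ a⁻¹ *ᵥ w) = w := by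
  rw [← mul_mulVec, mul_inv_cancel, one_mulVec']

theorem scalar_mulVec (c : F) (w : ι → F) : scalar ι c *ᵥ w = c • w := by
  rw [scalar_apply]
  ext i
  rw [mulVec_diagonal]
  rfl

/-- equality of matrices from equality of the actions -/
theorem ext_mulVec {A B : Matrix ι ι F} (h : ∀ w, A *ᵥ w = B *ᵥ w) : A = B := by
  ext i j
  have := congrFun (h (Pi.single j 1)) i
  rw [mulVec_single_one, mulVec_single_one] at this
  exact this

/-- The radical of the stabilizer of `⟨v⟩ ≤ ker f`. -/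
def U (v f : ι → F) : Subgroup K where
  carrier := {u | (∀ w, f ⬝ᵥ (φ u *ᵥ w - w) = 0) ∧ (∀ w, f ⬝ᵥ w = 0 → ∃ c : F, φ u *ᵥ w - w = c • v) ∧ φ u *ᵥ v = v}
  one_mem' := by
    refine ⟨fun w => ?_, fun w _ => ⟨0, ?_⟩, ?_⟩ <;> simp
  mul_mem' := by
    rintro a b ⟨ha1, ha2, ha3⟩ ⟨hb1, hb2, hb3⟩
    refine ⟨fun w => ?_, fun w hw => ?_, ?_⟩
    · have h1 := ha1 (φ b *ᵥ w)
      have h2 := hb1 w
      rw [mul_mulVec, show φ a *ᵥ (φ b *ᵥ w) - w = (φ a *ᵥ (φ b *ᵥ w) - φ b *ᵥ w) + (φ b *ᵥ w - w) by abel,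
        dotProduct_add, h1, h2, add_zero]
    · obtain ⟨c, hc⟩ := hb2 w hw
      obtain ⟨d, hd⟩ := ha2 w hw
      refine ⟨c + d, ?_⟩
      have h1 : φ b *ᵥ w = c • v + w := by rw [← hc]; abel
      have h2 : φ a *ᵥ w = d • v + w := by rw [← hd]; abel
      rw [mul_mulVec, h1, mulVec_add, mulVec_smul, ha3, h2, add_smul]
      abel
    · rw [mul_mulVec, hb3, ha3]
  inv_mem' := by
    rintro a ⟨ha1, ha2, ha3⟩
    have h3 : φ a⁻¹ *ᵥ v = v := by
      have := inv_mulVec φ a v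
      rwa [ha3] at this
    refine ⟨fun w => ?_, fun w hw => ?_, h3⟩
    · have h1 := ha1 (φ a⁻¹ *ᵥ w)
      rw [mulVec_inv] at h1
      rw [← neg_sub, dotProduct_neg, h1, neg_zero]
    · obtain ⟨c, hc⟩ := ha2 w hw
      refine ⟨-c, ?_⟩
      have h1 : φ a *ᵥ w = c • v + w := by rw [← hc]; abel
      have h2 : w = c • v + φ a⁻¹ *ᵥ w := by
        have := inv_mulVec φ a w
        rw [h1, mulVec_add, mulVec_smul, h3] at this
        exact this.symm
      rw [neg_smul]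
      nth_rewrite 2 [h2]
      abel

variable {φ}

theorem mem_U {v f : ι → F} {u : K} : u ∈ U φ v f ↔
    (∀ w, f ⬝ᵥ (φ u *ᵥ w - w) = 0) ∧ (∀ w, f ⬝ᵥ w = 0 → ∃ c : F, φ u *ᵥ w - w = c • v) ∧ φ u *ᵥ v = v := Iff.rfl

theorem pow_eq_one {p : ℕ} [Fact p.Prime] [CharP F p] (hφ : Function.Injective φ) {v f : ι → F} {u : K}
    (hu : u ∈ U φ v f) : u ^ p ^ 2 = 1 := by
  obtain ⟨h1, h2, h3⟩ := hu
  apply hφ
  rw [map_pow, map_one]
  refine pow_of_cube (ext_mulVec fun w => ?_)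
  rw [pow_succ', pow_two, ← mulVec_mulVec, ← mulVec_mulVec, zero_mulVec]
  have e1 : (φ u - 1) *ᵥ w = φ u *ᵥ w - w := by rw [sub_mulVec, one_mulVec]
  obtain ⟨c, hc⟩ := h2 _ (h1 w)
  have e2 : (φ u - 1) *ᵥ ((φ u - 1) *ᵥ w) = c • v := by
    rw [e1, sub_mulVec, one_mulVec, hc]
  rw [e2, mulVec_smul, sub_mulVec, one_mulVec, h3, sub_self, smul_zero]

/-- the image of `U` in `K ⧸ center K` is a `p`-group -/
theorem isPGroup_map {p : ℕ} [Fact p.Prime] [CharP F p] (hφ : Function.Injective φ) (v f : ι → F) :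
    IsPGroup p ((U φ v f).map (QuotientGroup.mk' (center K))) := by
  rintro ⟨a, ha⟩
  obtain ⟨u, hu, rfl⟩ := mem_map.1 ha
  refine ⟨2, Subtype.ext ?_⟩
  change (QuotientGroup.mk' (center K) u) ^ p ^ 2 = 1
  rw [← map_pow, pow_eq_one hφ hu, map_one]

/-- a central element with scalar matrix has no `p`-torsion -/
theorem torsion_free {p : ℕ} [Fact p.Prime] [CharP F p] (hφ : Function.Injective φ) {z : K} {c : F}
    (hz : φ z = scalar ι c) {k : ℕ} (h : z ^ p ^ k = 1) : z = 1 := by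
  apply hφ
  rcases isEmpty_or_nonempty ι with he | ⟨⟨i⟩⟩
  · exact Subsingleton.elim _ _
  have h1 : scalar ι (c ^ p ^ k) = scalar ι 1 := by
    rw [map_pow, ← hz, ← map_pow, h, map_one, map_one]
  have h2 : c ^ p ^ k = 1 := by
    have := congrFun (congrFun h1 i) i
    simpa using this
  have h3 : (c - 1) ^ p ^ k = 0 := by
    rw [sub_pow_char_pow, h2, one_pow, sub_self]
  have h4 : c = 1 := sub_eq_zero.1 (pow_eq_zero_iff (pow_pos (Fact.out : p.Prime).pos k).ne' |>.1 h3)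
  rw [hz, h4, map_one, map_one]

end Cfsg.Agent.H530.Flag
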