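import Cfsg.Agent.H530.Chain

/-!
# Bilinear forms given by matrices (helper530, for S4158)

`bf J u v = u ⬝ᵥ J v`; double annihilators; elements `1 + a ⊗ b + c ⊗ d`.
-/

set_option autoImplicit false
set_option linter.unusedSectionVars false

namespace Cfsg.Agent.H530.Form

open Matrix Subgroup Cfsg.Agent.H530.Cop Cfsg.Agent.H530.LinTools Cfsg.Agent.H530.Flag

variable {F : Type*} [Field F] {ι : Type*} [Fintype ι] [DecidableEq ι]

/-- the bilinear form with matrix `J` -/
def bf (J : Matrix ι ι F) (u v : ι → F) : F := u ⬝ᵥ (J *ᵥ v)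

section

variable (J : Matrix ι ι F) (u v w : ι → F) (c : F)

theorem add_left : bf J (u + v) w = bf J u w + bf J v w := by unfold bf; rw [add_dotProduct]

theorem add_right : bf J u (v + w) = bf J u v + bf J u w := by unfold bf; rw [mulVec_add, dotProduct_add]

theorem sub_left : bf J (u - v) w = bf J u w - bf J v w := by unfold bf; rw [sub_dotProduct]

theorem sub_right : bf J u (v - w) = bf J u v - bf J u w := by unfold bf; rw [mulVec_sub, dotProduct_sub]

theorem neg_left : bf J (-u) w = -bf J u w := by unfold bf; rw [neg_dotProduct]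

theorem neg_right : bf J u (-w) = -bf J u w := by unfold bf; rw [mulVec_neg, dotProduct_neg]

theorem smul_left : bf J (c • u) w = c * bf J u w := by unfold bf; rw [smul_dotProduct, smul_eq_mul]

theorem smul_right : bf J u (c • w) = c * bf J u w := by unfold bf; rw [mulVec_smul, dotProduct_smul, smul_eq_mul]

theorem zero_left : bf J 0 w = 0 := by unfold bf; rw [zero_dotProduct]

theorem zero_right : bf J w 0 = 0 := by unfold bf; rw [mulVec_zero, dotProduct_zero]

theorem vecMul_eq : (u ᵥ* J) ⬝ᵥ w = bf J u w := by unfold bf; rw [dotProduct_mulVec]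

end

/-- the orthogonal space -/
def perp (J : Matrix ι ι F) (e : ι → F) : Submodule F (ι → F) where
  carrier := {w | bf J e w = 0}
  add_mem' := fun {a b} ha hb => by
    change bf J e a = 0 at ha
    change bf J e b = 0 at hb
    change bf J e (a + b) = 0
    rw [add_right, ha, hb, add_zero]
  zero_mem' := zero_right J e
  smul_mem' := fun c w hw => by
    change bf J e w = 0 at hw
    change bf J e (c • w) = 0
    rw [smul_right, hw, mul_zero]

theorem mem_perp {J : Matrix ι ι F} {e w : ι → F} : w ∈ perp J e ↔ bf J e w = 0 := Iff.rfl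

/-- non-degenerate forms -/
def ND (J : Matrix ι ι F) : Prop := ∀ u, (∀ v, bf J v u = 0) → u = 0

theorem exists_ne_zero {J : Matrix ι ι F} (hJ : ND J) {u : ι → F} (hu : u ≠ 0) : ∃ v, bf J v u ≠ 0 := by
  by_contra h
  push Not at h
  exact hu (hJ u h)

theorem exists_eq_one {J : Matrix ι ι F} (hJ : ND J) {u : ι → F} (hu : u ≠ 0) : ∃ v, bf J v u = 1 := by
  obtain ⟨v, hv⟩ := exists_ne_zero hJ hu
  exact ⟨(bf J v u)⁻¹ • v, by rw [smul_left, inv_mul_cancel₀ hv]⟩

/-- double annihilator of a family -/
theorem mem_span_of_bf {J : Matrix ι ι F} (hJ : ND J) {κ : Type*} [Finite κ] {v : κ → ι → F} {r : ι → F}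
    (h : ∀ w, (∀ i, bf J w (v i) = 0) → bf J w r = 0) : r ∈ Submodule.span F (Set.range v) := by
  let T : (ι → F) →ₗ[F] Module.Dual F (ι → F) :=
    { toFun := fun a =>
        { toFun := fun w => bf J w a
          map_add' := fun x y => add_left J x y a
          map_smul' := fun c x => smul_left J x a c }
      map_add' := fun x y => LinearMap.ext fun w => add_right J w x y
      map_smul' := fun c x => LinearMap.ext fun w => smul_right J w x c }
  have hT : Function.Injective T := by
    rw [injective_iff_map_eq_zero]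
    intro a ha
    exact hJ a fun w => LinearMap.congr_fun ha w
  have h1 : T r ∈ Submodule.span F (Set.range fun i => T (v i)) := by
    refine mem_span_of_iInf_ker_le_ker fun w hw => ?_
    rw [Submodule.mem_iInf] at hw
    exact h w fun i => hw i
  have h2 : (Set.range fun i => T (v i)) = T '' Set.range v := by rw [← Set.range_comp]; rfl
  rw [h2, ← Submodule.map_span] at h1
  obtain ⟨r', hr', he⟩ := h1
  rwa [hT he] at hr'

theorem eq_smul_of_bf {J : Matrix ι ι F} (hJ : ND J) {v r : ι → F} (h : ∀ w, bf J w v = 0 → bf J w r = 0) :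
    ∃ c : F, r = c • v := by
  have h1 := mem_span_of_bf hJ (v := fun _ : Unit => v) (r := r) fun w hw => h w (hw ())
  rw [Set.range_const, Submodule.mem_span_singleton] at h1
  obtain ⟨c, hc⟩ := h1
  exact ⟨c, hc.symm⟩

theorem eq_comb_of_bf {J : Matrix ι ι F} (hJ : ND J) {e f r : ι → F}
    (h : ∀ w, bf J w e = 0 → bf J w f = 0 → bf J w r = 0) : ∃ a b : F, r = a • e + b • f := by
  have h1 := mem_span_of_bf hJ (v := fun i : Bool => if i then e else f) (r := r)
    fun w hw => h w (hw true) (hw false)
  have h2 : (Set.range fun i : Bool => if i then e else f) = {e, f} := by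
    ext x
    constructor
    · rintro ⟨i, rfl⟩
      cases i
      · exact Or.inr rfl
      · exact Or.inl rfl
    · rintro (rfl | rfl)
      · exact ⟨true, rfl⟩
      · exact ⟨false, rfl⟩
  rw [h2, Submodule.mem_span_pair] at h1
  obtain ⟨a, b, hab⟩ := h1
  exact ⟨a, b, hab.symm⟩

/-- the matrix `1 + a ⊗ b + c ⊗ d` -/
def two (a b c d : ι → F) : Matrix ι ι F := 1 + vecMulVec a b + vecMulVec c d

theorem two_mulVec (a b c d w : ι → F) : two a b c d *ᵥ w = w + (b ⬝ᵥ w) • a + (d ⬝ᵥ w) • c := by
  unfold two
  rw [add_mulVec, add_mulVec, one_mulVec, vecMulVec_mulVec, vecMulVec_mulVec]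
  simp

/-- a subspace of vectors orthogonal to given ones is non-zero -/
theorem exists_perp [Fintype F] {l : ℕ} (J : Matrix ι ι F) (v : Fin l → ι → F) (h : l < Fintype.card ι) :
    ∃ x : ι → F, x ≠ 0 ∧ ∀ j, bf J (v j) x = 0 := by
  obtain ⟨x, hx, -, h2⟩ := CW.exists_quad (K := F) (σ := ι) (k := 0) (fun i => i.elim0) (fun j => v j ᵥ* J)
    (by simpa using h)
  exact ⟨x, hx, fun j => by rw [← vecMul_eq]; exact h2 j⟩

end Cfsg.Agent.H530.Form
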