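import Mathlib
import Cfsg.Agent.H491.SubgroupCount
import Cfsg.Agent.PLocal.CyclicIndexP

/-!
# Counting subgroups of `p`-groups modulo `p ^ 2`: basic counting lemmas (helper530)

* `card_index_modEq_one`: the number of subgroups of index `p` above a proper normal subgroup is
  `≡ 1 (mod p)`.
* `card_index_modEq_of_not_isCyclic`: a noncyclic `p`-group has `≡ 1 + p (mod p ^ 2)` subgroups of
  index `p`.
* `card_sup_eq_top`: for `G' ≤ N < G` the number of subgroups `K` of order `p ^ k < |G|` with `K N = G`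
  is divisible by `p`.
* `enum`: Hall's enumeration principle modulo `p ^ 2`:
  `(1 + p) s_k(G) ≡ ∑ s_k(M) (mod p ^ 2)`, the sum over the subgroups `M` of index `p`, for a noncyclic
  group `G` of order `p ^ m`, `k + 2 ≤ m`.
-/

set_option autoImplicit false
set_option linter.style.haveILetI false

namespace Cfsg.Agent.H530.Kul

open Subgroup

/-- Double counting. -/
theorem dc {A B : Type*} [Fintype A] [Fintype B] (R : A → B → Prop) :
    ∑ a, Nat.card {b // R a b} = ∑ b, Nat.card {a // R a b} := by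
  classical
  have h1 : ∑ a, Nat.card {b // R a b} = Nat.card {x : A × B // R x.1 x.2} := by
    rw [← Nat.card_sigma]
    exact Nat.card_congr
      { toFun := fun x => ⟨(x.1, x.2.1), x.2.2⟩
        invFun := fun x => ⟨x.1.1, ⟨x.1.2, x.2⟩⟩
        left_inv := fun _ => rfl
        right_inv := fun _ => rfl }
  have h2 : ∑ b, Nat.card {a // R a b} = Nat.card {x : A × B // R x.1 x.2} := by
    rw [← Nat.card_sigma]
    exact Nat.card_congr
      { toFun := fun x => ⟨(x.2.1, x.1), x.2.2⟩
        invFun := fun x => ⟨x.1.2, ⟨x.1.1, x.2⟩⟩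
        left_inv := fun _ => rfl
        right_inv := fun _ => rfl }
  rw [h1, h2]

/-- The number of elements of a finite type satisfying a predicate, as a sum. -/
theorem card_eq_sum {A : Type*} [Fintype A] (P : A → Prop) [DecidablePred P] :
    Nat.card {a // P a} = ∑ a, if P a then 1 else 0 := by
  rw [Finset.sum_boole, Nat.card_eq_fintype_card, Fintype.card_subtype]
  simp

/-- Splitting a count according to a predicate. -/
theorem card_split {A : Type*} [Finite A] (P : A → Prop) :
    Nat.card {a // P a} + Nat.card {a // ¬ P a} = Nat.card A := by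
  classical
  have := Fintype.ofFinite A
  rw [card_eq_sum, card_eq_sum, ← Finset.sum_add_distrib, Nat.card_eq_fintype_card,
    ← Finset.card_univ, Finset.card_eq_sum_ones]
  refine Finset.sum_congr rfl fun a _ => ?_
  by_cases h : P a <;> simp [h]

section hom

variable {G : Type*} [Group G] [Finite G] {p : ℕ} [hp : Fact p.Prime]

instance finiteHom {A B : Type*} [Group A] [Group B] [Finite A] [Finite B] : Finite (A →* B) :=
  Finite.of_injective (fun f : A →* B => (f : A → B)) DFunLike.coe_injective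

omit [Finite G] in
/-- The homomorphisms to `ℤ/p` with a given kernel of index `p`. -/
theorem card_hom_ker (M : Subgroup G) [M.Normal] (hM : M.index = p) :
    Nat.card {f : G →* Multiplicative (ZMod p) // f.ker = M} = p - 1 := by
  have hcard : Nat.card (G ⧸ M) = p := hM
  have hcard2 : Nat.card (Multiplicative (ZMod p)) = p := by
    rw [Nat.card_congr Multiplicative.toAdd, Nat.card_zmod]
  let e₀ : (G ⧸ M) ≃* Multiplicative (ZMod p) := mulEquivOfPrimeCardEq hcard hcard2
  have e : {f : G →* Multiplicative (ZMod p) // f.ker = M} ≃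
      MulAut (Multiplicative (ZMod p)) := by
    refine
      { toFun := fun f => e₀.symm.trans
          (MulEquiv.ofBijective (QuotientGroup.lift M f.1 (fun x hx => ?_)) ?_)
        invFun := fun φ => ⟨(φ.toMonoidHom.comp e₀.toMonoidHom).comp (QuotientGroup.mk' M), ?_⟩
        left_inv := ?_
        right_inv := ?_ }
    · rw [f.2]; exact hx
    · rw [Nat.bijective_iff_injective_and_card]
      refine ⟨?_, by rw [hcard, hcard2]⟩
      rw [injective_iff_map_eq_one]
      intro y
      obtain ⟨y, rfl⟩ := QuotientGroup.mk_surjective y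
      intro hy
      have : f.1 y = 1 := hy
      rw [← MonoidHom.mem_ker, f.2] at this
      exact (QuotientGroup.eq_one_iff _).2 this
    · ext x
      rw [MonoidHom.mem_ker]
      simp
    · intro f
      apply Subtype.ext
      ext x
      simp
    · intro φ
      ext x
      obtain ⟨y, rfl⟩ := e₀.surjective x
      obtain ⟨y, rfl⟩ := QuotientGroup.mk_surjective y
      simp
  rw [Nat.card_congr e, IsCyclic.card_mulAut, hcard2, Nat.totient_prime hp.out]

/-- The number of subgroups of index `p`: `(p - 1) N + 1 = p ^ d`. -/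
theorem exists_card (hG : IsPGroup p G) :
    ∃ d : ℕ, (p - 1) * Nat.card {M : Subgroup G // M.index = p} + 1 = p ^ d := by
  classical
  have := Fintype.ofFinite {M : Subgroup G // M.index = p}
  have hcard2 : Nat.card (Multiplicative (ZMod p)) = p := by
    rw [Nat.card_congr Multiplicative.toAdd, Nat.card_zmod]
  have hexp : IsPGroup p (G →* Multiplicative (ZMod p)) := by
    intro f
    refine ⟨1, ?_⟩
    ext x
    rw [pow_one, MonoidHom.pow_apply, MonoidHom.one_apply]
    have : f x ^ Nat.card (Multiplicative (ZMod p)) = 1 := pow_card_eq_one'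
    rw [hcard2] at this
    exact this
  obtain ⟨d, hd⟩ := IsPGroup.iff_card.1 hexp
  refine ⟨d, ?_⟩
  rw [← hd]
  have h1 := card_split (fun f : G →* Multiplicative (ZMod p) => f = 1)
  have h2 : Nat.card {f : G →* Multiplicative (ZMod p) // f = 1} = 1 := by
    simp
  rw [← h1, h2, add_comm]
  congr 1
  have e : {f : G →* Multiplicative (ZMod p) // ¬ f = 1} ≃
      Σ M : {M : Subgroup G // M.index = p}, {f : G →* Multiplicative (ZMod p) // f.ker = M.1} := by
    refine
      { toFun := fun f => ⟨⟨f.1.ker, ?_⟩, ⟨f.1, rfl⟩⟩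
        invFun := fun x => ⟨x.2.1, ?_⟩
        left_inv := fun _ => rfl
        right_inv := ?_ }
    · have hne : f.1.range ≠ ⊥ := by
        intro h
        apply f.2
        rw [← MonoidHom.range_eq_bot_iff]
        exact h
      have htop : f.1.range = ⊤ := by
        have h3 : Nat.card f.1.range ∣ p := by
          have := Subgroup.card_subgroup_dvd_card f.1.range
          rwa [hcard2] at this
        rcases (Nat.dvd_prime hp.out).1 h3 with h4 | h4
        · exact absurd (Subgroup.card_eq_one.1 h4) hne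
        · exact Subgroup.eq_top_of_card_eq _ (by rw [h4, hcard2])
      rw [Subgroup.index_ker, htop, Subgroup.card_top, hcard2]
    · intro h
      have h3 := x.2.2
      rw [h, MonoidHom.ker_one] at h3
      have h4 := x.1.2
      rw [← h3, Subgroup.index_top] at h4
      exact hp.out.ne_one h4.symm
    · rintro ⟨⟨M, hM⟩, ⟨f, hf⟩⟩
      simp only at hf
      subst hf
      rfl
  rw [Nat.card_congr e, Nat.card_sigma]
  have h3 : ∀ M : {M : Subgroup G // M.index = p},
      Nat.card {f : G →* Multiplicative (ZMod p) // f.ker = M.1} = p - 1 := by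
    intro M
    have := Cfsg.Agent.PLocal.CyclicIndexP.normal_of_index hG M.2
    exact card_hom_ker M.1 M.2
  rw [Finset.sum_congr rfl fun M _ => h3 M, Finset.sum_const, smul_eq_mul, Finset.card_univ,
    ← Nat.card_eq_fintype_card, mul_comm]

/-- A proper subgroup of a finite `p`-group lies in a subgroup of index `p`. -/
theorem exists_index_of_ne_top (hG : IsPGroup p G) (K : Subgroup G) (hK : K ≠ ⊤) :
    ∃ M : Subgroup G, M.index = p ∧ K ≤ M := by
  obtain ⟨m, hm⟩ := IsPGroup.iff_card.1 hG
  obtain ⟨k, hk⟩ := IsPGroup.iff_card.1 (hG.to_subgroup K)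
  have hlt : Nat.card K < Nat.card G := by
    refine lt_of_le_of_ne (Subgroup.card_le_card_group K) fun h => hK (Subgroup.eq_top_of_card_eq K h)
  rw [hm, hk] at hlt
  have hkm : k < m := (Nat.pow_lt_pow_iff_right hp.out.one_lt).1 hlt
  obtain ⟨M, hM, hKM⟩ := Sylow.exists_subgroup_card_pow_prime_le p (n := k) (m := m - 1)
    (by rw [hm]; exact pow_dvd_pow p (by omega)) K hk (by omega)
  refine ⟨M, ?_, hKM⟩
  have h1 := M.card_mul_index
  rw [hM, hm] at h1
  obtain ⟨j, rfl⟩ : ∃ j, m = j + 1 := ⟨m - 1, by omega⟩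
  rw [Nat.add_sub_cancel, pow_succ] at h1
  exact Nat.eq_of_mul_eq_mul_left (pow_pos hp.out.pos j) h1

/-- A noncyclic finite `p`-group has two subgroups of index `p`. -/
theorem exists_two_of_not_isCyclic (hG : IsPGroup p G) (hnc : ¬ IsCyclic G) (M : Subgroup G)
    (hM : M.index = p) : ∃ L : Subgroup G, L.index = p ∧ L ≠ M := by
  have hMt : M ≠ ⊤ := by
    rintro rfl
    rw [Subgroup.index_top] at hM
    exact hp.out.ne_one hM.symm
  obtain ⟨x, -, hx⟩ := SetLike.exists_of_lt (lt_top_iff_ne_top.2 hMt)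
  have hz : Subgroup.zpowers x ≠ ⊤ := by
    intro h
    apply hnc
    refine ⟨x, fun y => ?_⟩
    have : y ∈ Subgroup.zpowers x := by rw [h]; trivial
    exact this
  obtain ⟨L, hL, hxL⟩ := exists_index_of_ne_top hG _ hz
  refine ⟨L, hL, ?_⟩
  rintro rfl
  exact hx (hxL (Subgroup.mem_zpowers x))

/-- A nontrivial finite `p`-group has `≡ 1 (mod p)` subgroups of index `p`. -/
theorem card_index_modEq (hG : IsPGroup p G) (h1 : Nontrivial G) :
    Nat.card {M : Subgroup G // M.index = p} ≡ 1 [MOD p] := by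
  obtain ⟨d, hd⟩ := exists_card hG
  obtain ⟨M, hM, -⟩ := exists_index_of_ne_top hG ⊥ bot_ne_top
  have hpos : 0 < Nat.card {M : Subgroup G // M.index = p} :=
    Nat.card_pos_iff.2 ⟨⟨⟨M, hM⟩⟩, inferInstance⟩
  have hd0 : d ≠ 0 := by
    rintro rfl
    rw [pow_zero] at hd
    have h2 : (p - 1) * Nat.card {M : Subgroup G // M.index = p} = 0 := by omega
    rcases Nat.mul_eq_zero.1 h2 with h3 | h3
    · have := hp.out.one_lt
      omega
    · omega
  set N := Nat.card {M : Subgroup G // M.index = p} with hN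
  have h3 : p ∣ (p - 1) * N + 1 := by rw [hd]; exact dvd_pow_self p hd0
  -- `(p - 1) N + 1 + N = p N + 1`
  have h4 : (p - 1) * N + 1 + N = p * N + 1 := by
    obtain ⟨q, hq⟩ : ∃ q, p = q + 1 := ⟨p - 1, by have := hp.out.pos; omega⟩
    rw [hq, Nat.add_sub_cancel]; ring
  have h5 : (p - 1) * N + 1 + N ≡ N [MOD p] := by
    have : (p - 1) * N + 1 ≡ 0 [MOD p] := (Nat.modEq_zero_iff_dvd).2 h3
    simpa using this.add_right N
  have h6 : p * N + 1 ≡ 1 [MOD p] := by simp [Nat.ModEq]
  rw [h4] at h5
  exact h5.symm.trans h6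

/-- A noncyclic finite `p`-group has `≡ 1 + p (mod p ^ 2)` subgroups of index `p`. -/
theorem card_index_modEq_of_not_isCyclic (hG : IsPGroup p G) (hnc : ¬ IsCyclic G) :
    Nat.card {M : Subgroup G // M.index = p} ≡ 1 + p [MOD p ^ 2] := by
  have hnt : Nontrivial G := by
    by_contra h
    rw [not_nontrivial_iff_subsingleton] at h
    exact hnc inferInstance
  obtain ⟨d, hd⟩ := exists_card hG
  obtain ⟨M, hM, -⟩ := exists_index_of_ne_top hG ⊥ bot_ne_top
  obtain ⟨L, hL, hLM⟩ := exists_two_of_not_isCyclic hG hnc M hM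
  have htwo : 1 < Nat.card {M : Subgroup G // M.index = p} := by
    have : Nontrivial {M : Subgroup G // M.index = p} :=
      ⟨⟨⟨L, hL⟩, ⟨M, hM⟩, fun h => hLM (congrArg Subtype.val h)⟩⟩
    exact Finite.one_lt_card
  set N := Nat.card {M : Subgroup G // M.index = p} with hN
  have hp1 := hp.out.one_lt
  have hd2 : 2 ≤ d := by
    by_contra hlt
    have hd' : d = 0 ∨ d = 1 := by omega
    obtain ⟨q, hq⟩ : ∃ q, p = q + 2 := ⟨p - 2, by omega⟩
    rcases hd' with rfl | rfl
    · rw [pow_zero] at hd
      have h2 : (p - 1) * N = 0 := by omega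
      rcases Nat.mul_eq_zero.1 h2 with h3 | h3 <;> omega
    · rw [pow_one, hq] at hd
      have h3 : q + 2 - 1 = q + 1 := by omega
      rw [h3] at hd
      nlinarith
  have h3 : p ^ 2 ∣ (p - 1) * N + 1 := by rw [hd]; exact pow_dvd_pow p hd2
  obtain ⟨q, hq⟩ : ∃ q, p = q + 1 := ⟨p - 1, by omega⟩
  have h4 : q * N + 1 ≡ 0 [MOD p ^ 2] := by
    have := (Nat.modEq_zero_iff_dvd).2 h3
    rwa [hq, Nat.add_sub_cancel, ← hq] at this
  have h5 : q * (1 + p) + 1 ≡ 0 [MOD p ^ 2] := by
    have : q * (1 + p) + 1 = p ^ 2 := by rw [hq]; ring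
    rw [this]
    exact (Nat.modEq_zero_iff_dvd).2 dvd_rfl
  have h6 : q * N ≡ q * (1 + p) [MOD p ^ 2] := Nat.ModEq.add_right_cancel' 1 (h4.trans h5.symm)
  refine Nat.ModEq.cancel_left_of_coprime ?_ h6
  have : Nat.Coprime p q := by
    rw [hq]
    simp
  exact Nat.Coprime.pow_left 2 this

omit hp [Finite G] in
/-- The subgroups of index `p` above a normal subgroup `N` are the subgroups of index `p` of
`G ⧸ N`. -/
theorem card_index_quotient (N : Subgroup G) [N.Normal] :
    Nat.card {M : Subgroup G // M.index = p ∧ N ≤ M} =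
      Nat.card {M : Subgroup (G ⧸ N) // M.index = p} := by
  refine Nat.card_congr
    { toFun := fun M => ⟨M.1.map (QuotientGroup.mk' N), ?_⟩
      invFun := fun M => ⟨M.1.comap (QuotientGroup.mk' N), ?_, ?_⟩
      left_inv := ?_
      right_inv := ?_ }
  · rw [Subgroup.index_map_eq _ (QuotientGroup.mk'_surjective N) (by rw [QuotientGroup.ker_mk']; exact M.2.2)]
    exact M.2.1
  · rw [Subgroup.index_comap_of_surjective _ (QuotientGroup.mk'_surjective N)]
    exact M.2
  · exact QuotientGroup.le_comap_mk' N M.1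
  · intro M
    apply Subtype.ext
    change (M.1.map (QuotientGroup.mk' N)).comap (QuotientGroup.mk' N) = M.1
    rw [Subgroup.comap_map_eq_self]
    rw [QuotientGroup.ker_mk']; exact M.2.2
  · intro M
    apply Subtype.ext
    exact Subgroup.map_comap_eq_self_of_surjective (QuotientGroup.mk'_surjective N) M.1

/-- The number of subgroups of index `p` above a proper normal subgroup. -/
theorem card_index_modEq_one (hG : IsPGroup p G) (N : Subgroup G) [N.Normal] (hN : N ≠ ⊤) :
    Nat.card {M : Subgroup G // M.index = p ∧ N ≤ M} ≡ 1 [MOD p] := by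
  rw [card_index_quotient]
  refine card_index_modEq (hG.to_quotient N) ?_
  by_contra h
  rw [not_nontrivial_iff_subsingleton] at h
  exact hN (QuotientGroup.subsingleton_iff.1 h)

/-- The number of subgroups of index `p` above a normal subgroup with noncyclic quotient. -/
theorem card_index_modEq_of_not_isCyclic_quotient (hG : IsPGroup p G) (N : Subgroup G) [N.Normal]
    (hN : ¬ IsCyclic (G ⧸ N)) :
    Nat.card {M : Subgroup G // M.index = p ∧ N ≤ M} ≡ 1 + p [MOD p ^ 2] := by
  rw [card_index_quotient]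
  exact card_index_modEq_of_not_isCyclic (hG.to_quotient N) hN

omit [Finite G] hp in
/-- Subgroups of a subgroup of a given order. -/
theorem card_subgroups_le (L : Subgroup G) (n : ℕ) :
    Nat.card {K : {K : Subgroup G // Nat.card K = n} // K.1 ≤ L} =
      Nat.card {K : Subgroup L // Nat.card K = n} := by
  refine Nat.card_congr
    { toFun := fun K => ⟨K.1.1.subgroupOf L, ?_⟩
      invFun := fun K => ⟨⟨K.1.map L.subtype, ?_⟩, Subgroup.map_subtype_le _⟩
      left_inv := ?_
      right_inv := ?_ }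
  · rw [Nat.card_congr (Subgroup.subgroupOfEquivOfLe K.2).toEquiv]
    exact K.1.2
  · rw [Subgroup.card_map_of_injective L.subtype_injective]
    exact K.2
  · intro K
    apply Subtype.ext
    apply Subtype.ext
    exact Subgroup.map_subgroupOf_eq_of_le K.2
  · intro K
    apply Subtype.ext
    change (K.1.map L.subtype).subgroupOf L = K.1
    exact Subgroup.comap_map_eq_self_of_injective L.subtype_injective K.1

/-- For `G' ≤ N < G`, the number of subgroups `K` of order `p ^ k < |G|` with `K N = G` is divisible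
by `p`. -/
theorem dvd_card_sup_eq_top (hG : IsPGroup p G) (N : Subgroup G) (hN : commutator G ≤ N)
    (hNt : N ≠ ⊤) (k : ℕ) (hk : p ^ (k + 1) ∣ Nat.card G) :
    p ∣ Nat.card {K : {K : Subgroup G // Nat.card K = p ^ k} // K.1 ⊔ N = ⊤} := by
  classical
  let A := {K : Subgroup G // Nat.card K = p ^ k}
  let B := {L : Subgroup G // L.index = p ∧ N ≤ L}
  have hA : Fintype A := Fintype.ofFinite _
  have hB : Fintype B := Fintype.ofFinite _
  have hNn : N.Normal := Subgroup.Normal.of_commutator_le G hN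
  have hdc := dc (A := A) (B := B) (fun K L => K.1 ≤ L.1)
  have hBcard : Nat.card B ≡ 1 [MOD p] := card_index_modEq_one hG N hNt
  have hAcard : Nat.card A ≡ 1 [MOD p] :=
    Cfsg.Agent.H491.SubgroupCount.card_subgroups_modEq_one p k hp.out
      ((pow_dvd_pow p (Nat.le_succ k)).trans hk)
  -- the sum over `L`
  have hR : ∑ L : B, Nat.card {K : A // K.1 ≤ L.1} ≡ 1 [MOD p] := by
    have h1 : ∑ L : B, Nat.card {K : A // K.1 ≤ L.1} ≡ ∑ _L : B, 1 [MOD p] := by
      refine Nat.ModEq.sum fun L _ => ?_
      rw [card_subgroups_le L.1 (p ^ k)]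
      refine Cfsg.Agent.H491.SubgroupCount.card_subgroups_modEq_one p k hp.out ?_
      have h2 := L.1.card_mul_index
      rw [L.2.1] at h2
      rw [← h2, pow_succ] at hk
      exact Nat.dvd_of_mul_dvd_mul_right hp.out.pos hk
    rw [Finset.sum_const, smul_eq_mul, mul_one, Finset.card_univ, ← Nat.card_eq_fintype_card] at h1
    exact h1.trans hBcard
  -- the sum over `K`
  have hL : ∑ K : A, Nat.card {L : B // K.1 ≤ L.1} ≡ Nat.card {K : A // ¬ K.1 ⊔ N = ⊤} [MOD p] := by
    rw [card_eq_sum]
    refine Nat.ModEq.sum fun K _ => ?_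
    have h1 : Nat.card {L : B // K.1 ≤ L.1} =
        Nat.card {L : Subgroup G // L.index = p ∧ K.1 ⊔ N ≤ L} := by
      refine Nat.card_congr
        { toFun := fun L => ⟨L.1.1, L.1.2.1, sup_le L.2 L.1.2.2⟩
          invFun := fun L => ⟨⟨L.1, L.2.1, le_sup_right.trans L.2.2⟩, le_sup_left.trans L.2.2⟩
          left_inv := fun _ => rfl
          right_inv := fun _ => rfl }
    rw [h1]
    by_cases h : K.1 ⊔ N = ⊤
    · rw [if_neg (not_not.2 h)]
      have : IsEmpty {L : Subgroup G // L.index = p ∧ K.1 ⊔ N ≤ L} := by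
        refine ⟨fun L => ?_⟩
        obtain ⟨L, hL1, hL2⟩ := L
        have h2 : L = ⊤ := top_le_iff.1 (h.symm.le.trans hL2)
        have h3 := hL1
        rw [h2, Subgroup.index_top] at h3
        exact hp.out.ne_one h3.symm
      rw [Nat.card_of_isEmpty]
    · rw [if_pos h]
      have : (K.1 ⊔ N).Normal := Subgroup.Normal.of_commutator_le G (hN.trans le_sup_right)
      exact card_index_modEq_one hG (K.1 ⊔ N) h
  have hne : Nat.card {K : A // ¬ K.1 ⊔ N = ⊤} ≡ 1 [MOD p] := by
    refine hL.symm.trans ?_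
    rw [hdc]
    exact hR
  have hsplit := card_split (fun K : A => K.1 ⊔ N = ⊤)
  rw [← Nat.modEq_zero_iff_dvd]
  have h4 : Nat.card {K : A // K.1 ⊔ N = ⊤} + Nat.card {K : A // ¬ K.1 ⊔ N = ⊤} ≡ 0 + 1 [MOD p] := by
    rw [hsplit, zero_add]; exact hAcard
  exact Nat.ModEq.add_right_cancel hne h4

/-- **Hall's enumeration principle modulo `p ^ 2`.** -/
theorem enum (hG : IsPGroup p G) (hnc : ¬ IsCyclic G) [Fintype {M : Subgroup G // M.index = p}]
    (k : ℕ) (hk : p ^ (k + 2) ∣ Nat.card G) :
    (1 + p) * Nat.card {K : Subgroup G // Nat.card K = p ^ k} ≡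
      ∑ M : {M : Subgroup G // M.index = p}, Nat.card {K : Subgroup M.1 // Nat.card K = p ^ k}
        [MOD p ^ 2] := by
  classical
  let A := {K : Subgroup G // Nat.card K = p ^ k}
  let B := {M : Subgroup G // M.index = p}
  have hA : Fintype A := Fintype.ofFinite _
  let Φ : Subgroup G := ⨅ M : B, M.1
  have hΦle : ∀ M : Subgroup G, M.index = p → Φ ≤ M := fun M hM => iInf_le (fun M : B => M.1) ⟨M, hM⟩
  have hnorm : ∀ M : Subgroup G, M.index = p → M.Normal := fun M hM =>
    Cfsg.Agent.PLocal.CyclicIndexP.normal_of_index hG hM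
  have hcomm : ∀ M : Subgroup G, M.index = p → commutator G ≤ M := by
    intro M hM
    have := hnorm M hM
    rw [← Subgroup.Normal.quotient_commutative_iff_commutator_le]
    have hc : IsCyclic (G ⧸ M) := isCyclic_of_prime_card (p := p) hM
    exact IsCyclic.isMulCommutative
  have hΦc : commutator G ≤ Φ := le_iInf fun M => hcomm M.1 M.2
  have hpow : ∀ x : G, x ^ p ∈ Φ := by
    intro x
    rw [Subgroup.mem_iInf]
    intro M
    exact Cfsg.Agent.PLocal.CyclicIndexP.pow_mem hG M.2 x
  have hKΦ : ∀ K : A, K.1 ⊔ Φ ≠ ⊤ := by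
    intro K h
    have hKt : K.1 ≠ ⊤ := by
      intro h1
      have h2 := K.2
      rw [h1, Subgroup.card_top] at h2
      rw [h2] at hk
      have h3 := Nat.le_of_dvd (pow_pos hp.out.pos k) hk
      have h4 := (Nat.pow_le_pow_iff_right hp.out.one_lt).1 h3
      omega
    obtain ⟨M, hM, hKM⟩ := exists_index_of_ne_top hG K.1 hKt
    have h1 : K.1 ⊔ Φ ≤ M := sup_le hKM (hΦle M hM)
    rw [h, top_le_iff] at h1
    rw [h1, Subgroup.index_top] at hM
    exact hp.out.ne_one hM.symm
  -- the number of maximal subgroups above `K`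
  have hcount : ∀ K : A, Nat.card {M : B // K.1 ≤ M.1} +
      p * (if (K.1 ⊔ Φ).index = p then 1 else 0) ≡ 1 + p [MOD p ^ 2] := by
    intro K
    have hn : (K.1 ⊔ Φ).Normal := Subgroup.Normal.of_commutator_le G (hΦc.trans le_sup_right)
    have h1 : Nat.card {M : B // K.1 ≤ M.1} =
        Nat.card {L : Subgroup G // L.index = p ∧ K.1 ⊔ Φ ≤ L} := by
      refine Nat.card_congr
        { toFun := fun L => ⟨L.1.1, L.1.2, sup_le L.2 (hΦle _ L.1.2)⟩
          invFun := fun L => ⟨⟨L.1, L.2.1⟩, le_sup_left.trans L.2.2⟩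
          left_inv := fun _ => rfl
          right_inv := fun _ => rfl }
    rw [h1]
    by_cases h : (K.1 ⊔ Φ).index = p
    · rw [if_pos h]
      have h2 : Nat.card {L : Subgroup G // L.index = p ∧ K.1 ⊔ Φ ≤ L} = 1 := by
        rw [Nat.card_eq_one_iff_unique]
        refine ⟨⟨fun L₁ L₂ => ?_⟩, ⟨⟨K.1 ⊔ Φ, h, le_rfl⟩⟩⟩
        have h3 : ∀ L : {L : Subgroup G // L.index = p ∧ K.1 ⊔ Φ ≤ L}, L.1 = K.1 ⊔ Φ := by
          intro L
          refine (Subgroup.eq_of_le_of_card_ge L.2.2 ?_).symm
          have h4 := L.1.card_mul_index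
          have h5 := (K.1 ⊔ Φ).card_mul_index
          rw [L.2.1, ← h5, h] at h4
          exact (Nat.eq_of_mul_eq_mul_right hp.out.pos h4).le
        exact Subtype.ext ((h3 L₁).trans (h3 L₂).symm)
      rw [h2, mul_one]
    · rw [if_neg h, mul_zero, add_zero]
      refine card_index_modEq_of_not_isCyclic_quotient hG _ ?_
      intro hcyc
      obtain ⟨g, hg⟩ := hcyc.exists_generator
      have h2 : orderOf g = Nat.card (G ⧸ (K.1 ⊔ Φ)) := orderOf_eq_card_of_forall_mem_zpowers hg
      have h3 : g ^ p = 1 := by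
        obtain ⟨x, rfl⟩ := QuotientGroup.mk_surjective g
        rw [← QuotientGroup.mk_pow, QuotientGroup.eq_one_iff]
        exact (le_sup_right : Φ ≤ K.1 ⊔ Φ) (hpow x)
      have h4 : orderOf g ∣ p := orderOf_dvd_of_pow_eq_one h3
      rw [h2] at h4
      rcases (Nat.dvd_prime hp.out).1 h4 with h5 | h5
      · exact hKΦ K (Subgroup.index_eq_one.1 h5)
      · exact h h5
  have hdc := dc (A := A) (B := B) (fun K M => K.1 ≤ M.1)
  have hR : ∑ M : B, Nat.card {K : A // K.1 ≤ M.1} =
      ∑ M : B, Nat.card {K : Subgroup M.1 // Nat.card K = p ^ k} :=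
    Finset.sum_congr rfl fun M _ => card_subgroups_le M.1 (p ^ k)
  -- the number of `K` with `K Φ` maximal
  have hA0 : p ∣ Nat.card {K : A // (K.1 ⊔ Φ).index = p} := by
    have e : Nat.card {K : A // (K.1 ⊔ Φ).index = p} =
        ∑ M : B, Nat.card {K : A // K.1 ⊔ Φ = M.1} := by
      rw [← Nat.card_sigma]
      refine Nat.card_congr
        { toFun := fun K => ⟨⟨K.1.1 ⊔ Φ, K.2⟩, ⟨K.1, rfl⟩⟩
          invFun := fun x => ⟨x.2.1, by rw [x.2.2]; exact x.1.2⟩
          left_inv := fun _ => rfl
          right_inv := ?_ }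
      rintro ⟨⟨M, hM⟩, ⟨K, hK⟩⟩
      simp only at hK
      subst hK
      rfl
    rw [e]
    refine Finset.dvd_sum fun M _ => ?_
    have hMn := hnorm M.1 M.2
    have hΦM := hΦle M.1 M.2
    have e2 : Nat.card {K : A // K.1 ⊔ Φ = M.1} =
        Nat.card {K : {K : Subgroup M.1 // Nat.card K = p ^ k} // K.1 ⊔ Φ.subgroupOf M.1 = ⊤} := by
      refine Nat.card_congr
        { toFun := fun K => ⟨⟨K.1.1.subgroupOf M.1, ?_⟩, ?_⟩
          invFun := fun K => ⟨⟨K.1.1.map M.1.subtype, ?_⟩, ?_⟩
          left_inv := ?_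
          right_inv := ?_ }
      · rw [Nat.card_congr (Subgroup.subgroupOfEquivOfLe (le_sup_left.trans K.2.le)).toEquiv]
        exact K.1.2
      · change K.1.1.subgroupOf M.1 ⊔ Φ.subgroupOf M.1 = ⊤
        rw [← Subgroup.subgroupOf_sup (le_sup_left.trans K.2.le) hΦM, K.2, Subgroup.subgroupOf_self]
      · rw [Subgroup.card_map_of_injective M.1.subtype_injective]
        exact K.1.2
      · change K.1.1.map M.1.subtype ⊔ Φ = M.1
        have h1 : (Φ.subgroupOf M.1).map M.1.subtype = Φ :=
          Subgroup.map_subgroupOf_eq_of_le hΦM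
        calc K.1.1.map M.1.subtype ⊔ Φ
            = K.1.1.map M.1.subtype ⊔ (Φ.subgroupOf M.1).map M.1.subtype := by rw [h1]
          _ = M.1 := by
            rw [← Subgroup.map_sup, K.2, ← MonoidHom.range_eq_map, Subgroup.range_subtype]
      · intro K
        apply Subtype.ext
        apply Subtype.ext
        exact Subgroup.map_subgroupOf_eq_of_le (le_sup_left.trans K.2.le)
      · intro K
        apply Subtype.ext
        apply Subtype.ext
        change (K.1.1.map M.1.subtype).subgroupOf M.1 = K.1.1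
        exact Subgroup.comap_map_eq_self_of_injective M.1.subtype_injective K.1.1
    rw [e2]
    refine dvd_card_sup_eq_top (hG.to_subgroup M.1) (Φ.subgroupOf M.1) ?_ ?_ k ?_
    · rw [Subgroup.subgroupOf, ← Subgroup.map_le_iff_le_comap]
      refine le_trans ?_ hΦc
      rw [_root_.commutator_def, _root_.commutator_def, Subgroup.map_commutator]
      exact Subgroup.commutator_mono le_top le_top
    · intro h
      rw [Subgroup.subgroupOf_eq_top] at h
      obtain ⟨L, hL, hLM⟩ := exists_two_of_not_isCyclic hG hnc M.1 M.2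
      have h1 : M.1 ≤ L := h.trans (hΦle L hL)
      apply hLM
      refine (Subgroup.eq_of_le_of_card_ge h1 ?_).symm
      have h4 := L.card_mul_index
      have h5 := M.1.card_mul_index
      rw [hL, ← h5, M.2] at h4
      exact (Nat.eq_of_mul_eq_mul_right hp.out.pos h4).le
    · have h2 := M.1.card_mul_index
      rw [M.2] at h2
      rw [← h2, pow_succ p (k + 1)] at hk
      exact Nat.dvd_of_mul_dvd_mul_right hp.out.pos hk
  -- conclusion
  have hsum : ∑ K : A, (Nat.card {M : B // K.1 ≤ M.1} +
      p * (if (K.1 ⊔ Φ).index = p then 1 else 0)) ≡ ∑ _K : A, (1 + p) [MOD p ^ 2] :=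
    Nat.ModEq.sum fun K _ => hcount K
  rw [Finset.sum_add_distrib, ← Finset.mul_sum, ← card_eq_sum, Finset.sum_const, smul_eq_mul,
    Finset.card_univ, ← Nat.card_eq_fintype_card, hdc, hR, mul_comm (Nat.card A)] at hsum
  have h0 : p * Nat.card {K : A // (K.1 ⊔ Φ).index = p} ≡ 0 [MOD p ^ 2] := by
    rw [Nat.modEq_zero_iff_dvd, pow_two]
    exact Nat.mul_dvd_mul_left p hA0
  have h1 := Nat.ModEq.add_left
    (∑ M : B, Nat.card {K : Subgroup M.1 // Nat.card K = p ^ k}) h0
  rw [add_zero] at h1
  exact (hsum.symm.trans h1)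

end hom

end Cfsg.Agent.H530.Kul
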