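import Cfsg.Agent.H530.Pair

/-!
# Linear algebra for the classical groups (helper530, for S4158)

* `exists_smul_of_annih` : double annihilator of a vector; `exists_scalar` : a matrix with all vectors as
  eigenvectors is scalar; `exists_ne_of_card` : a common zero of two linear forms in three variables;
* `det_tv` : `det (1 + v ⊗ g) = 1` if `g v = 0`;
* `pow_of_cube` : in characteristic `p`, `(u - 1) ^ 3 = 0` implies `u ^ p ^ 2 = 1`.
-/

set_option autoImplicit false
set_option linter.unusedSectionVars false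

namespace Cfsg.Agent.H530.LinTools

open Matrix

variable {F : Type*} [Field F] {ι : Type*} [Fintype ι] [DecidableEq ι]

/-- double annihilator of a vector -/
theorem exists_smul_of_annih {v u : ι → F} (hv : v ≠ 0) (h : ∀ g : ι → F, g ⬝ᵥ v = 0 → g ⬝ᵥ u = 0) :
    ∃ c : F, u = c • v := by
  obtain ⟨i, hi⟩ := Function.ne_iff.1 hv
  have hi' : v i ≠ 0 := hi
  refine ⟨u i / v i, ?_⟩
  funext j
  have h1 := h (v i • Pi.single j 1 - v j • Pi.single i 1) (by
    rw [sub_dotProduct, smul_dotProduct, smul_dotProduct, single_one_dotProduct, single_one_dotProduct,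
      smul_eq_mul, smul_eq_mul]; ring)
  rw [sub_dotProduct, smul_dotProduct, smul_dotProduct, single_one_dotProduct, single_one_dotProduct,
    smul_eq_mul, smul_eq_mul, sub_eq_zero] at h1
  rw [Pi.smul_apply, smul_eq_mul]
  field_simp
  linear_combination h1

/-- a matrix with all vectors as eigenvectors is scalar -/
theorem exists_scalar {A : Matrix ι ι F} (h : ∀ v : ι → F, ∃ c : F, A *ᵥ v = c • v) :
    ∃ c : F, A = scalar ι c := by
  rcases isEmpty_or_nonempty ι with he | ⟨⟨i⟩⟩
  · exact ⟨0, Subsingleton.elim _ _⟩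
  choose a ha using h
  refine ⟨a (Pi.single i 1), ?_⟩
  have key : ∀ j, a (Pi.single j 1) = a (Pi.single i 1) := by
    intro j
    by_cases hij : j = i
    · rw [hij]
    have h1 := ha (Pi.single i 1 + Pi.single j 1)
    rw [mulVec_add, ha, ha] at h1
    have h2 := congrFun h1 i
    have h3 := congrFun h1 j
    simp only [Pi.add_apply, Pi.smul_apply, smul_eq_mul, Pi.single_eq_same, mul_one,
      Pi.single_eq_of_ne hij, Pi.single_eq_of_ne (Ne.symm hij), mul_zero, add_zero, zero_add] at h2 h3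
    rw [h2, h3]
  ext j k
  have h1 := congrFun (ha (Pi.single k 1)) j
  rw [mulVec_single_one, key k] at h1
  rw [show A j k = _ from h1, scalar_apply]
  by_cases hjk : j = k
  · subst hjk; simp
  · simp [hjk]

/-- a common zero of two linear forms -/
theorem exists_ne_of_card (h3 : 3 ≤ Fintype.card ι) (a b : ι → F) : ∃ f : ι → F, f ≠ 0 ∧ f ⬝ᵥ a = 0 ∧ f ⬝ᵥ b = 0 := by
  let φ : (ι → F) →ₗ[F] (Fin 2 → F) :=
    { toFun := fun f => ![f ⬝ᵥ a, f ⬝ᵥ b]
      map_add' := by
        intro f g
        funext k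
        fin_cases k
        · change (f + g) ⬝ᵥ a = f ⬝ᵥ a + g ⬝ᵥ a; rw [add_dotProduct]
        · change (f + g) ⬝ᵥ b = f ⬝ᵥ b + g ⬝ᵥ b; rw [add_dotProduct]
      map_smul' := by
        intro c f
        funext k
        fin_cases k
        · change (c • f) ⬝ᵥ a = c * (f ⬝ᵥ a); rw [smul_dotProduct, smul_eq_mul]
        · change (c • f) ⬝ᵥ b = c * (f ⬝ᵥ b); rw [smul_dotProduct, smul_eq_mul] }
  have h1 : LinearMap.ker φ ≠ ⊥ := LinearMap.ker_ne_bot_of_finrank_lt (by simp; omega)
  obtain ⟨f, hf, hf0⟩ := Submodule.exists_mem_ne_zero_of_ne_bot h1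
  have h2 : φ f = 0 := hf
  exact ⟨f, hf0, congrFun h2 0, congrFun h2 1⟩

theorem det_tv {v g : ι → F} (h : g ⬝ᵥ v = 0) : (1 + vecMulVec v g).det = 1 := by
  have h1 := det_one_add_replicateCol_mul_replicateRow (ι := Unit) v g
  rw [h, add_zero, ← vecMulVec_eq] at h1
  exact h1

/-- unipotent matrices of class at most 3 in characteristic `p` -/
theorem pow_of_cube {p : ℕ} [Fact p.Prime] [CharP F p] {u : Matrix ι ι F} (h : (u - 1) ^ 3 = 0) : u ^ p ^ 2 = 1 := by
  rcases isEmpty_or_nonempty ι with he | hne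
  · exact Subsingleton.elim _ _
  have hp : 2 ≤ p := (Fact.out : p.Prime).two_le
  have h1 : 3 ≤ p ^ 2 := by nlinarith
  have h2 : (u - 1) ^ p ^ 2 = 0 := by
    obtain ⟨k, hk⟩ := Nat.exists_eq_add_of_le h1
    rw [hk, pow_add, h, zero_mul]
  have h3 := sub_pow_char_pow_of_commute (p := p) (n := 2) (Commute.one_right u)
  rw [h2, one_pow] at h3
  exact (sub_eq_zero.1 h3.symm)

end Cfsg.Agent.H530.LinTools
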