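import Cfsg.Agent.H530.Form

/-!
# The argument with totally singular lines (helper530, for S4158)

`LD φ J Q κ` : `K` preserves the reflexive form `bf J` and the quadratic form `Q` with polar form `κ bf J`, `κ = 1` or
`Q = 0`. `scalar_of_trans` : let `Y ∈ K`, and suppose that the elements of `K` commuting with `Y` up to scalars are
transitive on the totally singular lines; then (under two Chevalley-Warning conditions) `Y` is scalar.
-/

set_option autoImplicit false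
set_option linter.unusedSectionVars false

namespace Cfsg.Agent.H530.Line

open Matrix Subgroup Cfsg.Agent.H530.Cop Cfsg.Agent.H530.LinTools Cfsg.Agent.H530.Flag Cfsg.Agent.H530.Form

variable {F : Type*} [Field F] {ι : Type*} [Fintype ι] [DecidableEq ι] {K : Type*} [Group K]

/-- linear independence of two vectors -/
def Ind (e f : ι → F) : Prop := ∀ a b : F, a • e + b • f = 0 → a = 0 ∧ b = 0

theorem Ind.left_ne {e f : ι → F} (h : Ind e f) : e ≠ 0 := by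
  rintro rfl
  exact one_ne_zero (h 1 0 (by simp)).1

theorem Ind.right_ne {e f : ι → F} (h : Ind e f) : f ≠ 0 := by
  rintro rfl
  exact one_ne_zero (h 0 1 (by simp)).2

theorem Ind.symm {e f : ι → F} (h : Ind e f) : Ind f e := fun a b hab => by
  rw [add_comm] at hab
  exact (h b a hab).symm

theorem ind_of {e f : ι → F} (he : e ≠ 0) (h : ∀ c : F, f ≠ c • e) : Ind e f := by
  intro a b hab
  have hb : b = 0 := by
    by_contra hb
    apply h (-(b⁻¹ * a))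
    have h1 : b • f = -(a • e) := by rw [eq_neg_iff_add_eq_zero, add_comm]; exact hab
    have h2 := congrArg (fun t => b⁻¹ • t) h1
    simp only [smul_smul] at h2
    rw [inv_mul_cancel₀ hb, one_smul] at h2
    rw [h2, neg_smul, smul_neg, smul_smul]
  refine ⟨?_, hb⟩
  rw [hb, zero_smul, add_zero, smul_eq_zero] at hab
  exact hab.resolve_right he

/-- two vectors, one of them killed by a functional -/
theorem ind_of_dot {e f g : ι → F} (hf : f ≠ 0) (he : g ⬝ᵥ e ≠ 0) (hgf : g ⬝ᵥ f = 0) : Ind e f := by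
  refine ind_of (fun h => he (by rw [h, dotProduct_zero])) fun c hc => ?_
  rw [hc, dotProduct_smul, smul_eq_mul] at hgf
  rcases mul_eq_zero.1 hgf with h | h
  · rw [h, zero_smul] at hc; exact hf hc
  · exact he h

theorem exists_dot {e : ι → F} (he : e ≠ 0) : ∃ g : ι → F, g ⬝ᵥ e ≠ 0 := by
  obtain ⟨i, hi⟩ := Function.ne_iff.1 he
  exact ⟨Pi.single i 1, by rw [single_one_dotProduct]; exact hi⟩

/-- the data -/
structure LD (φ : K →* Matrix ι ι F) (J : Matrix ι ι F) (Q : (ι → F) → F) (κ : F) : Prop where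
  iso : ∀ g u v, bf J (φ g *ᵥ u) (φ g *ᵥ v) = bf J u v
  nd : ND J
  refl : ∀ u v, bf J u v = 0 → bf J v u = 0
  self : ∀ v, Q v = 0 → bf J v v = 0
  Qadd : ∀ u v, Q (u + v) = Q u + Q v + κ * bf J u v
  Qsmul : ∀ (c : F) v, Q (c • v) = c ^ 2 * Q v
  Qiso : ∀ g v, Q (φ g *ᵥ v) = Q v
  hκ : κ ≠ 0 ∨ ∀ v, Q v = 0

variable {φ : K →* Matrix ι ι F} {J : Matrix ι ι F} {Q : (ι → F) → F} {κ : F}

namespace LD

variable (h : LD φ J Q κ)

include h

theorem eq_smul {v r : ι → F} (hr : ∀ w, bf J v w = 0 → bf J w r = 0) : ∃ c : F, r = c • v :=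
  eq_smul_of_bf h.nd fun w hw => hr w (h.refl _ _ hw)

theorem exists_dual {e f : ι → F} (hef : Ind e f) : ∃ w, bf J e w = 1 ∧ bf J f w = 0 := by
  by_contra hno
  push Not at hno
  obtain ⟨c, hc⟩ := h.eq_smul (v := f) (r := e) fun w hw => by
    refine h.refl _ _ ?_
    by_contra hne
    apply hno ((bf J e w)⁻¹ • w)
    · rw [smul_right, inv_mul_cancel₀ hne]
    · rw [smul_right, hw, mul_zero]
  have := hef 1 (-c) (by rw [hc]; simp)
  exact one_ne_zero this.1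

/-- singular vectors in `v^⊥` span it modulo ... : the annihilator -/
theorem span {v : ι → F}
    (h2 : ∃ a, a ≠ 0 ∧ Q a = 0 ∧ bf J v a = 0 ∧ Ind v a) {t : ι → F}
    (ht : ∀ a, Q a = 0 → bf J v a = 0 → bf J a t = 0) : ∃ c : F, t = c • v := by
  by_contra hno
  -- the dichotomy
  have hdi : ∀ t, (∀ a, Q a = 0 → bf J v a = 0 → bf J a t = 0) → ∀ w, bf J v w = 0 →
      (∀ a, Q a = 0 → bf J v a = 0 → bf J a w = 0) ∨ bf J w t = 0 := by
    intro t ht w hw
    by_contra hcon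
    push Not at hcon
    obtain ⟨⟨a, ha, hva, haw⟩, hwt⟩ := hcon
    apply hwt
    rcases h.hκ with hκ | hQ
    · have hwa : bf J w a ≠ 0 := fun h0 => haw (h.refl _ _ h0)
      set s := -(Q w) / (κ * bf J w a) with hs
      have h3 : Q (w + s • a) = 0 := by
        rw [h.Qadd, h.Qsmul, ha, smul_right, hs]
        field_simp
        ring
      have h4 := ht _ h3 (by rw [add_right, smul_right, hw, hva, mul_zero, add_zero])
      rw [add_left, smul_left, ht a ha hva, mul_zero, add_zero] at h4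
      exact h4
    · exact ht w (hQ w) hw
  obtain ⟨w0, hw0, hw0t⟩ : ∃ w, bf J v w = 0 ∧ bf J w t ≠ 0 := by
    by_contra hcon
    push Not at hcon
    exact hno (h.eq_smul hcon)
  have hT0 := (hdi t ht w0 hw0).resolve_right hw0t
  have hall : ∀ w, bf J v w = 0 → ∀ a, Q a = 0 → bf J v a = 0 → bf J a w = 0 := by
    intro w hw a ha hva
    rcases hdi t ht w hw with h3 | h3
    · exact h3 a ha hva
    · have h4 := (hdi t ht (w + w0) (by rw [add_right, hw, hw0, add_zero])).resolve_right (by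
        rw [add_left, h3, zero_add]; exact hw0t) a ha hva
      rw [add_right, hT0 a ha hva, add_zero] at h4
      exact h4
  obtain ⟨a, ha0, ha, hva, hind⟩ := h2
  obtain ⟨c, hc⟩ := h.eq_smul (v := v) (r := a) fun w hw => h.refl _ _ (hall w hw a ha hva)
  have := hind (-c) 1 (by rw [hc]; simp)
  exact one_ne_zero this.2

/-- the existence of singular vectors in `v^⊥` -/
theorem exists_pair (H3 : ∀ u g : ι → F, ∃ v, v ≠ 0 ∧ Q v = 0 ∧ bf J u v = 0 ∧ g ⬝ᵥ v = 0) {v : ι → F} (hv : v ≠ 0) :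
    ∃ a, a ≠ 0 ∧ Q a = 0 ∧ bf J v a = 0 ∧ Ind v a := by
  obtain ⟨g, hg⟩ := exists_dot hv
  obtain ⟨a, ha, hQa, h3, h4⟩ := H3 v g
  exact ⟨a, ha, hQa, h3, ind_of_dot ha hg h4⟩

/-- if all singular vectors are eigenvectors, `Y` is scalar -/
theorem scalar_of_eigen (Y : K) (H3 : ∀ u g : ι → F, ∃ v, v ≠ 0 ∧ Q v = 0 ∧ bf J u v = 0 ∧ g ⬝ᵥ v = 0)
    (heig : ∀ v, v ≠ 0 → Q v = 0 → ∃ c : F, φ Y *ᵥ v = c • v) : ∃ c : F, φ Y = scalar ι c := by
  obtain ⟨e, he, hQe, -, -⟩ := H3 0 0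
  obtain ⟨f, -, hQf, -, hef⟩ := h.exists_pair H3 he
  choose! al hal using heig
  have heq : ∀ u v, u ≠ 0 → Q u = 0 → v ≠ 0 → Q v = 0 → bf J u v = 0 → al u = al v := by
    intro u v hu hQu hv hQv huv
    by_cases hc : ∃ c : F, v = c • u
    · obtain ⟨c, rfl⟩ := hc
      have h1 := hal _ hv hQv
      rw [mulVec_smul, hal u hu hQu, smul_smul, smul_smul, mul_comm c] at h1
      have h2 : (al u * c - al (c • u) * c) • u = 0 := by rw [sub_smul, h1, sub_self]
      rw [smul_eq_zero] at h2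
      have h3 := h2.resolve_right hu
      have hc0 : c ≠ 0 := fun h0 => hv (by rw [h0, zero_smul])
      rw [← sub_mul] at h3
      exact sub_eq_zero.1 ((mul_eq_zero.1 h3).resolve_right hc0)
    · push Not at hc
      have hi := ind_of hu hc
      have hs : u + v ≠ 0 := fun h0 => one_ne_zero (hi 1 1 (by rw [one_smul, one_smul, h0])).1
      have hQs : Q (u + v) = 0 := by rw [h.Qadd, hQu, hQv, huv]; ring
      have h1 := hal _ hs hQs
      rw [mulVec_add, hal u hu hQu, hal v hv hQv] at h1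
      have h2 := hi (al u - al (u + v)) (al v - al (u + v)) (by
        rw [sub_smul, sub_smul]
        rw [smul_add] at h1
        calc al u • u - al (u + v) • u + (al v • v - al (u + v) • v)
            = (al u • u + al v • v) - (al (u + v) • u + al (u + v) • v) := by abel
          _ = 0 := by rw [h1, sub_self])
      rw [sub_eq_zero.1 h2.1, sub_eq_zero.1 h2.2]
  have hconst : ∀ u v, u ≠ 0 → Q u = 0 → v ≠ 0 → Q v = 0 → al u = al v := by
    intro u v hu hQu hv hQv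
    obtain ⟨a, ha, hQa, h1, h2⟩ := H3 u (v ᵥ* J)
    rw [vecMul_eq] at h2
    rw [heq u a hu hQu ha hQa h1, heq v a hv hQv ha hQa h2]
  have hal0 : al e ≠ 0 := by
    intro h0
    apply hef.left_ne
    rw [← inv_mulVec φ Y e, hal e hef.left_ne hQe, h0, zero_smul, mulVec_zero]
  -- conclusion
  have hD : ∀ w, φ Y *ᵥ w = (al e)⁻¹ • w := by
    intro w
    have h1 : ∀ b, Q b = 0 → bf J b (φ Y *ᵥ w - (al e)⁻¹ • w) = 0 := by
      intro b hb
      by_cases hb0 : b = 0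
      · rw [hb0, zero_left]
      have h2 := h.iso Y b w
      rw [hal b hb0 hb, hconst b e hb0 hb hef.left_ne hQe, smul_left] at h2
      rw [sub_right, smul_right, ← h2]
      field_simp
      ring
    obtain ⟨c, hc⟩ := h.span (h.exists_pair H3 hef.left_ne) fun a ha _ => h1 a ha
    obtain ⟨d, hd⟩ := h.span (h.exists_pair H3 hef.right_ne) fun a ha _ => h1 a ha
    have h2 := hef c (-d) (by rw [← hc, neg_smul, ← hd]; abel)
    rw [h2.1, zero_smul] at hc
    exact sub_eq_zero.1 hc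
  exact exists_scalar fun v => ⟨_, hD v⟩

/-- **The line argument.** -/
theorem scalar_of_trans (Y : K)
    (hT : ∀ e f e' f', Ind e f → Q e = 0 → Q f = 0 → bf J e f = 0 → Ind e' f' → Q e' = 0 → Q f' = 0 →
      bf J e' f' = 0 → ∃ (C : K) (ζ : F), ζ ≠ 0 ∧ (∀ w, φ C *ᵥ (φ Y *ᵥ w) = ζ • (φ Y *ᵥ (φ C *ᵥ w))) ∧
        (∃ a b : F, e' = a • (φ C *ᵥ e) + b • (φ C *ᵥ f)) ∧ ∃ a b : F, f' = a • (φ C *ᵥ e) + b • (φ C *ᵥ f))
    (H1 : ∃ u, u ≠ 0 ∧ Q u = 0 ∧ bf J u (φ Y *ᵥ u) = 0 ∧ bf J u (φ Y *ᵥ (φ Y *ᵥ u)) = 0)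
    (H2 : ∀ u g : ι → F, ∃ v, v ≠ 0 ∧ Q v = 0 ∧ bf J v (φ Y *ᵥ v) = 0 ∧ bf J u v = 0 ∧ g ⬝ᵥ v = 0) :
    ∃ c : F, φ Y = scalar ι c := by
  have H3 : ∀ u g : ι → F, ∃ v, v ≠ 0 ∧ Q v = 0 ∧ bf J u v = 0 ∧ g ⬝ᵥ v = 0 := by
    intro u g
    obtain ⟨v, h1, h2, -, h4, h5⟩ := H2 u g
    exact ⟨v, h1, h2, h4, h5⟩
  -- a line
  obtain ⟨e, f, hef, hQe, hQf, hBef, hee, hef', hfe, hff⟩ : ∃ e f, Ind e f ∧ Q e = 0 ∧ Q f = 0 ∧ bf J e f = 0 ∧
      bf J e (φ Y *ᵥ e) = 0 ∧ bf J e (φ Y *ᵥ f) = 0 ∧ bf J f (φ Y *ᵥ e) = 0 ∧ bf J f (φ Y *ᵥ f) = 0 := by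
    obtain ⟨u, hu, hQu, hu1, hu2⟩ := H1
    by_cases hc : ∃ c : F, φ Y *ᵥ u = c • u
    · obtain ⟨c, hc⟩ := hc
      obtain ⟨g, hg⟩ := exists_dot hu
      obtain ⟨v, hv, hQv, hv1, hv2, hv3⟩ := H2 u g
      have hc0 : c ≠ 0 := by
        rintro rfl
        rw [zero_smul] at hc
        apply hu
        rw [← inv_mulVec φ Y u, hc, mulVec_zero]
      refine ⟨u, v, ind_of_dot hv hg hv3, hQu, hQv, hv2, hu1, ?_, ?_, hv1⟩
      · have h3 := h.iso Y u v
        rw [hc, smul_left, hv2] at h3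
        exact (mul_eq_zero.1 h3).resolve_left hc0
      · rw [hc, smul_right, h.refl _ _ hv2, mul_zero]
    · push Not at hc
      refine ⟨u, φ Y *ᵥ u, ind_of hu hc, hQu, ?_, hu1, hu1, hu2, ?_, ?_⟩
      · rw [h.Qiso, hQu]
      · exact h.self _ (by rw [h.Qiso, hQu])
      · rw [h.iso, hu1]
  -- all lines
  have hline : ∀ e' f', Ind e' f' → Q e' = 0 → Q f' = 0 → bf J e' f' = 0 →
      bf J e' (φ Y *ᵥ e') = 0 ∧ bf J e' (φ Y *ᵥ f') = 0 := by
    intro e' f' hi h1 h2 h3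
    obtain ⟨C, ζ, hζ, hCY, ⟨a, b, hab⟩, ⟨a', b', hab'⟩⟩ := hT e f e' f' hef hQe hQf hBef hi h1 h2 h3
    have key : ∀ x y, bf J x (φ Y *ᵥ y) = 0 → bf J (φ C *ᵥ x) (φ Y *ᵥ (φ C *ᵥ y)) = 0 := by
      intro x y hxy
      have h4 : φ Y *ᵥ (φ C *ᵥ y) = ζ⁻¹ • (φ C *ᵥ (φ Y *ᵥ y)) := by
        rw [hCY, smul_smul, inv_mul_cancel₀ hζ, one_smul]
      rw [h4, smul_right, h.iso, hxy, mul_zero]
    rw [hab, hab']
    simp only [mulVec_add, mulVec_smul, add_left, add_right, smul_left, smul_right, key e e hee, key e f hef',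
      key f e hfe, key f f hff]
    constructor <;> ring
  refine h.scalar_of_eigen Y H3 fun v hv hQv => h.span (h.exists_pair H3 hv) fun a ha hva => ?_
  by_cases hc : ∃ c : F, a = c • v
  · obtain ⟨c, rfl⟩ := hc
    obtain ⟨b, -, hQb, hvb, hind⟩ := h.exists_pair H3 hv
    rw [smul_left, (hline v b hind hQv hQb hvb).1, mul_zero]
  · push Not at hc
    exact (hline a v (ind_of hv hc).symm ha hQv (h.refl _ _ hva)).2

/-- **Lines from the shape of the elements.** -/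
theorem line_of_form {C : K} {e f e' f' : ι → F} (hef' : Ind e' f') {l l' c c' : F}
    (hc' : c' ≠ 0) (hl' : l' ≠ 0)
    (h1 : ∀ w, l • (φ C *ᵥ w) + (l * c) • (bf J e w • (φ C *ᵥ f) - bf J f w • (φ C *ᵥ e)) =
      l' • (φ C *ᵥ w) + (l' * c') • (bf J e' (φ C *ᵥ w) • f' - bf J f' (φ C *ᵥ w) • e'))
    (hll : l = l') :
    (∃ a b : F, e' = a • (φ C *ᵥ e) + b • (φ C *ᵥ f)) ∧ ∃ a b : F, f' = a • (φ C *ᵥ e) + b • (φ C *ᵥ f) := by
  have h2 : ∀ w, (l * c) • (bf J e w • (φ C *ᵥ f) - bf J f w • (φ C *ᵥ e)) =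
      (l' * c') • (bf J e' (φ C *ᵥ w) • f' - bf J f' (φ C *ᵥ w) • e') := by
    intro w
    have := h1 w
    rw [hll] at this ⊢
    exact add_left_cancel this
  have hlc : l' * c' ≠ 0 := mul_ne_zero hl' hc'
  constructor
  · obtain ⟨w, hw1, hw2⟩ := h.exists_dual hef'.symm
    have h3 := h2 (φ C⁻¹ *ᵥ w)
    rw [mulVec_inv, hw1, hw2, zero_smul, one_smul, zero_sub] at h3
    have h4 := congrArg (fun t => ((l' * c')⁻¹) • t) h3
    simp only [smul_smul, smul_neg] at h4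
    rw [inv_mul_cancel₀ hlc, one_smul] at h4
    refine ⟨(l' * c')⁻¹ * (l * c) * bf J f (φ C⁻¹ *ᵥ w), -((l' * c')⁻¹ * (l * c) * bf J e (φ C⁻¹ *ᵥ w)), ?_⟩
    rw [← neg_neg e', ← h4, smul_sub, smul_smul, smul_smul, neg_smul]
    abel
  · obtain ⟨w, hw1, hw2⟩ := h.exists_dual hef'
    have h3 := h2 (φ C⁻¹ *ᵥ w)
    rw [mulVec_inv, hw1, hw2, zero_smul, one_smul, sub_zero] at h3
    have h4 := congrArg (fun t => ((l' * c')⁻¹) • t) h3
    simp only [smul_smul] at h4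
    rw [inv_mul_cancel₀ hlc, one_smul] at h4
    refine ⟨-((l' * c')⁻¹ * (l * c) * bf J f (φ C⁻¹ *ᵥ w)), (l' * c')⁻¹ * (l * c) * bf J e (φ C⁻¹ *ᵥ w), ?_⟩
    rw [← h4, smul_sub, smul_smul, smul_smul, neg_smul]
    abel

end LD

end Cfsg.Agent.H530.Line
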