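import Cfsg.Agent.H530.Cop

/-!
# Transitivity on objects attached to `p`-subgroups (helper530, for S4158)

`exists_pair` : let `x`, `y` have coprime class sizes, `p ∤ |x^G|`, and let `U o` be `p`-subgroups (`o : O`). For all
`o`, `o'` there are a conjugate `z` of `x` and `c ∈ C(y)` such that `z` centralizes `U o` and `c z c⁻¹` centralizes
`U o'`. (Use: if `z` determines the geometric object `o` then `c` maps `o` to `o'`.)
-/

set_option autoImplicit false

namespace Cfsg.Agent.H530.Cop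

open Subgroup

variable {G : Type*} [Group G]

theorem exists_pair [Finite G] {p : ℕ} (hp : p.Prime) {x y : G} (hc : (ci x).Coprime (ci y)) (hpx : ¬ p ∣ ci x)
    {O : Type*} (U : O → Subgroup G) (hU : ∀ o, IsPGroup p (U o)) (o o' : O) :
    ∃ z c : G, c * y = y * c ∧ (∃ g : G, z = g * x * g⁻¹) ∧ (∀ u ∈ U o, u * z = z * u) ∧
      ∀ u ∈ U o', u * (c * z * c⁻¹) = c * z * c⁻¹ * u := by
  obtain ⟨g, hg⟩ := exists_conj_le hp hpx (hU o)
  obtain ⟨g', hg'⟩ := exists_conj_le hp hpx (hU o')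
  obtain ⟨a, ha, ha'⟩ := exists_conj hc g
  obtain ⟨b, hb, hb'⟩ := exists_conj hc g'
  refine ⟨g * x * g⁻¹, b * a⁻¹, ?_, ⟨g, rfl⟩, hg, ?_⟩
  · have h1 : a⁻¹ * y = y * a⁻¹ := by
      calc a⁻¹ * y = a⁻¹ * (y * a) * a⁻¹ := by group
        _ = a⁻¹ * (a * y) * a⁻¹ := by rw [ha]
        _ = _ := by group
    rw [mul_assoc, h1, ← mul_assoc, hb, mul_assoc]
  · have h2 : b * a⁻¹ * (g * x * g⁻¹) * (b * a⁻¹)⁻¹ = g' * x * g'⁻¹ := by
      rw [ha', hb']
      group
    rw [h2]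
    exact hg'

section Lift

variable {K : Type*} [Group K]

/-- lifts of commuting elements -/
theorem exists_zeta {a b : K} (h : (a : K ⧸ center K) * (b : K ⧸ center K) = b * a) :
    ∃ ζ ∈ center K, a * b = ζ * (b * a) := by
  rw [← QuotientGroup.mk_mul, ← QuotientGroup.mk_mul, QuotientGroup.eq] at h
  refine ⟨(b * a) * ((a * b)⁻¹ * (b * a))⁻¹ * (b * a)⁻¹, ?_, by group⟩
  exact (inferInstance : (center K).Normal).conj_mem _ (inv_mem h) _

/-- an element whose image commutes with the image of a `p`-element `u` commutes with `u` -/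
theorem comm_of_comm {p : ℕ} (hZ : ∀ z ∈ center K, ∀ k : ℕ, z ^ p ^ k = 1 → z = 1) {u x : K} {k : ℕ}
    (hu : u ^ p ^ k = 1) (h : (u : K ⧸ center K) * (x : K ⧸ center K) = x * u) : u * x = x * u := by
  obtain ⟨ζ, hζ, he⟩ := exists_zeta h
  have hc : ∀ g, ζ * g = g * ζ := fun g => (mem_center_iff.1 hζ g).symm
  have h1 : x⁻¹ * u * x = ζ * u := by
    calc x⁻¹ * u * x = x⁻¹ * (u * x) := by group
      _ = x⁻¹ * (ζ * (x * u)) := by rw [he]
      _ = x⁻¹ * (ζ * x) * u := by group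
      _ = x⁻¹ * (x * ζ) * u := by rw [hc]
      _ = ζ * u := by group
  have h2 : (x⁻¹ * u * x) ^ p ^ k = 1 := by
    have h3 : (x⁻¹ * u * x) ^ p ^ k = x⁻¹ * u ^ p ^ k * x := by
      have := conj_pow (i := p ^ k) (a := x⁻¹) (b := u)
      rwa [inv_inv] at this
    rw [h3, hu]
    group
  have h3 : (ζ * u) ^ p ^ k = ζ ^ p ^ k * u ^ p ^ k := (show Commute ζ u from hc u).mul_pow _
  rw [← h1, h2, hu, mul_one] at h3
  rw [he, hZ ζ hζ k h3.symm, one_mul]

end Lift

end Cfsg.Agent.H530.Cop
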