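import Cfsg.Agent.H530.Line

/-!
# The arguments with points, and with lines in dimension 4 (helper530, for S4158)

* `scalar_of_points` : `Y` preserves a symplectic form, and the elements commuting with `Y` up to scalars are transitive
  on points; then `Y` is scalar if `bf v (Y v) = 0` for some `v ≠ 0`;
* `scalar_of_lines_four` : the same with totally isotropic lines, for exactly commuting elements.
-/

set_option autoImplicit false
set_option linter.unusedSectionVars false

namespace Cfsg.Agent.H530.Line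

open Matrix Subgroup Cfsg.Agent.H530.Cop Cfsg.Agent.H530.LinTools Cfsg.Agent.H530.Flag Cfsg.Agent.H530.Form

variable {F : Type*} [Field F] {ι : Type*} [Fintype ι] [DecidableEq ι] {K : Type*} [Group K]

variable {φ : K →* Matrix ι ι F} {J : Matrix ι ι F}

theorem scalar_of_points (h : LD φ J (fun _ => 0) 0) (Y : K)
    (hT : ∀ e e' : ι → F, e ≠ 0 → e' ≠ 0 → ∃ (C : K) (ζ : F), ζ ≠ 0 ∧
      (∀ w, φ C *ᵥ (φ Y *ᵥ w) = ζ • (φ Y *ᵥ (φ C *ᵥ w))) ∧ ∃ s : F, e' = s • (φ C *ᵥ e))
    (H : ∃ u, u ≠ 0 ∧ bf J u (φ Y *ᵥ u) = 0) : ∃ c : F, φ Y = scalar ι c := by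
  obtain ⟨u, hu, huY⟩ := H
  -- all points
  have hall : ∀ v, bf J v (φ Y *ᵥ v) = 0 := by
    intro v
    by_cases hv : v = 0
    · rw [hv, zero_left]
    obtain ⟨C, ζ, hζ, hCY, s, hs⟩ := hT u v hu hv
    have h4 : φ Y *ᵥ (φ C *ᵥ u) = ζ⁻¹ • (φ C *ᵥ (φ Y *ᵥ u)) := by
      rw [hCY, smul_smul, inv_mul_cancel₀ hζ, one_smul]
    rw [hs, mulVec_smul, h4, smul_left, smul_right, smul_right, h.iso, huY]
    ring
  have hself : ∀ v, bf J v v = 0 := fun v => h.self v rfl
  have hcomm : ∀ v w, bf J v w = -bf J w v := by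
    intro v w
    have h1 := hself (v + w)
    rw [add_left, add_right, add_right, hself, hself] at h1
    linear_combination h1
  -- `Y ^ 2 = 1`
  have hsq : ∀ w, φ Y *ᵥ (φ Y *ᵥ w) = w := by
    intro w
    have h1 : ∀ v w, bf J v (φ Y *ᵥ w) = bf J (φ Y *ᵥ v) w := by
      intro v w
      have h2 := hall (v + w)
      rw [mulVec_add, add_left, add_right, add_right, hall, hall] at h2
      rw [hcomm (φ Y *ᵥ v) w]
      linear_combination h2
    refine sub_eq_zero.1 (h.nd _ fun v => ?_)
    rw [sub_right, h1, h.iso, sub_self]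
  -- an eigenvector
  obtain ⟨e, c, he, hec⟩ : ∃ (e : ι → F) (c : F), e ≠ 0 ∧ φ Y *ᵥ e = c • e := by
    by_cases h1 : φ Y *ᵥ u + u = 0
    · exact ⟨u, -1, hu, by rw [neg_one_smul]; exact eq_neg_of_add_eq_zero_left h1⟩
    · refine ⟨φ Y *ᵥ u + u, 1, h1, ?_⟩
      rw [mulVec_add, hsq, one_smul, add_comm]
  refine exists_scalar fun v => ?_
  by_cases hv : v = 0
  · exact ⟨0, by rw [hv, mulVec_zero, smul_zero]⟩
  obtain ⟨C, ζ, hζ, hCY, s, hs⟩ := hT e v he hv
  have h4 : φ Y *ᵥ (φ C *ᵥ e) = ζ⁻¹ • (φ C *ᵥ (φ Y *ᵥ e)) := by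
    rw [hCY, smul_smul, inv_mul_cancel₀ hζ, one_smul]
  refine ⟨ζ⁻¹ * c, ?_⟩
  rw [hs, mulVec_smul, h4, hec, mulVec_smul, smul_smul, smul_smul, smul_smul]
  congr 1
  ring

theorem LD.perp_line (h : LD φ J (fun _ => 0) 0) (hcard : Fintype.card ι = 4) {e f w : ι → F} (hi : Ind e f)
    (hb : bf J e f = 0) (he : bf J e w = 0) (hf : bf J f w = 0) : ∃ a b : F, w = a • e + b • f := by
  obtain ⟨w1, hw1, hw1'⟩ := h.exists_dual hi
  obtain ⟨w2, hw2, hw2'⟩ := h.exists_dual hi.symm
  let T : (ι → F) →ₗ[F] (F × F) :=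
    { toFun := fun x => (bf J e x, bf J f x)
      map_add' := fun x y => by rw [add_right, add_right]; rfl
      map_smul' := fun c x => by rw [smul_right, smul_right]; rfl }
  have hsurj : LinearMap.range T = ⊤ := by
    rw [LinearMap.range_eq_top]
    rintro ⟨x, y⟩
    refine ⟨x • w1 + y • w2, ?_⟩
    change (bf J e (x • w1 + y • w2), bf J f (x • w1 + y • w2)) = (x, y)
    rw [add_right, add_right, smul_right, smul_right, smul_right, smul_right, hw1, hw1', hw2, hw2']
    simp
  have h1 := LinearMap.finrank_range_add_finrank_ker T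
  rw [hsurj, finrank_top, Module.finrank_prod, Module.finrank_self, Module.finrank_fintype_fun_eq_card, hcard] at h1
  have hli : LinearIndependent F ![e, f] := LinearIndependent.pair_iff.2 hi
  have h2 := finrank_span_eq_card hli
  rw [Fintype.card_fin] at h2
  have hle : Submodule.span F (Set.range ![e, f]) ≤ LinearMap.ker T := by
    rw [Submodule.span_le]
    rintro _ ⟨i, rfl⟩
    fin_cases i
    · change (bf J e e, bf J f e) = (0, 0)
      rw [h.self e rfl, h.refl _ _ hb]
    · change (bf J e f, bf J f f) = (0, 0)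
      rw [hb, h.self f rfl]
  have heq := Submodule.eq_of_le_of_finrank_eq hle (by rw [h2]; omega)
  have h3 : w ∈ LinearMap.ker T := by
    change (bf J e w, bf J f w) = (0, 0)
    rw [he, hf]
  rw [← heq, show Set.range ![e, f] = {e, f} by simp [Set.pair_comm], Submodule.mem_span_pair] at h3
  obtain ⟨a, b, hab⟩ := h3
  exact ⟨a, b, hab.symm⟩

theorem scalar_of_lines_four [Fintype F] (h : LD φ J (fun _ => 0) 0) (hcard : Fintype.card ι = 4) (Y : K)
    (hT : ∀ e f e' f', Ind e f → bf J e f = 0 → Ind e' f' → bf J e' f' = 0 →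
      ∃ C : K, (∀ w, φ C *ᵥ (φ Y *ᵥ w) = φ Y *ᵥ (φ C *ᵥ w)) ∧
        (∃ a b : F, e' = a • (φ C *ᵥ e) + b • (φ C *ᵥ f)) ∧ ∃ a b : F, f' = a • (φ C *ᵥ e) + b • (φ C *ᵥ f))
    (H : ∃ u, u ≠ 0 ∧ bf J u (φ Y *ᵥ u) = 0) : ∃ c : F, φ Y = scalar ι c := by
  have hself : ∀ v, bf J v v = 0 := fun v => h.self v rfl
  -- vectors outside
  have hperp1 : ∀ v : ι → F, v ≠ 0 → ∃ b, Ind v b ∧ bf J v b = 0 := by
    intro v hv
    obtain ⟨w, hw⟩ := exists_ne_zero h.nd hv
    obtain ⟨x, hx, hx'⟩ := exists_perp J ![v, w] (by omega)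
    have h1 := hx' 0
    have h2 := hx' 1
    simp only [cons_val_zero, cons_val_one] at h1 h2
    refine ⟨x, ind_of hv fun c hc => ?_, h1⟩
    rw [hc, smul_right] at h2
    rcases mul_eq_zero.1 h2 with h3 | h3
    · exact hx (by rw [hc, h3, zero_smul])
    · exact hw h3
  -- the transitivity with `L`
  have hT' : ∀ e f e' f', Ind e f → bf J e f = 0 → Ind e' f' → bf J e' f' = 0 →
      ∃ C : K, (∀ w, φ C *ᵥ (φ Y *ᵥ w) = φ Y *ᵥ (φ C *ᵥ w)) ∧
        ∀ a b : F, ∃ c d : F, a • (φ C *ᵥ e) + b • (φ C *ᵥ f) = c • e' + d • f' := by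
    intro e f e' f' hi hb hi' hb'
    obtain ⟨C, hC, ⟨a, b, hab⟩, ⟨a', b', hab'⟩⟩ := hT e f e' f' hi hb hi' hb'
    have hdet : a * b' - a' * b ≠ 0 := by
      intro h0
      have h1 : b' • e' - b • f' = (a * b' - a' * b) • (φ C *ᵥ e) := by
        rw [hab, hab', smul_add, smul_add, smul_smul, smul_smul, smul_smul, smul_smul, sub_smul, mul_comm b' b,
          mul_comm b' a, mul_comm b a']
        abel
      have h2 : (-a') • e' + a • f' = (a * b' - a' * b) • (φ C *ᵥ f) := by
        rw [hab, hab', smul_add, smul_add, smul_smul, smul_smul, smul_smul, smul_smul, sub_smul, neg_mul, neg_mul,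
          neg_smul, neg_smul, mul_comm a' a]
        abel
      rw [h0, zero_smul] at h1 h2
      have h3 := hi' b' (-b) (by rw [neg_smul, ← sub_eq_add_neg, h1])
      have h4 := hi' _ _ h2
      rw [h4.2, show b = 0 from neg_eq_zero.1 h3.2, zero_smul, zero_smul, zero_add] at hab
      exact hi'.left_ne hab
    refine ⟨C, hC, fun s t => ?_⟩
    have h1 : φ C *ᵥ e = ((a * b' - a' * b)⁻¹ * b') • e' + ((a * b' - a' * b)⁻¹ * (-b)) • f' := by
      have h1 : (a * b' - a' * b) • (φ C *ᵥ e) = b' • e' + (-b) • f' := by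
        rw [hab, hab', smul_add, smul_add, smul_smul, smul_smul, smul_smul, smul_smul, sub_smul, mul_comm b' b,
          mul_comm b' a, neg_mul, neg_mul, neg_smul, neg_smul, mul_comm b a']
        abel
      rw [← smul_smul, ← smul_smul, ← smul_add, ← h1, smul_smul, inv_mul_cancel₀ hdet, one_smul]
    have h2 : φ C *ᵥ f = ((a * b' - a' * b)⁻¹ * (-a')) • e' + ((a * b' - a' * b)⁻¹ * a) • f' := by
      have h1 : (a * b' - a' * b) • (φ C *ᵥ f) = (-a') • e' + a • f' := by
        rw [hab, hab', smul_add, smul_add, smul_smul, smul_smul, smul_smul, smul_smul, sub_smul, neg_mul, neg_mul,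
          neg_smul, neg_smul, mul_comm a' a]
        abel
      rw [← smul_smul, ← smul_smul, ← smul_add, ← h1, smul_smul, inv_mul_cancel₀ hdet, one_smul]
    rw [h1, h2]
    refine ⟨s * ((a * b' - a' * b)⁻¹ * b') + t * ((a * b' - a' * b)⁻¹ * (-a')),
      s * ((a * b' - a' * b)⁻¹ * (-b)) + t * ((a * b' - a' * b)⁻¹ * a), ?_⟩
    rw [smul_add, smul_add, smul_smul, smul_smul, smul_smul, smul_smul, add_smul, add_smul]
    abel
  by_cases hev : ∃ (v : ι → F) (μ : F), v ≠ 0 ∧ φ Y *ᵥ v = μ • v
  · obtain ⟨v, μ, hv, hμ⟩ := hev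
    by_cases hE : ∃ e f : ι → F, Ind e f ∧ bf J e f = 0 ∧ φ Y *ᵥ e = μ • e ∧ φ Y *ᵥ f = μ • f
    · obtain ⟨e, f, hi, hb, he, hf⟩ := hE
      refine exists_scalar fun w => ⟨μ, ?_⟩
      by_cases hw : w = 0
      · rw [hw, mulVec_zero, smul_zero]
      obtain ⟨b, hwb, hwb'⟩ := hperp1 w hw
      obtain ⟨C, hC, ⟨s, t, hst⟩, -⟩ := hT e f w b hi hb hwb hwb'
      rw [hst, mulVec_add, mulVec_smul, mulVec_smul, ← hC, ← hC, he, hf, mulVec_smul, mulVec_smul, smul_add,
        smul_comm s μ, smul_comm t μ]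
    · exfalso
      push Not at hE
      -- each line contains an eigenvector
      have hline : ∀ e' f', Ind e' f' → bf J e' f' = 0 → ∃ c d : F, c • e' + d • f' ≠ 0 ∧
          φ Y *ᵥ (c • e' + d • f') = μ • (c • e' + d • f') := by
        intro e' f' hi' hb'
        obtain ⟨b, hvb, hvb'⟩ := hperp1 v hv
        obtain ⟨C, hC, h1⟩ := hT' v b e' f' hvb hvb' hi' hb'
        obtain ⟨c, d, hcd⟩ := h1 1 0
        rw [one_smul, zero_smul, add_zero] at hcd
        refine ⟨c, d, ?_, ?_⟩
        · rw [← hcd]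
          intro h0
          apply hv
          rw [← inv_mulVec φ C v, h0, mulVec_zero]
        · rw [← hcd, ← hC, hμ, mulVec_smul]
      have hdu : ∀ b, Ind v b → bf J v b = 0 → ∃ c, φ Y *ᵥ c = μ • c ∧ bf J b c = 0 ∧ bf J v c = 1 := by
        intro b hvb hvb'
        obtain ⟨c0, hc1, hc2⟩ := h.exists_dual hvb
        have hi : Ind b c0 := by
          intro s t hst
          have h1 := congrArg (bf J v) hst
          rw [add_right, smul_right, smul_right, hvb', hc1, zero_right] at h1
          have ht : t = 0 := by simpa using h1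
          rw [ht, zero_smul, add_zero, smul_eq_zero] at hst
          exact ⟨hst.resolve_right hvb.right_ne, ht⟩
        obtain ⟨s, t, hne, hst⟩ := hline b c0 hi hc2
        have ht : t ≠ 0 := by
          rintro rfl
          rw [zero_smul, add_zero] at hne hst
          have hs : s ≠ 0 := fun h0 => hne (by rw [h0, zero_smul])
          refine hE v b hvb hvb' hμ ?_
          have h2 := congrArg (fun x => s⁻¹ • x) hst
          simp only [mulVec_smul, smul_smul] at h2
          rw [inv_mul_cancel₀ hs, one_smul, show s⁻¹ * (μ * s) = μ by field_simp] at h2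
          exact h2
        refine ⟨t⁻¹ • (s • b + t • c0), ?_, ?_, ?_⟩
        · rw [mulVec_smul, hst, smul_comm]
        · rw [smul_right, add_right, smul_right, smul_right, hself, hc2]; ring
        · rw [smul_right, add_right, smul_right, smul_right, hvb', hc1]
          field_simp
          ring
      obtain ⟨b, hvb, hvb'⟩ := hperp1 v hv
      obtain ⟨c, hc1, hc2, hc3⟩ := hdu b hvb hvb'
      obtain ⟨c', hc1', hc2', hc3'⟩ := hdu (b + v) (by
        intro s t hst
        obtain ⟨h1, h2⟩ := hvb (s + t) t (by rw [← hst, add_smul, smul_add]; abel)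
        rw [h2, add_zero] at h1
        exact ⟨h1, h2⟩) (by rw [add_right, hvb', hself, add_zero])
      by_cases hd : ∃ s : F, c - c' = s • v
      · obtain ⟨s, hs⟩ := hd
        have h1 : c' = c - s • v := by rw [← hs]; abel
        rw [h1, sub_right, smul_right, add_left, add_left, hc2, hc3, hself, h.refl _ _ hvb'] at hc2'
        simp at hc2'
      · push Not at hd
        exact hE v (c - c') (ind_of hv hd) (by rw [sub_right, hc3, hc3', sub_self]) hμ
          (by rw [mulVec_sub, hc1, hc1', smul_sub])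
  · exfalso
    push Not at hev
    obtain ⟨u, hu, huY⟩ := H
    have hi : Ind u (φ Y *ᵥ u) := ind_of hu fun c => hev u c hu
    -- each line contains `s ≠ 0` with `Y s` in the line
    have hline : ∀ e' f', Ind e' f' → bf J e' f' = 0 → ∃ c d c' d' : F, c • e' + d • f' ≠ 0 ∧
        φ Y *ᵥ (c • e' + d • f') = c' • e' + d' • f' := by
      intro e' f' hi' hb'
      obtain ⟨C, hC, h1⟩ := hT' u (φ Y *ᵥ u) e' f' hi huY hi' hb'
      obtain ⟨c, d, hcd⟩ := h1 1 0
      obtain ⟨c', d', hcd'⟩ := h1 0 1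
      rw [one_smul, zero_smul, add_zero] at hcd
      rw [one_smul, zero_smul, zero_add] at hcd'
      refine ⟨c, d, c', d', ?_, ?_⟩
      · rw [← hcd]
        intro h0
        apply hu
        rw [← inv_mulVec φ C u, h0, mulVec_zero]
      · rw [← hcd, ← hC, hcd']
    obtain ⟨w1, hw1, hw1'⟩ := h.exists_dual hi
    obtain ⟨w2, hw2, hw2'⟩ := h.exists_dual hi.symm
    obtain ⟨b, hb, hb'⟩ := exists_perp J ![u, w1, w2] (by omega)
    have h1 := hb' 0
    have h2 := hb' 1
    have h3 := hb' 2
    simp only [cons_val_zero, cons_val_one, cons_val_two] at h1 h2 h3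
    have hcomm : ∀ v w, bf J v w = -bf J w v := by
      intro v w
      have h1 := hself (v + w)
      rw [add_left, add_right, add_right, hself, hself] at h1
      linear_combination h1
    -- independence
    have hind : ∀ x y z : F, x • u + y • b + z • (φ Y *ᵥ u) = 0 → x = 0 ∧ y = 0 ∧ z = 0 := by
      intro x y z hxyz
      have e1 := congrArg (bf J w1) hxyz
      have e2 := congrArg (bf J w2) hxyz
      rw [add_right, add_right, smul_right, smul_right, smul_right, zero_right, hcomm w1 u, hw1,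
        hcomm w1 (φ Y *ᵥ u), hw1', h2] at e1
      rw [add_right, add_right, smul_right, smul_right, smul_right, zero_right, hcomm w2 u, hw2',
        hcomm w2 (φ Y *ᵥ u), hw2] at e2
      have h3' : bf J w2 b = 0 := h3
      rw [h3'] at e2
      have hx : x = 0 := by linear_combination -e1
      have hz : z = 0 := by linear_combination -e2
      rw [hx, hz, zero_smul, zero_smul, zero_add, add_zero, smul_eq_zero] at hxyz
      exact ⟨hx, hxyz.resolve_right hb, hz⟩
    have key : ∀ b' : ι → F, bf J u b' = 0 →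
        (∀ x y z : F, x • u + y • b' + z • (φ Y *ᵥ u) = 0 → x = 0 ∧ y = 0 ∧ z = 0) →
        ∃ s t : F, φ Y⁻¹ *ᵥ u = s • u + t • b' := by
      intro b' hub hind'
      obtain ⟨c, d, c', d', hne, hY⟩ := hline u b' (fun s t hst => by
        have h4 := hind' s t 0 (by rw [zero_smul, add_zero, hst])
        exact ⟨h4.1, h4.2.1⟩) hub
      set s := c • u + d • b' with hs
      have e1 : bf J (φ Y *ᵥ u) (φ Y *ᵥ s) = 0 := by
        rw [h.iso, hs, add_right, smul_right, smul_right, hself, hub]; ring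
      -- `Y s ∈ ⟨u, Y u⟩`
      have e2 : d' = 0 := by
        obtain ⟨x, y, hxy⟩ := h.perp_line hcard hi huY (w := φ Y *ᵥ s)
          (by rw [hY, add_right, smul_right, smul_right, hself, hub]; ring) e1
        rw [hY] at hxy
        have h5 := hind' (c' - x) d' (-y) (by
          have : (c' - x) • u + d' • b' + (-y) • (φ Y *ᵥ u) = (c' • u + d' • b') - (x • u + y • (φ Y *ᵥ u)) := by
            rw [sub_smul, neg_smul]; abel
          rw [this, hxy, sub_self])
        exact h5.2.1
      rw [e2, zero_smul, add_zero] at hY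
      have hc0 : c' ≠ 0 := by
        rintro rfl
        rw [zero_smul] at hY
        apply hne
        rw [← inv_mulVec φ Y s, hY, mulVec_zero]
      have h6 : s = c' • (φ Y⁻¹ *ᵥ u) := by
        rw [← mulVec_smul, ← hY, inv_mulVec]
      refine ⟨c'⁻¹ * c, c'⁻¹ * d, ?_⟩
      rw [← smul_smul, ← smul_smul, ← smul_add, ← hs, h6, smul_smul, inv_mul_cancel₀ hc0, one_smul]
    obtain ⟨s, t, hst⟩ := key b h1 hind
    obtain ⟨s', t', hst'⟩ := key (b + φ Y *ᵥ u) (by rw [add_right, huY]; simpa using h1) (by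
      intro x y z hxyz
      have h4 := hind x y (y + z) (by rw [← hxyz, smul_add, add_smul]; abel)
      obtain ⟨h5, h6, h7⟩ := h4
      rw [h6, zero_add] at h7
      exact ⟨h5, h6, h7⟩)
    have h4 := hind (s - s') (t - t') (-t') (by
      have : (s - s') • u + (t - t') • b + (-t') • (φ Y *ᵥ u) =
          (s • u + t • b) - (s' • u + t' • (b + φ Y *ᵥ u)) := by
        rw [sub_smul, sub_smul, neg_smul, smul_add]; abel
      rw [this, ← hst, ← hst', sub_self])
    have h5 : t' = 0 := neg_eq_zero.1 h4.2.2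
    rw [h5, zero_smul, add_zero] at hst'
    have hs0 : s' ≠ 0 := by
      rintro rfl
      rw [zero_smul] at hst'
      apply hu
      rw [← mulVec_inv φ Y u, hst', mulVec_zero]
    apply hev u s'⁻¹ hu
    have h6 := congrArg (fun x => φ Y *ᵥ x) hst'
    simp only [mulVec_inv, mulVec_smul] at h6
    conv_rhs => rw [h6]
    rw [smul_smul, inv_mul_cancel₀ hs0, one_smul]

end Cfsg.Agent.H530.Line
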