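import Cfsg.Agent.H530.Flag

/-!
# No coprime class sizes in `PSL_n(F)`, `n ≥ 3` (helper530, for S4158)

`z ∈ SL_n` centralizing the radical `U v f` of the stabilizer of an incident point-hyperplane pair is
`λ + b (v ⊗ f)`. Hence `C(y)` is transitive on these pairs, if `x`, `y` have coprime class sizes. So `f (y v) = 0` for
all pairs or for none.
-/

set_option autoImplicit false
set_option linter.unusedSectionVars false

namespace Cfsg.Agent.H530.Psl

open Matrix Subgroup Cfsg.Agent.H530.Cop Cfsg.Agent.H530.LinTools Cfsg.Agent.H530.Flag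

variable {F : Type*} [Field F] {n : ℕ}

/-- the matrices -/
def mt (n : ℕ) (F : Type*) [Field F] : SpecialLinearGroup (Fin n) F →* Matrix (Fin n) (Fin n) F :=
  (Units.coeHom (Matrix (Fin n) (Fin n) F)).comp SpecialLinearGroup.toGL

theorem mt_apply (u : SpecialLinearGroup (Fin n) F) : mt n F u = (u : Matrix (Fin n) (Fin n) F) := rfl

theorem mt_injective : Function.Injective (mt n F) := fun _ _ h => Subtype.ext h

/-- transvections -/
def tv (v g : Fin n → F) (h : g ⬝ᵥ v = 0) : SpecialLinearGroup (Fin n) F := ⟨1 + vecMulVec v g, det_tv h⟩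

theorem tv_mulVec (v g : Fin n → F) (h : g ⬝ᵥ v = 0) (w : Fin n → F) :
    mt n F (tv v g h) *ᵥ w = w + (g ⬝ᵥ w) • v := by
  change (1 + vecMulVec v g) *ᵥ w = _
  rw [add_mulVec, one_mulVec, vecMulVec_mulVec]
  simp

theorem tv_mem_left {v f g : Fin n → F} (hf : f ⬝ᵥ v = 0) (h : g ⬝ᵥ v = 0) : tv v g h ∈ U (mt n F) v f := by
  refine ⟨fun w => ?_, fun w _ => ⟨g ⬝ᵥ w, ?_⟩, ?_⟩
  · rw [tv_mulVec, add_sub_cancel_left, dotProduct_smul, hf, smul_zero]
  · rw [tv_mulVec, add_sub_cancel_left]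
  · rw [tv_mulVec, h, zero_smul, add_zero]

theorem tv_mem_right {v f w' : Fin n → F} (hf : f ⬝ᵥ v = 0) (h : f ⬝ᵥ w' = 0) : tv w' f h ∈ U (mt n F) v f := by
  refine ⟨fun w => ?_, fun w hw => ⟨0, ?_⟩, ?_⟩
  · rw [tv_mulVec, add_sub_cancel_left, dotProduct_smul, h, smul_zero]
  · rw [tv_mulVec, add_sub_cancel_left, hw, zero_smul, zero_smul]
  · rw [tv_mulVec, hf, zero_smul, add_zero]

/-- `z` commutes with `tv v g` -/
theorem comm_tv {v g : Fin n → F} {h : g ⬝ᵥ v = 0} {z : SpecialLinearGroup (Fin n) F}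
    (hz : tv v g h * z = z * tv v g h) (w : Fin n → F) :
    (g ⬝ᵥ (mt n F z *ᵥ w)) • v = (g ⬝ᵥ w) • (mt n F z *ᵥ v) := by
  have h1 := congrArg (fun a : SpecialLinearGroup (Fin n) F => mt n F a *ᵥ w) hz
  simp only [mul_mulVec] at h1
  rw [tv_mulVec, tv_mulVec, mulVec_add, mulVec_smul] at h1
  exact add_left_cancel h1

/-- the centralizer of `U v f` -/
theorem form_of_comm {v f : Fin n → F} (hv : v ≠ 0) (hf : f ≠ 0) (hfv : f ⬝ᵥ v = 0)
    {z : SpecialLinearGroup (Fin n) F} (hz : ∀ u ∈ U (mt n F) v f, u * z = z * u) :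
    ∃ a b : F, ∀ w, mt n F z *ᵥ w = a • w + (b * (f ⬝ᵥ w)) • v := by
  obtain ⟨i, hi⟩ := Function.ne_iff.1 hf
  have hi' : f i ≠ 0 := hi
  have hfs : f ⬝ᵥ (Pi.single i 1) = f i := by simp
  -- z v = a v
  have h1 := comm_tv (hz _ (tv_mem_left hfv hfv)) (Pi.single i 1)
  rw [hfs] at h1
  set a := (f i)⁻¹ * (f ⬝ᵥ (mt n F z *ᵥ Pi.single i 1)) with ha
  have hzv : mt n F z *ᵥ v = a • v := by
    rw [ha, mul_smul, h1, smul_smul, inv_mul_cancel₀ hi', one_smul]
  -- g z = a g for g v = 0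
  obtain ⟨j, hj⟩ := Function.ne_iff.1 hv
  have hj' : v j ≠ 0 := hj
  have h2 : ∀ g : Fin n → F, g ⬝ᵥ v = 0 → ∀ w, g ⬝ᵥ (mt n F z *ᵥ w) = a * (g ⬝ᵥ w) := by
    intro g hg w
    have h3 := comm_tv (hz _ (tv_mem_left hfv hg)) w
    rw [hzv, smul_smul] at h3
    have h4 := congrFun h3 j
    rw [Pi.smul_apply, Pi.smul_apply, smul_eq_mul, smul_eq_mul] at h4
    have h5 := mul_right_cancel₀ hj' h4
    rw [h5, mul_comm]
  -- z w = a w on ker f
  have h3 : ∀ w, f ⬝ᵥ w = 0 → mt n F z *ᵥ w = a • w := by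
    intro w hw
    have h4 := comm_tv (hz _ (tv_mem_right hfv hw)) (Pi.single i 1)
    rw [h2 f hfv, hfs] at h4
    have h5 := congrArg (fun t => (f i)⁻¹ • t) h4
    simp only [smul_smul] at h5
    rw [inv_mul_cancel₀ hi', one_smul, show (f i)⁻¹ * (a * f i) = a by field_simp] at h5
    exact h5.symm
  -- the rest
  obtain ⟨b, hb⟩ := exists_smul_of_annih (v := v) (u := mt n F z *ᵥ (Pi.single i 1) - a • Pi.single i 1) hv (by
    intro g hg
    rw [dotProduct_sub, h2 g hg, dotProduct_smul, smul_eq_mul, sub_self])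
  refine ⟨a, b * (f i)⁻¹, fun w => ?_⟩
  have h4 : f ⬝ᵥ (w - ((f i)⁻¹ * (f ⬝ᵥ w)) • Pi.single i 1) = 0 := by
    rw [dotProduct_sub, dotProduct_smul, hfs, smul_eq_mul]
    field_simp
    ring
  have h5 := h3 _ h4
  rw [mulVec_sub, mulVec_smul] at h5
  have h6 : mt n F z *ᵥ (Pi.single i 1) = a • Pi.single i 1 + b • v := by rw [← hb]; abel
  rw [h6] at h5
  have h7 : mt n F z *ᵥ w = a • (w - ((f i)⁻¹ * (f ⬝ᵥ w)) • Pi.single i 1) +
      ((f i)⁻¹ * (f ⬝ᵥ w)) • (a • Pi.single i 1 + b • v) := by rw [← h5]; abel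
  rw [h7, smul_sub, smul_add, smul_smul, smul_smul, smul_smul, mul_comm a ((f i)⁻¹ * _),
    show (f i)⁻¹ * (f ⬝ᵥ w) * b = b * (f i)⁻¹ * (f ⬝ᵥ w) by ring]
  abel

/-- a non-central element -/
theorem b_ne {v f : Fin n → F} {z : SpecialLinearGroup (Fin n) F} (hz : (z : SpecialLinearGroup (Fin n) F ⧸
    center (SpecialLinearGroup (Fin n) F)) ≠ 1) {a b : F} (h : ∀ w, mt n F z *ᵥ w = a • w + (b * (f ⬝ᵥ w)) • v) :
    b ≠ 0 := by
  rintro rfl
  apply hz
  rw [QuotientGroup.eq_one_iff, mem_center_iff]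
  intro g
  apply mt_injective
  refine ext_mulVec fun w => ?_
  rw [mul_mulVec, mul_mulVec, h, h]
  simp [mulVec_smul]

theorem center_scalar {z : SpecialLinearGroup (Fin n) F} (hz : z ∈ center (SpecialLinearGroup (Fin n) F)) :
    ∃ c : F, mt n F z = scalar (Fin n) c := by
  obtain ⟨r, -, hr⟩ := Matrix.SpecialLinearGroup.mem_center_iff.1 hz
  exact ⟨r, hr.symm⟩

theorem mem_center_of_scalar {z : SpecialLinearGroup (Fin n) F} {c : F} (hz : mt n F z = scalar (Fin n) c) :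
    z ∈ center (SpecialLinearGroup (Fin n) F) := by
  rw [mem_center_iff]
  intro g
  apply mt_injective
  rw [map_mul, map_mul, hz]
  exact ((scalar_commute c (fun r => Commute.all c r) (mt n F g)).eq).symm

abbrev PS (n : ℕ) (F : Type*) [Field F] := ProjectiveSpecialLinearGroup (Fin n) F

theorem noCop [Fintype F] (hn : 3 ≤ n) [IsSimpleGroup (PS n F)] (hna : ¬ IsMulCommutative (PS n F)) :
    NoCop (PS n F) := by
  obtain ⟨p, hp⟩ := CharP.exists F
  have hpp : Fact p.Prime := ⟨CharP.char_is_prime F p⟩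
  have hfin : Finite (PS n F) := Quotient.finite _
  refine noCop_of_char hna hpp.out ⊥ IsPGroup.of_bot ?_
  intro x y hx hy _ hc hpx _
  have hx1 : x ≠ 1 := fun h => by rw [h, orderOf_one] at hx; exact Nat.not_prime_one hx
  have hy1 : y ≠ 1 := fun h => by rw [h, orderOf_one] at hy; exact Nat.not_prime_one hy
  obtain ⟨Y, rfl⟩ := QuotientGroup.mk_surjective y
  have hfinn : 3 ≤ Fintype.card (Fin n) := by rwa [Fintype.card_fin]
  -- objects
  let O := {o : (Fin n → F) × (Fin n → F) // o.1 ≠ 0 ∧ o.2 ≠ 0 ∧ o.2 ⬝ᵥ o.1 = 0}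
  let V : O → Subgroup (PS n F) := fun o => (U (mt n F) o.1.1 o.1.2).map (QuotientGroup.mk' _)
  have hV : ∀ o, IsPGroup p (V o) := fun o => isPGroup_map mt_injective _ _
  have hZ : ∀ z ∈ center (SpecialLinearGroup (Fin n) F), ∀ k : ℕ, z ^ p ^ k = 1 → z = 1 := by
    intro z hz k hk
    obtain ⟨c, hc⟩ := center_scalar hz
    exact torsion_free mt_injective hc hk
  have form : ∀ (o : O) (z : SpecialLinearGroup (Fin n) F),
      (∀ u ∈ V o, u * (z : PS n F) = z * u) → (z : PS n F) ≠ 1 →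
      ∃ a b : F, b ≠ 0 ∧ ∀ w, mt n F z *ᵥ w = a • w + (b * (o.1.2 ⬝ᵥ w)) • o.1.1 := by
    intro o z hz hz1
    obtain ⟨a, b, hab⟩ := form_of_comm (z := z) o.2.1 o.2.2.1 o.2.2.2 (by
      intro u hu
      refine comm_of_comm hZ (pow_eq_one mt_injective hu) ?_
      exact hz _ (mem_map_of_mem _ hu))
    exact ⟨a, b, b_ne hz1 hab, hab⟩
  -- the relation is constant
  have key : ∀ o o' : O, o.1.2 ⬝ᵥ (mt n F Y *ᵥ o.1.1) = 0 → o'.1.2 ⬝ᵥ (mt n F Y *ᵥ o'.1.1) = 0 := by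
    intro o o' ho
    obtain ⟨z, c, hcy, ⟨g, hzg⟩, hz, hz'⟩ := exists_pair hpp.out hc hpx V hV o o'
    obtain ⟨Z, rfl⟩ := QuotientGroup.mk_surjective z
    obtain ⟨C, rfl⟩ := QuotientGroup.mk_surjective c
    have hz1 : (Z : PS n F) ≠ 1 := by
      rw [hzg]
      intro h
      apply hx1
      have : x = g⁻¹ * (g * x * g⁻¹) * g := by group
      rw [this, h]; group
    have hz1' : ((C * Z * C⁻¹ : SpecialLinearGroup (Fin n) F) : PS n F) ≠ 1 := by
      intro h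
      apply hz1
      have h2 : (C : PS n F) * Z * (C : PS n F)⁻¹ = 1 := h
      rw [mul_inv_eq_one] at h2
      exact mul_eq_left.1 h2
    obtain ⟨a, b, hb, hab⟩ := form o Z hz hz1
    obtain ⟨a', b', hb', hab'⟩ := form o' (C * Z * C⁻¹) hz' hz1'
    obtain ⟨⟨v, f⟩, hv, hf, hvf⟩ := o
    obtain ⟨⟨v', f'⟩, hv', hf', hvf'⟩ := o'
    change ∀ w, mt n F Z *ᵥ w = a • w + (b * (f ⬝ᵥ w)) • v at hab
    change ∀ w, mt n F (C * Z * C⁻¹) *ᵥ w = a' • w + (b' * (f' ⬝ᵥ w)) • v' at hab'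
    change f ⬝ᵥ (mt n F Y *ᵥ v) = 0 at ho
    change f' ⬝ᵥ (mt n F Y *ᵥ v') = 0
    -- compare
    have e1 : ∀ w, a • (mt n F C *ᵥ w) + (b * (f ⬝ᵥ w)) • (mt n F C *ᵥ v) =
        a' • (mt n F C *ᵥ w) + (b' * (f' ⬝ᵥ (mt n F C *ᵥ w))) • v' := by
      intro w
      rw [← hab', ← mul_mulVec, inv_mul_cancel_right, mul_mulVec, hab, mulVec_add, mulVec_smul, mulVec_smul]
    have haa : a = a' := by
      obtain ⟨w, hw, hw1, hw2⟩ := exists_ne_of_card hfinn f (f' ᵥ* mt n F C)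
      have h1 := e1 w
      rw [dotProduct_comm f w, hw1, dotProduct_mulVec, dotProduct_comm _ w, hw2, mul_zero, mul_zero, zero_smul,
        zero_smul, add_zero, add_zero] at h1
      by_contra hne
      have h2 : (a - a') • (mt n F C *ᵥ w) = 0 := by rw [sub_smul, h1, sub_self]
      rw [smul_eq_zero, sub_eq_zero] at h2
      have h3 := h2.resolve_left hne
      apply hw
      rw [← inv_mulVec (mt n F) C w, h3, mulVec_zero]
    have e2 : ∀ w, (b * (f ⬝ᵥ w)) • (mt n F C *ᵥ v) = (b' * (f' ⬝ᵥ (mt n F C *ᵥ w))) • v' := by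
      intro w
      have := e1 w
      rw [haa] at this
      exact add_left_cancel this
    obtain ⟨i, hi⟩ := Function.ne_iff.1 hf
    have hi' : f i ≠ 0 := hi
    have hfs : f ⬝ᵥ (Pi.single i 1) = f i := by simp
    obtain ⟨s, hs⟩ : ∃ s : F, mt n F C *ᵥ v = s • v' := by
      have h1 := congrArg (fun t => (b * f i)⁻¹ • t) (e2 (Pi.single i 1))
      simp only [hfs, smul_smul] at h1
      rw [inv_mul_cancel₀ (mul_ne_zero hb hi'), one_smul] at h1
      exact ⟨_, h1⟩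
    have hs0 : s ≠ 0 := by
      rintro rfl
      apply hv
      rw [← inv_mulVec (mt n F) C v, hs, zero_smul, mulVec_zero]
    have e3 : ∀ w, f' ⬝ᵥ (mt n F C *ᵥ w) = b'⁻¹ * b * s * (f ⬝ᵥ w) := by
      intro w
      have h1 := e2 w
      rw [hs, smul_smul] at h1
      obtain ⟨j, hj⟩ := Function.ne_iff.1 hv'
      have hj' : v' j ≠ 0 := hj
      have h2 := congrFun h1 j
      rw [Pi.smul_apply, Pi.smul_apply, smul_eq_mul, smul_eq_mul] at h2
      have h3 := mul_right_cancel₀ hj' h2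
      field_simp
      linear_combination -h3
    obtain ⟨ζ, hζ, hζ'⟩ := exists_zeta hcy
    obtain ⟨r, hr⟩ := center_scalar hζ
    have hCY : ∀ w, mt n F C *ᵥ (mt n F Y *ᵥ w) = r • (mt n F Y *ᵥ (mt n F C *ᵥ w)) := by
      intro w
      rw [← mul_mulVec, hζ', mul_mulVec, hr, mul_mulVec, scalar_mulVec]
    have hv2 : v' = s⁻¹ • (mt n F C *ᵥ v) := by rw [hs, smul_smul, inv_mul_cancel₀ hs0, one_smul]
    have hr0 : r ≠ 0 := by
      rintro rfl
      apply hv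
      have h1 := hCY (mt n F Y⁻¹ *ᵥ v)
      rw [mulVec_inv, zero_smul] at h1
      rw [← inv_mulVec (mt n F) C v, h1, mulVec_zero]
    have h5 : mt n F Y *ᵥ (mt n F C *ᵥ v) = r⁻¹ • (mt n F C *ᵥ (mt n F Y *ᵥ v)) := by
      rw [hCY, smul_smul, inv_mul_cancel₀ hr0, one_smul]
    rw [hv2, mulVec_smul, h5, dotProduct_smul, dotProduct_smul, e3, ho]
    simp
  -- a pair with `f (Y v) = 0`
  have hn0 : 0 < n := by omega
  let v₀ : Fin n → F := Pi.single ⟨0, hn0⟩ 1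
  have hv₀ : v₀ ≠ 0 := fun h => by
    have := congrFun h ⟨0, hn0⟩
    simp [v₀] at this
  obtain ⟨f₀, hf₀, h1, h2⟩ := exists_ne_of_card hfinn v₀ (mt n F Y *ᵥ v₀)
  have hall : ∀ v f : Fin n → F, v ≠ 0 → f ⬝ᵥ v = 0 → f ⬝ᵥ (mt n F Y *ᵥ v) = 0 := by
    intro v f hv hfv
    by_cases hf : f = 0
    · rw [hf, zero_dotProduct]
    · exact key ⟨(v₀, f₀), hv₀, hf₀, h1⟩ ⟨(v, f), hv, hf, hfv⟩ h2
  obtain ⟨c, hc⟩ := exists_scalar (A := mt n F Y) (by
    intro v
    by_cases hv : v = 0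
    · exact ⟨0, by rw [hv, mulVec_zero, smul_zero]⟩
    · exact exists_smul_of_annih hv fun g hg => hall v g hv hg)
  exact hy1 ((QuotientGroup.eq_one_iff Y).2 (mem_center_of_scalar hc))

end Cfsg.Agent.H530.Psl
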