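import Cfsg.Agent.H995.CopSmall
import Cfsg.Agent.H843.N29

/-!
# No coprime class sizes: `Fi₂₄'` (helper530, for S4158)
-/

set_option autoImplicit false

namespace Cfsg.Agent.H530.SporFi24

open Subgroup Cfsg Cfsg.Spor Cfsg.Agent.H530.Cop Cfsg.Agent.H995.CopTwo

theorem card_cent {x : Fi24} (hx : orderOf x = 29) : Nat.card (centralizer ({x} : Set Fi24)) = 29 := by
  have hB : Nat.card (zpowers x) = 29 := by rw [Nat.card_zpowers, hx]
  obtain ⟨f, -, hf⟩ := H843.Fi24N.exists_iso (MulEquiv.refl Fi24) rfl (p := 29) (by norm_num)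
    (by rw [H843.Fi24N.card_Fi24]; norm_num) H843.D29.order (zpowers x) hB
  rw [← H729.PairBase.centralizer_zpowers_eq, ← hf, H841.Transport.coe_map, ← H841.Transport.map_centralizer, H841.Transport.card_map,
    H843.D29.main.2]

theorem noCop_fi24 {G : Type*} [Group G] (h : Spor.IsoFi24' G) : NoCop G := by
  obtain ⟨e⟩ := h
  refine NoCop.congr e.symm ?_
  have hc := Cfsg.Agent.R08.FiTwentyFour.isFi24'
  have hs : IsSimpleGroup Fi24' := hc.1
  have : Finite Fi24' := Nat.finite_of_card_ne_zero (by rw [hc.2]; norm_num)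
  have : Finite Fi24 := Nat.finite_of_card_ne_zero (by rw [H843.Fi24N.card_Fi24]; norm_num)
  exact noCop_of_r (r := 29) (by norm_num) (by rw [hc.2]; norm_num) (by rw [hc.2]; norm_num)
    (cent_of_hom (Subgroup.subtype _) (Subgroup.subtype_injective _) (by norm_num) fun x hx => card_cent hx)

end Cfsg.Agent.H530.SporFi24
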